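import Cfsg.Agent.Lib.SL3Max.C6.Rho

/-!
Characteristic eleven: a word in `Fm`, `Fm'` and `uu` is a transvection.
Main result: `Ctx.eleven_word`.
-/

set_option autoImplicit false
set_option maxHeartbeats 1000000

namespace Cfsg.Agent.SL3Max.C6

open Matrix

variable {F : Type*} [Field F] (κ : Ctx F)

/-- The transvection. -/
def Ctx.word : GL (Fin 3) F :=
  κ.Fm * κ.Fm' * κ.uu * κ.Fm * κ.uu * κ.Fm * κ.uu * κ.Fm'⁻¹ * κ.uu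

theorem Ctx.eleven_word (h11 : (11 : F) = 0) :
    κ.word ≠ 1 ∧ ((κ.word : Matrix (Fin 3) (Fin 3) F) - 1) * ((κ.word : Matrix (Fin 3) (Fin 3) F) - 1) = 0 := by
  have hrel := κ.rel
  have e0 : (!![1, 1, 1; 1, κ.ω, 10 + 10 * κ.ω; 1, 10 + 10 * κ.ω, κ.ω] : Matrix (Fin 3) (Fin 3) F) * !![1, 10 + 10 * κ.ω, 10 + 10 * κ.ω; κ.ω, κ.ω, 10 + 10 * κ.ω; κ.ω, 10 + 10 * κ.ω, κ.ω] = !![1 + 2 * κ.ω, 9 + 10 * κ.ω, 9 + 10 * κ.ω; 1 + 10 * κ.ω, 9 + 10 * κ.ω, 1 + 10 * κ.ω; 1 + 10 * κ.ω, 1 + 10 * κ.ω, 9 + 10 * κ.ω] := by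
    ext i j; fin_cases i <;> fin_cases j <;> simp [Matrix.mul_apply, Fin.sum_univ_three] <;> grind
  have e1 : (!![1 + 2 * κ.ω, 9 + 10 * κ.ω, 9 + 10 * κ.ω; 1 + 10 * κ.ω, 9 + 10 * κ.ω, 1 + 10 * κ.ω; 1 + 10 * κ.ω, 1 + 10 * κ.ω, 9 + 10 * κ.ω] : Matrix (Fin 3) (Fin 3) F) * !![1, 0, 0; 0, 10, 0; 0, 0, 10] = !![1 + 2 * κ.ω, 2 + κ.ω, 2 + κ.ω; 1 + 10 * κ.ω, 2 + κ.ω, 10 + κ.ω; 1 + 10 * κ.ω, 10 + κ.ω, 2 + κ.ω] := by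
    ext i j; fin_cases i <;> fin_cases j <;> simp [Matrix.mul_apply, Fin.sum_univ_three] <;> grind
  have e2 : (!![1 + 2 * κ.ω, 2 + κ.ω, 2 + κ.ω; 1 + 10 * κ.ω, 2 + κ.ω, 10 + κ.ω; 1 + 10 * κ.ω, 10 + κ.ω, 2 + κ.ω] : Matrix (Fin 3) (Fin 3) F) * !![1, 1, 1; 1, κ.ω, 10 + 10 * κ.ω; 1, 10 + 10 * κ.ω, κ.ω] = !![5 + 4 * κ.ω, 10 + κ.ω, 10 + κ.ω; 2 + κ.ω, 2 + κ.ω, 10 + 6 * κ.ω; 2 + κ.ω, 10 + 6 * κ.ω, 2 + κ.ω] := by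
    ext i j; fin_cases i <;> fin_cases j <;> simp [Matrix.mul_apply, Fin.sum_univ_three] <;> grind
  have e3 : (!![5 + 4 * κ.ω, 10 + κ.ω, 10 + κ.ω; 2 + κ.ω, 2 + κ.ω, 10 + 6 * κ.ω; 2 + κ.ω, 10 + 6 * κ.ω, 2 + κ.ω] : Matrix (Fin 3) (Fin 3) F) * !![1, 0, 0; 0, 10, 0; 0, 0, 10] = !![5 + 4 * κ.ω, 1 + 10 * κ.ω, 1 + 10 * κ.ω; 2 + κ.ω, 9 + 10 * κ.ω, 1 + 5 * κ.ω; 2 + κ.ω, 1 + 5 * κ.ω, 9 + 10 * κ.ω] := by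
    ext i j; fin_cases i <;> fin_cases j <;> simp [Matrix.mul_apply, Fin.sum_univ_three] <;> grind
  have e4 : (!![5 + 4 * κ.ω, 1 + 10 * κ.ω, 1 + 10 * κ.ω; 2 + κ.ω, 9 + 10 * κ.ω, 1 + 5 * κ.ω; 2 + κ.ω, 1 + 5 * κ.ω, 9 + 10 * κ.ω] : Matrix (Fin 3) (Fin 3) F) * !![1, 1, 1; 1, κ.ω, 10 + 10 * κ.ω; 1, 10 + 10 * κ.ω, κ.ω] = !![7 + 2 * κ.ω, 4 + 5 * κ.ω, 4 + 5 * κ.ω; 1 + 5 * κ.ω, 7 + 10 * κ.ω, 9 + 10 * κ.ω; 1 + 5 * κ.ω, 9 + 10 * κ.ω, 7 + 10 * κ.ω] := by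
    ext i j; fin_cases i <;> fin_cases j <;> simp [Matrix.mul_apply, Fin.sum_univ_three] <;> grind
  have e5 : (!![7 + 2 * κ.ω, 4 + 5 * κ.ω, 4 + 5 * κ.ω; 1 + 5 * κ.ω, 7 + 10 * κ.ω, 9 + 10 * κ.ω; 1 + 5 * κ.ω, 9 + 10 * κ.ω, 7 + 10 * κ.ω] : Matrix (Fin 3) (Fin 3) F) * !![1, 0, 0; 0, 10, 0; 0, 0, 10] = !![7 + 2 * κ.ω, 7 + 6 * κ.ω, 7 + 6 * κ.ω; 1 + 5 * κ.ω, 4 + κ.ω, 2 + κ.ω; 1 + 5 * κ.ω, 2 + κ.ω, 4 + κ.ω] := by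
    ext i j; fin_cases i <;> fin_cases j <;> simp [Matrix.mul_apply, Fin.sum_univ_three] <;> grind
  have e6 : (!![7 + 2 * κ.ω, 7 + 6 * κ.ω, 7 + 6 * κ.ω; 1 + 5 * κ.ω, 4 + κ.ω, 2 + κ.ω; 1 + 5 * κ.ω, 2 + κ.ω, 4 + κ.ω] : Matrix (Fin 3) (Fin 3) F) * !![1, 10 + 10 * κ.ω, 10 + 10 * κ.ω; κ.ω, 10 + 10 * κ.ω, κ.ω; κ.ω, κ.ω, 10 + 10 * κ.ω] = !![6 + 4 * κ.ω, 10 + 9 * κ.ω, 10 + 9 * κ.ω; 10 + 9 * κ.ω, 7 * κ.ω, 2; 10 + 9 * κ.ω, 2, 7 * κ.ω] := by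
    ext i j; fin_cases i <;> fin_cases j <;> simp [Matrix.mul_apply, Fin.sum_univ_three] <;> grind
  have e7 : (!![6 + 4 * κ.ω, 10 + 9 * κ.ω, 10 + 9 * κ.ω; 10 + 9 * κ.ω, 7 * κ.ω, 2; 10 + 9 * κ.ω, 2, 7 * κ.ω] : Matrix (Fin 3) (Fin 3) F) * !![1, 0, 0; 0, 10, 0; 0, 0, 10] = !![6 + 4 * κ.ω, 1 + 2 * κ.ω, 1 + 2 * κ.ω; 10 + 9 * κ.ω, 4 * κ.ω, 9; 10 + 9 * κ.ω, 9, 4 * κ.ω] := by
    ext i j; fin_cases i <;> fin_cases j <;> simp [Matrix.mul_apply, Fin.sum_univ_three] <;> grind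
  have hr : κ.r3⁻¹ = 7 + 3 * κ.ω := by
    refine inv_eq_of_mul_eq_one_right ?_
    simp only [Ctx.r3]; grind
  have hv : (κ.word : Matrix (Fin 3) (Fin 3) F) = !![4 + 6 * κ.ω, 6, 6; 5, 5 + 8 * κ.ω, 4 + 8 * κ.ω; 5, 4 + 8 * κ.ω, 5 + 8 * κ.ω] := by
    have h0 : (κ.word : Matrix (Fin 3) (Fin 3) F) = (-(κ.r3⁻¹ ^ 5)) • (!![6 + 4 * κ.ω, 1 + 2 * κ.ω, 1 + 2 * κ.ω; 10 + 9 * κ.ω, 4 * κ.ω, 9; 10 + 9 * κ.ω, 9, 4 * κ.ω]) := by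
      rw [← e7, ← e6, ← e5, ← e4, ← e3, ← e2, ← e1, ← e0, Ctx.word]
      simp only [Units.val_mul]
      rw [show ((κ.Fm'⁻¹ : GL (Fin 3) F) : Matrix (Fin 3) (Fin 3) F) = (-κ.r3⁻¹) • !![1, 10 + 10 * κ.ω, 10 + 10 * κ.ω; κ.ω, 10 + 10 * κ.ω, κ.ω; κ.ω, κ.ω, 10 + 10 * κ.ω] from by
        ext i j; fin_cases i <;> fin_cases j <;> simp [Ctx.Fm'] <;> grind]
      rw [show (κ.Fm' : Matrix (Fin 3) (Fin 3) F) = κ.r3⁻¹ • !![1, 10 + 10 * κ.ω, 10 + 10 * κ.ω; κ.ω, κ.ω, 10 + 10 * κ.ω; κ.ω, 10 + 10 * κ.ω, κ.ω] from by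
        ext i j; fin_cases i <;> fin_cases j <;> simp [Ctx.Fm'] <;> grind]
      rw [show (κ.Fm : Matrix (Fin 3) (Fin 3) F) = κ.r3⁻¹ • !![1, 1, 1; 1, κ.ω, 10 + 10 * κ.ω; 1, 10 + 10 * κ.ω, κ.ω] from by
        ext i j; fin_cases i <;> fin_cases j <;> simp [Ctx.Fm] <;> grind]
      rw [show (κ.uu : Matrix (Fin 3) (Fin 3) F) = !![1, 0, 0; 0, 10, 0; 0, 0, 10] from by
        ext i j; fin_cases i <;> fin_cases j <;> simp [Ctx.uu] <;> grind]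
      simp only [smul_mul_assoc, mul_smul_comm, smul_smul]
      congr 1
      ring
    rw [h0, hr]
    ext i j; fin_cases i <;> fin_cases j <;> simp <;> grind
  refine ⟨fun h => ?_, ?_⟩
  · have h1 := congrArg (fun g : GL (Fin 3) F => (g : Matrix (Fin 3) (Fin 3) F) 0 1) h
    simp [hv] at h1
    exact one_ne_zero (α := F) (by linear_combination 2 * h1 - h11)
  · rw [hv]
    ext i j; fin_cases i <;> fin_cases j <;> simp [Matrix.mul_apply, Fin.sum_univ_three] <;> grind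

end Cfsg.Agent.SL3Max.C6
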