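/-
The model of an extraspecial group of order 27 in `GL₃` and its quaternion group of automorphisms.
Main results: `Ctx`, `Ctx.R0`, `Ctx.card_R0`, `Ctx.le_of_noncomm`, `Ctx.exists_word`.
-/
import Mathlib
import Cfsg.Prelude.Def_GeometricClasses

set_option autoImplicit false
set_option linter.unusedSectionVars false

namespace Cfsg.Agent.SL3Max.C6

open Matrix

/-- A primitive cube root of unity in a field of odd characteristic. -/
structure Ctx (F : Type*) [Field F] where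
  ω : F
  cube : ω ^ 3 = 1
  ne : ω ≠ 1
  two : (2 : F) ≠ 0

variable {F : Type*} [Field F] (κ : Ctx F)

namespace Ctx

lemma rel : κ.ω ^ 2 + κ.ω + 1 = 0 := by
  have h : (κ.ω - 1) * (κ.ω ^ 2 + κ.ω + 1) = 0 := by linear_combination κ.cube
  exact (mul_eq_zero.1 h).resolve_left (sub_ne_zero.2 κ.ne)

lemma ω_ne : κ.ω ≠ 0 := fun h => by simpa [h] using κ.cube

include κ in
lemma three : (3 : F) ≠ 0 := fun h => by
  have h1 : (κ.ω - 1) ^ 3 = 0 := by linear_combination κ.cube + (κ.ω - κ.ω ^ 2) * h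
  exact κ.ne (sub_eq_zero.1 (pow_eq_zero_iff (by norm_num) |>.1 h1))

/-- A square root of `-3`. -/
def r3 : F := κ.ω - κ.ω ^ 2

lemma r3_sq : κ.r3 * κ.r3 = -3 := by rw [r3]; linear_combination (κ.ω ^ 2 - 3 * κ.ω + 3) * κ.rel

lemma r3_ne : κ.r3 ≠ 0 := fun h => κ.three (by have := κ.r3_sq; rw [h, mul_zero] at this; linear_combination this)

/-- The scalar `ω`. -/
def Z : GL (Fin 3) F where
  val := diagonal fun _ => κ.ω
  inv := diagonal fun _ => κ.ω ^ 2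
  val_inv := by rw [diagonal_mul_diagonal, ← diagonal_one]; congr 1; funext i; linear_combination κ.cube
  inv_val := by rw [diagonal_mul_diagonal, ← diagonal_one]; congr 1; funext i; linear_combination κ.cube

/-- The diagonal generator. -/
def D : GL (Fin 3) F where
  val := !![1, 0, 0; 0, κ.ω, 0; 0, 0, κ.ω ^ 2]
  inv := !![1, 0, 0; 0, κ.ω ^ 2, 0; 0, 0, κ.ω]
  val_inv := by ext i j; fin_cases i <;> fin_cases j <;> simp [← pow_succ, ← pow_succ', κ.cube]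
  inv_val := by ext i j; fin_cases i <;> fin_cases j <;> simp [← pow_succ, ← pow_succ', κ.cube]

/-- The monomial generator. -/
def C (_κ : Ctx F) : GL (Fin 3) F where
  val := !![0, 1, 0; 0, 0, 1; 1, 0, 0]
  inv := !![0, 0, 1; 1, 0, 0; 0, 1, 0]
  val_inv := by ext i j; fin_cases i <;> fin_cases j <;> simp
  inv_val := by ext i j; fin_cases i <;> fin_cases j <;> simp

/-- The Fourier matrix, of determinant one. -/
def Fm : GL (Fin 3) F where
  val := κ.r3⁻¹ • !![1, 1, 1; 1, κ.ω, κ.ω ^ 2; 1, κ.ω ^ 2, κ.ω]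
  inv := (-κ.r3⁻¹) • !![1, 1, 1; 1, κ.ω ^ 2, κ.ω; 1, κ.ω, κ.ω ^ 2]
  val_inv := by
    have hk : -(κ.r3⁻¹ * κ.r3⁻¹) * 3 = 1 := by
      have := κ.r3_sq; have := κ.r3_ne; field_simp; linear_combination -κ.r3_sq
    have := κ.rel
    ext i j; fin_cases i <;> fin_cases j <;>
      simp [Matrix.mul_apply, Fin.sum_univ_three] <;> grind
  inv_val := by
    have hk : -(κ.r3⁻¹ * κ.r3⁻¹) * 3 = 1 := by
      have := κ.r3_sq; have := κ.r3_ne; field_simp; linear_combination -κ.r3_sq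
    have := κ.rel
    ext i j; fin_cases i <;> fin_cases j <;>
      simp [Matrix.mul_apply, Fin.sum_univ_three] <;> grind

/-- The second generator of the quaternion group. -/
def Fm' : GL (Fin 3) F where
  val := κ.r3⁻¹ • !![1, κ.ω ^ 2, κ.ω ^ 2; κ.ω, κ.ω, κ.ω ^ 2; κ.ω, κ.ω ^ 2, κ.ω]
  inv := (-κ.r3⁻¹) • !![1, κ.ω ^ 2, κ.ω ^ 2; κ.ω, κ.ω ^ 2, κ.ω; κ.ω, κ.ω, κ.ω ^ 2]
  val_inv := by
    have hk : -(κ.r3⁻¹ * κ.r3⁻¹) * 3 = 1 := by
      have := κ.r3_sq; have := κ.r3_ne; field_simp; linear_combination -κ.r3_sq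
    have := κ.rel
    ext i j; fin_cases i <;> fin_cases j <;>
      simp [Matrix.mul_apply, Fin.sum_univ_three] <;> grind
  inv_val := by
    have hk : -(κ.r3⁻¹ * κ.r3⁻¹) * 3 = 1 := by
      have := κ.r3_sq; have := κ.r3_ne; field_simp; linear_combination -κ.r3_sq
    have := κ.rel
    ext i j; fin_cases i <;> fin_cases j <;>
      simp [Matrix.mul_apply, Fin.sum_univ_three] <;> grind

/-- The involution `Fm²`. -/
def t (_κ : Ctx F) : GL (Fin 3) F where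
  val := !![-1, 0, 0; 0, 0, -1; 0, -1, 0]
  inv := !![-1, 0, 0; 0, 0, -1; 0, -1, 0]
  val_inv := by ext i j; fin_cases i <;> fin_cases j <;> simp
  inv_val := by ext i j; fin_cases i <;> fin_cases j <;> simp

lemma Z_val : (κ.Z : Matrix (Fin 3) (Fin 3) F) = κ.ω • 1 := by
  ext i j; fin_cases i <;> fin_cases j <;> simp [Z]

lemma Z_comm (g : GL (Fin 3) F) : κ.Z * g = g * κ.Z := Units.ext <| by
  rw [Units.val_mul, Units.val_mul, κ.Z_val, smul_mul_assoc, one_mul, mul_smul_comm, mul_one]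

lemma Z_mem : κ.Z ∈ Geo.scalars (Fin 3) F :=
  (Geo.mem_scalars_iff _).2 ⟨Units.mk0 κ.ω κ.ω_ne, κ.Z_val⟩

lemma Z_cube : κ.Z ^ 3 = 1 := Units.ext <| by
  rw [Units.val_pow_eq_pow_val, κ.Z_val, smul_pow, one_pow, κ.cube, one_smul, Units.val_one]

lemma D_cube : κ.D ^ 3 = 1 := Units.ext <| by
  have := κ.cube
  ext i j; fin_cases i <;> fin_cases j <;> simp [D, pow_succ, Matrix.mul_apply, Fin.sum_univ_three] <;>
    grind

lemma C_cube : κ.C ^ 3 = 1 := Units.ext <| by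
  ext i j; fin_cases i <;> fin_cases j <;> simp [C, pow_succ, Matrix.mul_apply, Fin.sum_univ_three]

lemma C_D : κ.C * κ.D = κ.Z * κ.D * κ.C := Units.ext <| by
  have := κ.cube
  ext i j; fin_cases i <;> fin_cases j <;>
    simp [C, D, Z, Matrix.mul_apply, Fin.sum_univ_three] <;> grind

lemma Fm_D : κ.Fm * κ.D = κ.C * κ.Fm := Units.ext <| by
  have := κ.cube
  ext i j; fin_cases i <;> fin_cases j <;>
    simp [Fm, C, D, Matrix.mul_apply, Fin.sum_univ_three] <;> grind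

lemma Fm_C : κ.Fm * κ.C = κ.D ^ 2 * κ.Fm := Units.ext <| by
  have := κ.cube
  ext i j; fin_cases i <;> fin_cases j <;>
    simp [Fm, C, D, sq, Matrix.mul_apply, Fin.sum_univ_three] <;> grind

lemma Fm'_D : κ.Fm' * κ.D = κ.Z ^ 2 * κ.D * κ.C * κ.Fm' := Units.ext <| by
  have := κ.cube
  ext i j; fin_cases i <;> fin_cases j <;>
    simp [Fm', C, D, Z, sq, Matrix.mul_apply, Fin.sum_univ_three] <;> grind

lemma Fm'_C : κ.Fm' * κ.C = κ.Z * κ.D * κ.C ^ 2 * κ.Fm' := Units.ext <| by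
  have := κ.cube
  ext i j; fin_cases i <;> fin_cases j <;>
    simp [Fm', C, D, Z, sq, Matrix.mul_apply, Fin.sum_univ_three] <;> grind

lemma Fm_sq : κ.Fm * κ.Fm = κ.t := Units.ext <| by
  have hk : -(κ.r3⁻¹ * κ.r3⁻¹) * 3 = 1 := by
    have := κ.r3_sq; have := κ.r3_ne; field_simp; linear_combination -κ.r3_sq
  have := κ.rel
  ext i j; fin_cases i <;> fin_cases j <;>
    simp [Fm, t, Matrix.mul_apply, Fin.sum_univ_three] <;> grind

lemma Fm'_sq : κ.Fm' * κ.Fm' = κ.t := Units.ext <| by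
  have hk : -(κ.r3⁻¹ * κ.r3⁻¹) * 3 = 1 := by
    have := κ.r3_sq; have := κ.r3_ne; field_simp; linear_combination -κ.r3_sq
  have := κ.rel
  ext i j; fin_cases i <;> fin_cases j <;>
    simp [Fm', t, Matrix.mul_apply, Fin.sum_univ_three] <;> grind

lemma t_sq : κ.t * κ.t = 1 := Units.ext (t κ).val_inv

lemma det_D : (κ.D : Matrix (Fin 3) (Fin 3) F).det = 1 := by
  rw [det_fin_three]; simp [D]; linear_combination κ.cube

lemma det_C : (κ.C : Matrix (Fin 3) (Fin 3) F).det = 1 := by rw [det_fin_three]; simp [C]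

lemma det_Z : (κ.Z : Matrix (Fin 3) (Fin 3) F).det = 1 := by simp [κ.Z_val, κ.cube]

lemma det_t : (κ.t : Matrix (Fin 3) (Fin 3) F).det = 1 := by rw [det_fin_three]; simp [t]

lemma det_Fm : (κ.Fm : Matrix (Fin 3) (Fin 3) F).det = 1 := by
  have hk : -(κ.r3⁻¹ * κ.r3⁻¹) * 3 = 1 := by
    have := κ.r3_sq; have := κ.r3_ne; field_simp; linear_combination -κ.r3_sq
  have := κ.rel
  have hr : κ.r3⁻¹ * (κ.ω - κ.ω ^ 2) = 1 := inv_mul_cancel₀ κ.r3_ne
  rw [det_fin_three]; simp [Fm]; grind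

lemma det_Fm' : (κ.Fm' : Matrix (Fin 3) (Fin 3) F).det = 1 := by
  have hk : -(κ.r3⁻¹ * κ.r3⁻¹) * 3 = 1 := by
    have := κ.r3_sq; have := κ.r3_ne; field_simp; linear_combination -κ.r3_sq
  have := κ.rel
  have hr : κ.r3⁻¹ * (κ.ω - κ.ω ^ 2) = 1 := inv_mul_cancel₀ κ.r3_ne
  rw [det_fin_three]; simp [Fm']; grind

/-- The typical element of the model group. -/
def el (a b c : ℕ) : GL (Fin 3) F := κ.Z ^ a * κ.D ^ b * κ.C ^ c

lemma el_apply (a b c : ℕ) (i j : Fin 3) :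
    (κ.el a b c : Matrix (Fin 3) (Fin 3) F) i j =
      if ((i : ℕ) + c) % 3 = j then κ.ω ^ (a + b * i) else 0 := by
  have hC : ∀ c : ℕ, ((κ.C ^ c : GL (Fin 3) F) : Matrix (Fin 3) (Fin 3) F) =
      Matrix.of fun i j : Fin 3 => if ((i : ℕ) + c) % 3 = j then (1 : F) else 0 := by
    intro c
    induction c with
    | zero => ext i j; fin_cases i <;> fin_cases j <;> simp
    | succ c ih =>
      rw [pow_succ, Units.val_mul, ih]
      ext i j
      obtain h | h | h : c % 3 = 0 ∨ c % 3 = 1 ∨ c % 3 = 2 := by omega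
      all_goals
        fin_cases i <;> fin_cases j <;>
          simp [C, Matrix.mul_apply, Fin.sum_univ_three, Nat.add_mod, h]
  have hD : ∀ b : ℕ, ((κ.D ^ b : GL (Fin 3) F) : Matrix (Fin 3) (Fin 3) F) =
      diagonal fun i : Fin 3 => κ.ω ^ (b * i) := by
    intro b
    induction b with
    | zero => simp
    | succ b ih =>
      rw [pow_succ, Units.val_mul, ih]
      ext i j; fin_cases i <;> fin_cases j <;> simp [D, add_mul, pow_add]
  rw [el, Units.val_mul, Units.val_mul, Units.val_pow_eq_pow_val κ.Z, κ.Z_val, smul_pow, one_pow,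
    smul_mul_assoc, one_mul, hD, hC, smul_mul_assoc, Matrix.smul_apply, smul_eq_mul, diagonal_mul, of_apply]
  split_ifs <;> simp [pow_add]

lemma el_zero : κ.el 0 0 0 = 1 := by simp [el]

lemma Z_pow_comm (a : ℕ) (g : GL (Fin 3) F) : g * κ.Z ^ a = κ.Z ^ a * g :=
  (Commute.pow_left (κ.Z_comm g) a).eq.symm

lemma C_pow_D (c : ℕ) : κ.C ^ c * κ.D = κ.Z ^ c * κ.D * κ.C ^ c := by
  induction c with
  | zero => simp
  | succ c ih =>
    calc κ.C ^ (c + 1) * κ.D = κ.C ^ c * (κ.C * κ.D) := by rw [pow_succ, mul_assoc]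
      _ = κ.C ^ c * κ.Z * κ.D * κ.C := by rw [κ.C_D]; simp only [mul_assoc]
      _ = κ.Z * (κ.C ^ c * κ.D) * κ.C := by rw [← κ.Z_comm]; simp only [mul_assoc]
      _ = κ.Z ^ (c + 1) * κ.D * κ.C ^ (c + 1) := by
        rw [ih, pow_succ', pow_succ]; simp only [mul_assoc]

lemma C_pow_D_pow (c b : ℕ) : κ.C ^ c * κ.D ^ b = κ.Z ^ (c * b) * κ.D ^ b * κ.C ^ c := by
  induction b with
  | zero => simp
  | succ b ih =>
    calc κ.C ^ c * κ.D ^ (b + 1) = κ.C ^ c * κ.D ^ b * κ.D := by rw [pow_succ, mul_assoc]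
      _ = κ.Z ^ (c * b) * (κ.D ^ b * (κ.C ^ c * κ.D)) := by rw [ih]; simp only [mul_assoc]
      _ = κ.Z ^ (c * b) * (κ.D ^ b * κ.Z ^ c * (κ.D * κ.C ^ c)) := by
        rw [κ.C_pow_D]; simp only [mul_assoc]
      _ = _ := by rw [κ.Z_pow_comm, Nat.mul_succ, pow_add, pow_succ]; simp only [mul_assoc]

lemma el_mul (a b c a' b' c' : ℕ) :
    κ.el a b c * κ.el a' b' c' = κ.el (a + a' + c * b') (b + b') (c + c') := by
  calc κ.el a b c * κ.el a' b' c'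
      = κ.Z ^ a * κ.D ^ b * (κ.C ^ c * κ.Z ^ a') * κ.D ^ b' * κ.C ^ c' := by
        simp only [el, mul_assoc]
    _ = κ.Z ^ a * (κ.D ^ b * κ.Z ^ a') * (κ.C ^ c * κ.D ^ b') * κ.C ^ c' := by
        rw [κ.Z_pow_comm]; simp only [mul_assoc]
    _ = κ.Z ^ a * κ.Z ^ a' * (κ.D ^ b * κ.Z ^ (c * b')) * κ.D ^ b' * (κ.C ^ c * κ.C ^ c') := by
        rw [κ.Z_pow_comm, κ.C_pow_D_pow]; simp only [mul_assoc]
    _ = κ.Z ^ a * κ.Z ^ a' * κ.Z ^ (c * b') * (κ.D ^ b * κ.D ^ b') * (κ.C ^ c * κ.C ^ c') := by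
        rw [κ.Z_pow_comm (c * b') (κ.D ^ b)]; simp only [mul_assoc]
    _ = _ := by rw [el, pow_add, pow_add, pow_add, pow_add]

lemma el_mod (a b c : ℕ) : κ.el a b c = κ.el (a % 3) (b % 3) (c % 3) := by
  rw [el, el, ← pow_mod_orderOf, ← pow_eq_pow_mod a κ.Z_cube, ← pow_eq_pow_mod b κ.D_cube,
    ← pow_eq_pow_mod c κ.C_cube, pow_mod_orderOf]

/-- The model group. -/
def R0 : Subgroup (GL (Fin 3) F) where
  carrier := {g | ∃ a b c, g = κ.el a b c}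
  one_mem' := ⟨0, 0, 0, κ.el_zero.symm⟩
  mul_mem' := by
    rintro _ _ ⟨a, b, c, rfl⟩ ⟨a', b', c', rfl⟩
    exact ⟨_, _, _, κ.el_mul a b c a' b' c'⟩
  inv_mem' := by
    rintro _ ⟨a, b, c, rfl⟩
    refine ⟨2 * a + 4 * (c * b), 2 * b, 2 * c, inv_eq_of_mul_eq_one_right ?_⟩
    rw [κ.el_mul, κ.el_mod, show (a + (2 * a + 4 * (c * b)) + c * (2 * b)) % 3 = 0 from
      Nat.mod_eq_zero_of_dvd ⟨a + 2 * (c * b), by ring⟩, show (b + 2 * b) % 3 = 0 by omega,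
      show (c + 2 * c) % 3 = 0 by omega, κ.el_zero]

lemma el_mem (a b c : ℕ) : κ.el a b c ∈ κ.R0 := ⟨a, b, c, rfl⟩

lemma D_mem : κ.D ∈ κ.R0 := ⟨0, 1, 0, by simp [el]⟩

lemma C_mem : κ.C ∈ κ.R0 := ⟨0, 0, 1, by simp [el]⟩

lemma Z_mem_R0 : κ.Z ∈ κ.R0 := ⟨1, 0, 0, by simp [el]⟩

lemma R0_le_sl : κ.R0 ≤ Geo.specialLinear (Fin 3) F := by
  rintro _ ⟨a, b, c, rfl⟩
  have h : ∀ g : GL (Fin 3) F, (g : Matrix (Fin 3) (Fin 3) F).det = 1 →
      g ∈ Geo.specialLinear (Fin 3) F := fun g hg => MonoidHom.mem_ker.2 (Units.ext hg)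
  exact mul_mem (mul_mem (pow_mem (h _ κ.det_Z) a) (pow_mem (h _ κ.det_D) b))
    (pow_mem (h _ κ.det_C) c)

lemma pow_eq_pow_iff {a b : ℕ} : κ.ω ^ a = κ.ω ^ b ↔ a % 3 = b % 3 := by
  have h1 : orderOf κ.ω = 3 := by
    haveI : Fact (Nat.Prime 3) := ⟨Nat.prime_three⟩
    exact orderOf_eq_prime κ.cube κ.ne
  have hu : IsLeftRegular κ.ω := fun x y h => mul_left_cancel₀ κ.ω_ne h
  rw [← pow_mod_orderOf κ.ω a, ← pow_mod_orderOf κ.ω b, h1]
  refine ⟨fun h => ?_, fun h => by rw [h]⟩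
  exact pow_injOn_Iio_orderOf (by rw [h1]; exact Set.mem_Iio.2 (Nat.mod_lt _ (by norm_num)))
    (by rw [h1]; exact Set.mem_Iio.2 (Nat.mod_lt _ (by norm_num))) h

lemma el_eq_iff {a b c a' b' c' : ℕ} :
    κ.el a b c = κ.el a' b' c' ↔ a % 3 = a' % 3 ∧ b % 3 = b' % 3 ∧ c % 3 = c' % 3 := by
  refine ⟨fun h => ?_, fun ⟨h1, h2, h3⟩ => by rw [κ.el_mod, h1, h2, h3, ← κ.el_mod]⟩
  have key : ∀ i : Fin 3, ((i : ℕ) + c') % 3 = ((i : ℕ) + c) % 3 ∧
      κ.ω ^ (a + b * i) = κ.ω ^ (a' + b' * i) := by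
    intro i
    have h0 := congrArg (fun g : GL (Fin 3) F => (g : Matrix (Fin 3) (Fin 3) F) i
      ⟨((i : ℕ) + c) % 3, Nat.mod_lt _ (by norm_num)⟩) h
    rw [κ.el_apply, κ.el_apply] at h0
    simp only [if_true] at h0
    by_cases hc : ((i : ℕ) + c') % 3 = ((i : ℕ) + c) % 3
    · rw [if_pos hc] at h0; exact ⟨hc, h0⟩
    · rw [if_neg hc] at h0; exact absurd h0 (pow_ne_zero _ κ.ω_ne)
  have h0 := key 0
  have h1 := (key 1).2
  simp only [Fin.val_zero, Fin.val_one, mul_zero, add_zero, zero_add, mul_one] at h0 h1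
  rw [κ.pow_eq_pow_iff] at h1
  have h00 := κ.pow_eq_pow_iff.1 h0.2
  omega

lemma commute_el {a b c a' b' c' : ℕ} :
    κ.el a b c * κ.el a' b' c' = κ.el a' b' c' * κ.el a b c ↔ c * b' % 3 = c' * b % 3 := by
  rw [κ.el_mul, κ.el_mul, κ.el_eq_iff]
  omega

lemma el_mem_scalars_iff {a b c : ℕ} :
    κ.el a b c ∈ Geo.scalars (Fin 3) F ↔ b % 3 = 0 ∧ c % 3 = 0 := by
  constructor
  · intro h
    obtain ⟨u, hu⟩ := (Geo.mem_scalars_iff _).1 h
    have hcomm : ∀ g : GL (Fin 3) F, κ.el a b c * g = g * κ.el a b c := fun g => Units.ext <| by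
      rw [Units.val_mul, Units.val_mul, hu, smul_mul_assoc, one_mul, mul_smul_comm, mul_one]
    have h1 := κ.commute_el.1 (hcomm (κ.el 0 1 0))
    have h2 := κ.commute_el.1 (hcomm (κ.el 0 0 1))
    omega
  · rintro ⟨hb, hc⟩
    rw [κ.el_mod, hb, hc, el, pow_zero, pow_zero, mul_one, mul_one]
    exact pow_mem κ.Z_mem _

lemma card_R0 : Nat.card κ.R0 = 27 := by
  have h : Function.Bijective (fun x : Fin 3 × Fin 3 × Fin 3 =>
      (⟨κ.el x.1 x.2.1 x.2.2, κ.el_mem _ _ _⟩ : κ.R0)) := by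
    constructor
    · rintro ⟨a, b, c⟩ ⟨a', b', c'⟩ h
      have h1 := κ.el_eq_iff.1 (congrArg Subtype.val h)
      simp only [Nat.mod_eq_of_lt (Fin.isLt _)] at h1
      simp only [Prod.mk.injEq, Fin.ext_iff]
      exact h1
    · rintro ⟨_, a, b, c, rfl⟩
      exact ⟨(⟨a % 3, Nat.mod_lt _ (by norm_num)⟩, ⟨b % 3, Nat.mod_lt _ (by norm_num)⟩,
        ⟨c % 3, Nat.mod_lt _ (by norm_num)⟩), Subtype.ext (κ.el_mod a b c).symm⟩
  rw [← Nat.card_eq_of_bijective _ h]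
  simp

/-- Two noncommuting elements generate the model group. -/
lemma le_of_noncomm [Finite F] {K : Subgroup (GL (Fin 3) F)} {x y : GL (Fin 3) F} (hx : x ∈ κ.R0)
    (hy : y ∈ κ.R0) (hxK : x ∈ K) (hyK : y ∈ K) (hne : x * y ≠ y * x) : κ.R0 ≤ K := by
  set L := K ⊓ κ.R0
  have hdvd : Nat.card L ∣ 3 ^ 3 := by
    rw [show (3 : ℕ) ^ 3 = 27 from rfl, ← κ.card_R0]
    exact Subgroup.card_dvd_of_le inf_le_right
  obtain ⟨k, hk, hcard⟩ := (Nat.dvd_prime_pow Nat.prime_three).1 hdvd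
  haveI : Fact (Nat.Prime 3) := ⟨Nat.prime_three⟩
  have hk3 : k = 3 := by
    by_contra hk3
    refine hne ?_
    have hx' : x ∈ L := ⟨hxK, hx⟩
    have hy' : y ∈ L := ⟨hyK, hy⟩
    suffices h : ∀ u v : L, u * v = v * u from congrArg Subtype.val (h ⟨x, hx'⟩ ⟨y, hy'⟩)
    intro u v
    obtain rfl | rfl | rfl : k = 0 ∨ k = 1 ∨ k = 2 := by omega
    · haveI : Subsingleton L := (Nat.card_eq_one_iff_unique.1 hcard).1
      exact Subsingleton.elim _ _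
    · haveI : IsCyclic L := isCyclic_of_prime_card (p := 3) (by rw [hcard, pow_one])
      exact mul_comm' u v
    · exact IsPGroup.commutative_of_card_eq_prime_sq hcard u v
  subst hk3
  have : L = κ.R0 := Subgroup.eq_of_le_of_card_ge inf_le_right (by rw [hcard, κ.card_R0]; norm_num)
  rw [← this]
  exact inf_le_left

lemma Fm_el (a b c : ℕ) :
    κ.Fm * κ.el a b c * κ.Fm⁻¹ = κ.el (a + 2 * b * c) (2 * c) b := by
  have h1 : MulAut.conj κ.Fm κ.D = κ.el 0 0 1 := by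
    rw [MulAut.conj_apply, κ.Fm_D, mul_inv_cancel_right]; simp [el]
  have h2 : MulAut.conj κ.Fm κ.C = κ.el 0 2 0 := by
    rw [MulAut.conj_apply, κ.Fm_C, mul_inv_cancel_right]; simp [el]
  have h0 : MulAut.conj κ.Fm κ.Z = κ.Z := by
    rw [MulAut.conj_apply, ← κ.Z_comm, mul_inv_cancel_right]
  rw [← MulAut.conj_apply, el, map_mul, map_mul, map_pow, map_pow, map_pow, h0, h1, h2]
  simp only [el, pow_zero, one_mul, mul_one, ← pow_mul, pow_one]
  rw [mul_assoc, κ.C_pow_D_pow, pow_add, show b * (2 * c) = 2 * b * c by ring]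
  simp only [mul_assoc]

lemma Fm'_D_conj : κ.Fm' * κ.el 0 1 0 * κ.Fm'⁻¹ = κ.el 2 1 1 := by
  simp only [el, pow_zero, pow_one, one_mul, mul_one, κ.Fm'_D, mul_inv_cancel_right]

lemma Fm'_C_conj : κ.Fm' * κ.el 0 0 1 * κ.Fm'⁻¹ = κ.el 1 1 2 := by
  simp only [el, pow_zero, pow_one, one_mul, mul_one, κ.Fm'_C, mul_inv_cancel_right]

lemma Fm_norm {x : GL (Fin 3) F} (hx : x ∈ κ.R0) : κ.Fm * x * κ.Fm⁻¹ ∈ κ.R0 := by
  obtain ⟨a, b, c, rfl⟩ := hx
  rw [κ.Fm_el]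
  exact κ.el_mem _ _ _

lemma Fm'_norm {x : GL (Fin 3) F} (hx : x ∈ κ.R0) : κ.Fm' * x * κ.Fm'⁻¹ ∈ κ.R0 := by
  obtain ⟨a, b, c, rfl⟩ := hx
  rw [← MulAut.conj_apply, el, map_mul, map_mul, map_pow, map_pow, map_pow]
  refine mul_mem (mul_mem (pow_mem ?_ a) (pow_mem ?_ b)) (pow_mem ?_ c)
  · rw [MulAut.conj_apply, ← κ.Z_comm, mul_inv_cancel_right]; exact κ.Z_mem_R0
  · have h := κ.Fm'_D_conj
    simp only [el, pow_zero, pow_one, one_mul, mul_one] at h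
    rw [MulAut.conj_apply, h]
    exact mul_mem (mul_mem (pow_mem κ.Z_mem_R0 2) κ.D_mem) κ.C_mem
  · have h := κ.Fm'_C_conj
    simp only [el, pow_zero, pow_one, one_mul, mul_one] at h
    rw [MulAut.conj_apply, h]
    exact mul_mem (mul_mem κ.Z_mem_R0 κ.D_mem) (pow_mem κ.C_mem 2)

/-- A nonscalar element does not commute with its conjugate under the Fourier matrix. -/
lemma Fm_noncomm {x : GL (Fin 3) F} (hx : x ∈ κ.R0) (hs : x ∉ Geo.scalars (Fin 3) F) :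
    x * (κ.Fm * x * κ.Fm⁻¹) ≠ κ.Fm * x * κ.Fm⁻¹ * x := by
  obtain ⟨a, b, c, rfl⟩ := hx
  rw [κ.el_mem_scalars_iff] at hs
  rw [κ.Fm_el, Ne, κ.commute_el]
  intro h
  refine hs ?_
  have key : ∀ b c : ℕ, b < 3 → c < 3 → c * (2 * c) % 3 = b * b % 3 → b = 0 ∧ c = 0 := by
    intro b c hb hc; interval_cases b <;> interval_cases c <;> simp
  refine key _ _ (Nat.mod_lt _ (by norm_num)) (Nat.mod_lt _ (by norm_num)) ?_
  have e1 : (c % 3) * (2 * (c % 3)) % 3 = c * (2 * c) % 3 := by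
    simp [Nat.mul_mod, Nat.mod_mod]
  rw [e1, h, Nat.mul_mod]

/-- A subgroup normalised by the Fourier matrix with a nonscalar element of the model group
contains it. -/
lemma le_of_inv [Finite F] {K : Subgroup (GL (Fin 3) F)} {x : GL (Fin 3) F} (hx : x ∈ κ.R0)
    (hs : x ∉ Geo.scalars (Fin 3) F) (hxK : x ∈ K) (hFx : κ.Fm * x * κ.Fm⁻¹ ∈ K) : κ.R0 ≤ K :=
  κ.le_of_noncomm hx (κ.Fm_norm hx) hxK hFx (κ.Fm_noncomm hx hs)

/-- A subgroup containing the two quaternion generators moves every nonscalar class onto that of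
`D` or `D²`. -/
lemma exists_word {x : GL (Fin 3) F} (hx : x ∈ κ.R0) (hs : x ∉ Geo.scalars (Fin 3) F) :
    ∃ w ∈ Subgroup.closure {κ.Fm, κ.Fm'}, ∃ a b : ℕ, b % 3 ≠ 0 ∧ w * x * w⁻¹ = κ.el a b 0 := by
  set W := Subgroup.closure {κ.Fm, κ.Fm'}
  have hF : κ.Fm ∈ W := Subgroup.subset_closure (Set.mem_insert _ _)
  have hF' : κ.Fm' ∈ W := Subgroup.subset_closure (Set.mem_insert_of_mem _ rfl)
  obtain ⟨a, b, c, rfl⟩ := hx
  rw [κ.el_mem_scalars_iff] at hs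
  by_cases hc : c % 3 = 0
  · exact ⟨1, one_mem W, a, b, fun h => hs ⟨h, hc⟩, by
      rw [one_mul, inv_one, mul_one, κ.el_eq_iff]; omega⟩
  by_cases hb : b % 3 = 0
  · refine ⟨κ.Fm, hF, a + 2 * b * c, 2 * c, by omega, ?_⟩
    rw [κ.Fm_el, κ.el_eq_iff]; omega
  -- a class on one of the diagonals
  have diag : ∀ a b : ℕ, b % 3 ≠ 0 → ∃ a', κ.Fm'⁻¹ * κ.el a b b * (κ.Fm'⁻¹)⁻¹ = κ.el a' b 0 := by
    intro a b hb
    have h1 := κ.Fm'_D_conj
    obtain h | h : b % 3 = 1 ∨ b % 3 = 2 := by omega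
    · refine ⟨a + 1, ?_⟩
      have e1 : κ.el a b b = κ.el (a + 1) 0 0 * κ.el 2 1 1 := by
        rw [κ.el_mul, κ.el_eq_iff]; omega
      have e2 : κ.el (a + 1) b 0 = κ.el (a + 1) 0 0 * κ.el 0 1 0 := by
        rw [κ.el_mul, κ.el_eq_iff]; omega
      have hz : ∀ g : GL (Fin 3) F, g * κ.el (a + 1) 0 0 = κ.el (a + 1) 0 0 * g := fun g => by
        simp only [el, pow_zero, mul_one]; exact κ.Z_pow_comm _ g
      rw [e1, e2, ← mul_assoc, hz, ← h1, inv_inv]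
      simp only [mul_assoc, inv_mul_cancel_left, inv_mul_cancel, mul_one]
    · refine ⟨a + 1, ?_⟩
      have e1 : κ.el a b b = κ.el (a + 1) 0 0 * (κ.el 2 1 1 * κ.el 2 1 1) := by
        rw [κ.el_mul, κ.el_mul, κ.el_eq_iff]; omega
      have e2 : κ.el (a + 1) b 0 = κ.el (a + 1) 0 0 * (κ.el 0 1 0 * κ.el 0 1 0) := by
        rw [κ.el_mul, κ.el_mul, κ.el_eq_iff]; omega
      have hz : ∀ g : GL (Fin 3) F, g * κ.el (a + 1) 0 0 = κ.el (a + 1) 0 0 * g := fun g => by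
        simp only [el, pow_zero, mul_one]; exact κ.Z_pow_comm _ g
      rw [e1, e2, ← mul_assoc, hz, ← h1, inv_inv]
      simp only [mul_assoc, inv_mul_cancel_left, inv_mul_cancel, mul_one]
  by_cases hbc : b % 3 = c % 3
  · obtain ⟨a', ha'⟩ := diag a b hb
    refine ⟨κ.Fm'⁻¹, inv_mem hF', a', b, hb, ?_⟩
    rw [show κ.el a b c = κ.el a b b by rw [κ.el_eq_iff]; omega, ha']
  · obtain ⟨a', ha'⟩ := diag (a + 2 * b * c) b hb
    refine ⟨κ.Fm'⁻¹ * κ.Fm, mul_mem (inv_mem hF') hF, a', b, hb, ?_⟩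
    rw [_root_.mul_inv_rev, show κ.Fm'⁻¹ * κ.Fm * κ.el a b c * (κ.Fm⁻¹ * κ.Fm'⁻¹⁻¹) =
      κ.Fm'⁻¹ * (κ.Fm * κ.el a b c * κ.Fm⁻¹) * κ.Fm'⁻¹⁻¹ by simp only [mul_assoc], κ.Fm_el,
      show κ.el (a + 2 * b * c) (2 * c) b = κ.el (a + 2 * b * c) b b by rw [κ.el_eq_iff]; omega, ha']

end Ctx

end Cfsg.Agent.SL3Max.C6
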