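/-
An overgroup of the normaliser of the extraspecial model either normalises it or has a quasisimple
core containing it.
Main results: `Over`, `exists_fixed_class`, `Over.cases`.
-/
import Cfsg.Agent.Lib.SL3Max.C6.Model
import Cfsg.Agent.Lib.PrimeDim.Trichotomy
import Cfsg.Agent.Lib.OddOrderTheorem.Basic

set_option autoImplicit false
set_option linter.unusedSectionVars false

namespace Cfsg.Agent.SL3Max.C6

open Matrix
open scoped commutatorElement

variable {F : Type*} [Field F] [Fintype F]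

/-- Scalars. -/
local notation "Zs" => Cfsg.Geo.scalars (Fin 3) F

lemma scal_comm {z : GL (Fin 3) F} (hz : z ∈ Zs) (g : GL (Fin 3) F) : g * z = z * g :=
  PrimeDim.scalars_central hz g

instance scal_normal : (Cfsg.Geo.scalars (Fin 3) F).Normal :=
  PrimeDim.normal_of_le_scalars le_rfl

lemma finite_gl : Finite (GL (Fin 3) F) := by
  haveI : Finite (Matrix (Fin 3) (Fin 3) F) := inferInstanceAs (Finite (Fin 3 → Fin 3 → F))
  exact Finite.of_injective Units.val Units.val_injective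

instance instFiniteGL : Finite (GL (Fin 3) F) := finite_gl

/-- A group of order 27 is generated by any two noncommuting elements. -/
lemma le_of_card27 {R K : Subgroup (GL (Fin 3) F)} (hR : Nat.card R = 27) {x y : GL (Fin 3) F}
    (hx : x ∈ R) (hy : y ∈ R) (hxK : x ∈ K) (hyK : y ∈ K) (hne : x * y ≠ y * x) : R ≤ K := by
  set L := K ⊓ R
  have hdvd : Nat.card L ∣ 3 ^ 3 := by
    rw [show (3 : ℕ) ^ 3 = 27 from rfl, ← hR]
    exact Subgroup.card_dvd_of_le inf_le_right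
  obtain ⟨k, hk, hcard⟩ := (Nat.dvd_prime_pow Nat.prime_three).1 hdvd
  haveI : Fact (Nat.Prime 3) := ⟨Nat.prime_three⟩
  have hk3 : k = 3 := by
    by_contra hk3
    refine hne ?_
    have hx' : x ∈ L := ⟨hxK, hx⟩
    have hy' : y ∈ L := ⟨hyK, hy⟩
    suffices h : ∀ u v : L, u * v = v * u from congrArg Subtype.val (h ⟨x, hx'⟩ ⟨y, hy'⟩)
    intro u v
    obtain rfl | rfl | rfl : k = 0 ∨ k = 1 ∨ k = 2 := by omega
    · haveI : Subsingleton L := (Nat.card_eq_one_iff_unique.1 hcard).1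
      exact Subsingleton.elim _ _
    · haveI : IsCyclic L := isCyclic_of_prime_card (p := 3) (by rw [hcard, pow_one])
      exact mul_comm' u v
    · exact IsPGroup.commutative_of_card_eq_prime_sq hcard u v
  subst hk3
  have : L = R := Subgroup.eq_of_le_of_card_ge inf_le_right (by rw [hcard, hR]; norm_num)
  rw [← this]
  exact inf_le_left

/-- A 3-group normalising a nonscalar 3-group fixes a nonscalar class modulo scalars. -/
theorem exists_fixed_class {U R : Subgroup (GL (Fin 3) F)} (hU : IsPGroup 3 U) (hR : IsPGroup 3 R)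
    (hs : ∃ x ∈ R, x ∉ Zs) (hn : ∀ g ∈ U, ∀ x ∈ R, g * x * g⁻¹ ∈ R) :
    ∃ a ∈ R, a ∉ Zs ∧ ∀ g ∈ U, g * a * g⁻¹ * a⁻¹ ∈ Zs := by
  haveI : Fact (Nat.Prime 3) := ⟨Nat.prime_three⟩
  set π := QuotientGroup.mk' Zs
  set Q := R.map π
  letI : MulAction U Q :=
    { smul := fun g q => ⟨π g * q * (π g)⁻¹, by
        obtain ⟨x, hx, hxq⟩ := Subgroup.mem_map.1 q.2
        exact ⟨g * x * (g : GL (Fin 3) F)⁻¹, hn _ g.2 _ hx, by rw [← hxq, map_mul, map_mul, map_inv]⟩⟩
      one_smul := fun q => Subtype.ext (by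
        show π (1 : U) * q * (π (1 : U))⁻¹ = q
        rw [Subgroup.coe_one, map_one, one_mul, inv_one, mul_one])
      mul_smul := fun g h q => Subtype.ext (by
        show π (g * h : U) * q * (π (g * h : U))⁻¹ = π g * (π h * q * (π h)⁻¹) * (π g)⁻¹
        rw [Subgroup.coe_mul, map_mul, _root_.mul_inv_rev]; simp only [mul_assoc]) }
  have h3 : 3 ∣ Nat.card Q := by
    obtain ⟨n, hn⟩ := IsPGroup.iff_card.1 (hR.map π)
    rw [hn]
    refine dvd_pow_self 3 fun h0 => ?_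
    rw [h0, pow_zero] at hn
    obtain ⟨x, hx, hxs⟩ := hs
    have hmem : π x ∈ Q := ⟨x, hx, rfl⟩
    rw [Subgroup.eq_bot_of_card_eq Q hn, Subgroup.mem_bot] at hmem
    exact hxs ((QuotientGroup.eq_one_iff x).1 hmem)
  have hfix : (1 : Q) ∈ MulAction.fixedPoints U Q := fun g => Subtype.ext (by
    show π g * ((1 : Q) : GL (Fin 3) F ⧸ Zs) * (π g)⁻¹ = _
    rw [Subgroup.coe_one, mul_one, mul_inv_cancel])
  obtain ⟨b, hb, hb1⟩ := hU.exists_fixed_point_of_prime_dvd_card_of_fixed_point Q h3 hfix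
  obtain ⟨a, ha, hab⟩ := Subgroup.mem_map.1 b.2
  refine ⟨a, ha, fun h => hb1 (Subtype.ext ?_), fun g hg => ?_⟩
  · rw [← hab, Subgroup.coe_one]
    exact ((QuotientGroup.eq_one_iff a).2 h).symm
  · have h1 : π g * (b : GL (Fin 3) F ⧸ Zs) * (π g)⁻¹ = (b : GL (Fin 3) F ⧸ Zs) :=
      congrArg Subtype.val (hb ⟨g, hg⟩)
    refine (QuotientGroup.eq_one_iff _).1 ?_
    show π (g * a * g⁻¹ * a⁻¹) = 1
    rw [map_mul, map_mul, map_mul, map_inv, map_inv, hab, h1, mul_inv_cancel]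

variable (κ : Ctx F)

namespace Ctx

lemma scal_sl {z : GL (Fin 3) F} (hz : z ∈ Zs) (hsl : z ∈ Cfsg.Geo.specialLinear (Fin 3) F) :
    ∃ a, z = κ.el a 0 0 := by
  obtain ⟨c, hc⟩ := (Cfsg.Geo.mem_scalars_iff _).1 hz
  have h1 : (z : Matrix (Fin 3) (Fin 3) F).det = 1 := congrArg Units.val (MonoidHom.mem_ker.1 hsl)
  rw [hc, det_smul, det_one, mul_one, Fintype.card_fin] at h1
  have h : ((c : F) - 1) * ((c : F) - κ.ω) * ((c : F) - κ.ω ^ 2) = 0 := by
    have := κ.rel; have := κ.cube; grind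
  have key : ∀ a, (c : F) = κ.ω ^ a → z = κ.el a 0 0 := fun a ha => Units.ext (by
    rw [hc, Ctx.el, pow_zero, pow_zero, mul_one, mul_one, Units.val_pow_eq_pow_val, κ.Z_val,
      smul_pow, one_pow, ha])
  rcases mul_eq_zero.1 h with h | h
  · rcases mul_eq_zero.1 h with h | h
    exacts [⟨0, key 0 (by rw [pow_zero, sub_eq_zero.1 h])⟩,
      ⟨1, key 1 (by rw [pow_one, sub_eq_zero.1 h])⟩]
  · exact ⟨2, key 2 (sub_eq_zero.1 h)⟩

lemma scal_sl_mem {z : GL (Fin 3) F} (hz : z ∈ Zs) (hsl : z ∈ Cfsg.Geo.specialLinear (Fin 3) F) :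
    z ∈ κ.R0 := by
  obtain ⟨a, rfl⟩ := κ.scal_sl hz hsl
  exact κ.el_mem _ _ _

include κ in
lemma scal_sl_pow {c z : GL (Fin 3) F} (hc : c ∈ Zs) (hcsl : c ∈ Cfsg.Geo.specialLinear (Fin 3) F)
    (hc1 : c ≠ 1) (hz : z ∈ Zs) (hzsl : z ∈ Cfsg.Geo.specialLinear (Fin 3) F) :
    ∃ i : ℕ, z = c ^ i := by
  obtain ⟨a, rfl⟩ := κ.scal_sl hc hcsl
  obtain ⟨b, rfl⟩ := κ.scal_sl hz hzsl
  have ha : a % 3 ≠ 0 := fun h => hc1 (by rw [κ.el_mod, h]; exact κ.el_zero)
  have hpow : ∀ i : ℕ, κ.el a 0 0 ^ i = κ.el (a * i) 0 0 := fun i => by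
    simp only [Ctx.el, pow_zero, mul_one, ← pow_mul]
  refine ⟨a * b, ?_⟩
  rw [hpow, κ.el_eq_iff]
  refine ⟨?_, rfl, rfl⟩
  obtain h | h : a % 3 = 1 ∨ a % 3 = 2 := by omega
  all_goals (simp [Nat.mul_mod, h] <;> omega)

/-- The model group is irreducible. -/
lemma R0_irr : Cfsg.Geo.ActsIrreducibly (Cfsg.Geo.matrixSet κ.R0) := by
  intro W hW
  have hD := (PrimeDim.mapsTo_iff_mulVec _ W).1 (hW _ (PrimeDim.mem_matrixSet κ.D_mem))
  have hC := (PrimeDim.mapsTo_iff_mulVec _ W).1 (hW _ (PrimeDim.mem_matrixSet κ.C_mem))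
  by_cases hbot : W = ⊥
  · exact Or.inl hbot
  refine Or.inr ?_
  obtain ⟨v, hv, hv0⟩ := Submodule.exists_mem_ne_zero_of_ne_bot hbot
  have hproj : ∀ i : Fin 3, (v i) • (Pi.single i (1 : F) : Fin 3 → F) ∈ W := by
    intro i
    have h0 := W.smul_mem (3 : F)⁻¹ (W.add_mem (W.add_mem hv
      (W.smul_mem (κ.ω ^ (2 * (i : ℕ))) (hD v hv))) (W.smul_mem (κ.ω ^ (i : ℕ)) (hD _ (hD v hv))))
    convert h0 using 1
    have := κ.rel
    have := κ.cube
    have h33 : (3 : F)⁻¹ * 3 = 1 := inv_mul_cancel₀ κ.three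
    have hDd : (κ.D : Matrix (Fin 3) (Fin 3) F) = diagonal fun j : Fin 3 => κ.ω ^ (j : ℕ) := by
      ext a b; fin_cases a <;> fin_cases b <;> simp [Ctx.D]
    ext j
    rw [hDd]
    simp only [Pi.smul_apply, Pi.add_apply, smul_eq_mul, mulVec_diagonal]
    fin_cases i <;> fin_cases j <;> simp <;> grind
  obtain ⟨i, hi⟩ := Function.ne_iff.1 hv0
  have hei : (Pi.single i (1 : F) : Fin 3 → F) ∈ W := by
    have := W.smul_mem (v i)⁻¹ (hproj i)
    rwa [smul_smul, inv_mul_cancel₀ hi, one_smul] at this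
  have hstep : ∀ i : Fin 3, (Pi.single i (1 : F) : Fin 3 → F) ∈ W →
      (Pi.single (i + 2) (1 : F) : Fin 3 → F) ∈ W := by
    intro i hi
    have h0 := hC _ hi
    convert h0 using 1
    ext j
    fin_cases i <;> fin_cases j <;> simp [Ctx.C, Matrix.mulVec, dotProduct, Fin.sum_univ_three]
  have hall : ∀ j : Fin 3, (Pi.single j (1 : F) : Fin 3 → F) ∈ W := by
    intro j
    obtain rfl | rfl | rfl : j = i ∨ j = i + 2 ∨ j = i + 2 + 2 := by
      clear * -
      revert i j; decide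
    exacts [hei, hstep _ hei, hstep _ (hstep _ hei)]
  rw [eq_top_iff]
  intro w _
  rw [show w = ∑ j, w j • (Pi.single j (1 : F) : Fin 3 → F) by
    ext k; fin_cases k <;> simp [Fin.sum_univ_three]]
  exact Submodule.sum_mem _ fun j _ => W.smul_mem _ (hall j)

/-- A map with few values on the nine classes takes equal values on two of them. -/
lemma exists_collision {α : Type*} [Finite α] (f : GL (Fin 3) F → α) (hα : Nat.card α < 9) :
    ∃ g ∈ κ.R0, ∃ h ∈ κ.R0, f g = f h ∧ g⁻¹ * h ∉ Zs := by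
  have hni : ¬ Function.Injective (fun x : Fin 3 × Fin 3 => f (κ.el 0 x.1 x.2)) := fun hi => by
    have := Nat.card_le_card_of_injective _ hi
    simp at this
    omega
  obtain ⟨x, y, hxy, hne⟩ := Function.not_injective_iff.1 hni
  refine ⟨_, κ.el_mem 0 x.1 x.2, _, κ.el_mem 0 y.1 y.2, hxy, fun hs => hne ?_⟩
  have hs' : κ.el 0 y.1 y.2 ∈ κ.R0 := κ.el_mem _ _ _
  obtain ⟨a, ha⟩ := κ.scal_sl hs (mul_mem (inv_mem (κ.R0_le_sl (κ.el_mem 0 x.1 x.2)))
    (κ.R0_le_sl hs'))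
  rw [inv_mul_eq_iff_eq_mul, κ.el_mul, κ.el_eq_iff] at ha
  obtain ⟨-, hb, hc⟩ := ha
  rw [add_zero, Nat.mod_eq_of_lt y.1.isLt, Nat.mod_eq_of_lt x.1.isLt] at hb
  rw [add_zero, Nat.mod_eq_of_lt y.2.isLt, Nat.mod_eq_of_lt x.2.isLt] at hc
  exact Prod.ext (Fin.ext hb.symm) (Fin.ext hc.symm)

lemma Fm'_conj_Fm : κ.Fm' * κ.Fm * κ.Fm'⁻¹ = κ.Fm⁻¹ := by
  rw [mul_inv_eq_iff_eq_mul]
  refine Units.ext ?_
  have hr : κ.r3⁻¹ * (κ.ω - κ.ω ^ 2) = 1 := inv_mul_cancel₀ κ.r3_ne
  have := κ.rel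
  rw [Units.val_mul, Units.val_mul, show ((κ.Fm⁻¹ : GL (Fin 3) F) : Matrix (Fin 3) (Fin 3) F) =
    (-κ.r3⁻¹) • !![1, 1, 1; 1, κ.ω ^ 2, κ.ω; 1, κ.ω, κ.ω ^ 2] from rfl]
  ext i j; fin_cases i <;> fin_cases j <;>
    simp [Ctx.Fm, Ctx.Fm', Matrix.mul_apply, Fin.sum_univ_three] <;> grind

/-- The quaternion group. -/
def Q8 : Subgroup (GL (Fin 3) F) := Subgroup.closure {κ.Fm, κ.Fm'}

lemma Q8_two : IsPGroup 2 κ.Q8 := by
  haveI : Fact (Nat.Prime 2) := ⟨Nat.prime_two⟩
  have h4 : ∀ g : GL (Fin 3) F, g * g = κ.t → IsPGroup 2 (Subgroup.zpowers g) := by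
    intro g hg
    have : g ^ (2 ^ 2) = 1 := by
      rw [show (2 : ℕ) ^ 2 = 2 * 2 from rfl, pow_mul, pow_two g, hg, pow_two, κ.t_sq]
    rintro ⟨x, n, rfl⟩
    refine ⟨2, Subtype.ext ?_⟩
    show (g ^ n) ^ (2 ^ 2) = 1
    rw [← zpow_natCast (g ^ n), ← _root_.zpow_mul, mul_comm, _root_.zpow_mul, zpow_natCast, this, _root_.one_zpow]
  have hnorm : Subgroup.zpowers κ.Fm' ≤ Subgroup.normalizer (Subgroup.zpowers κ.Fm : Set (GL (Fin 3) F)) := by
    rw [Subgroup.zpowers_le, Subgroup.mem_normalizer_iff_map_conj_eq, MonoidHom.map_zpowers]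
    show Subgroup.zpowers (MulAut.conj κ.Fm' κ.Fm) = _
    rw [MulAut.conj_apply, κ.Fm'_conj_Fm, Subgroup.zpowers_inv]
  have h := IsPGroup.to_sup_of_normal_right' (h4 _ κ.Fm'_sq) (h4 _ κ.Fm_sq) hnorm
  refine h.to_le ?_
  rw [Ctx.Q8, Subgroup.closure_le]
  rintro x (rfl | rfl)
  · exact Subgroup.mem_sup_right (Subgroup.mem_zpowers _)
  · exact Subgroup.mem_sup_left (Subgroup.mem_zpowers _)

/-- The only element of determinant one and order two centralising the quaternion group is `t`. -/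
lemma eq_t_of_comm {v : GL (Fin 3) F} (hd : v ∈ Cfsg.Geo.specialLinear (Fin 3) F) (h2 : v * v = 1)
    (h1 : v ≠ 1) (hF : v * κ.Fm = κ.Fm * v) (hF' : v * κ.Fm' = κ.Fm' * v) : v = κ.t := by
  have ht : v * κ.t = κ.t * v := by
    rw [← κ.Fm_sq, ← mul_assoc, hF, mul_assoc, hF, mul_assoc]
  have e : ∀ {g : GL (Fin 3) F}, v * g = g * v → ∀ i j,
      ((v : Matrix (Fin 3) (Fin 3) F) * (g : Matrix (Fin 3) (Fin 3) F)) i j =
        ((g : Matrix (Fin 3) (Fin 3) F) * (v : Matrix (Fin 3) (Fin 3) F)) i j := fun h i j => by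
    rw [← Units.val_mul, h, Units.val_mul]
  have hr : κ.r3⁻¹ * (κ.ω - κ.ω ^ 2) = 1 := inv_mul_cancel₀ κ.r3_ne
  have := κ.rel
  have := κ.two
  set V := (v : Matrix (Fin 3) (Fin 3) F) with hV
  have t01 : V 0 2 = V 0 1 := by
    have := e ht 0 1; simp [Ctx.t, Matrix.mul_apply, Fin.sum_univ_three] at this; grind
  have t10 : V 2 0 = V 1 0 := by
    have := e ht 1 0; simp [Ctx.t, Matrix.mul_apply, Fin.sum_univ_three] at this; grind
  have t11 : V 2 2 = V 1 1 := by
    have := e ht 1 2; simp [Ctx.t, Matrix.mul_apply, Fin.sum_univ_three] at this; grind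
  have t12 : V 2 1 = V 1 2 := by
    have := e ht 1 1; simp [Ctx.t, Matrix.mul_apply, Fin.sum_univ_three] at this; grind
  have f00 := e hF 0 0
  have f01 := e hF 0 1
  have g00 := e hF' 0 0
  simp [Ctx.Fm, Ctx.Fm', Matrix.mul_apply, Fin.sum_univ_three, t01, t10, t11, t12] at f00 f01 g00
  have hb : V 0 1 = 0 := by grind
  have hd0 : V 1 0 = 0 := by grind
  have ha : V 1 1 + V 1 2 = V 0 0 := by grind
  have hdet : V.det = 1 := congrArg Units.val (MonoidHom.mem_ker.1 hd)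
  rw [det_fin_three] at hdet
  simp [t01, t10, t11, t12, hb, hd0] at hdet
  have hsq := congrArg (fun g : GL (Fin 3) F => (g : Matrix (Fin 3) (Fin 3) F) 0 0) h2
  simp [Matrix.mul_apply, Fin.sum_univ_three, t01, t10, hb, hd0, ← hV] at hsq
  have hsq0 : V 0 0 = 1 ∨ V 0 0 = -1 := by
    have h0 : (V 0 0 - 1) * (V 0 0 + 1) = 0 := by grind
    rcases mul_eq_zero.1 h0 with h | h
    exacts [Or.inl (sub_eq_zero.1 h), Or.inr (eq_neg_of_add_eq_zero_left h)]
  rcases hsq0 with hsq | hsq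
  · refine absurd (Units.ext ?_) h1
    have hsq' := congrArg (fun g : GL (Fin 3) F => (g : Matrix (Fin 3) (Fin 3) F) 1 2) h2
    simp [Matrix.mul_apply, Fin.sum_univ_three, t01, t10, t11, t12, hb, hd0, ← hV] at hsq'
    ext i j
    fin_cases i <;> fin_cases j <;> simp [← hV, t01, t10, t11, t12, hb, hd0, hsq] <;> grind
  · refine Units.ext ?_
    have hsq' := congrArg (fun g : GL (Fin 3) F => (g : Matrix (Fin 3) (Fin 3) F) 1 2) h2
    simp [Matrix.mul_apply, Fin.sum_univ_three, t01, t10, t11, t12, hb, hd0, ← hV] at hsq'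
    ext i j
    fin_cases i <;> fin_cases j <;> simp [Ctx.t, ← hV, t01, t10, t11, t12, hb, hd0, hsq] <;> grind

lemma t_conj : κ.t * κ.D * κ.t⁻¹ * κ.D⁻¹ = κ.D ∧ κ.t * κ.C * κ.t⁻¹ * κ.C⁻¹ = κ.C := by
  have := κ.cube
  constructor
  all_goals
    rw [mul_inv_eq_iff_eq_mul, mul_inv_eq_iff_eq_mul]
    refine Units.ext ?_
    ext i j
    fin_cases i <;> fin_cases j <;>
      simp [Ctx.t, Ctx.C, Ctx.D, Matrix.mul_apply, Fin.sum_univ_three] <;> grind

end Ctx

/-- An overgroup of the normaliser of the model. -/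
structure Over (M : Subgroup (GL (Fin 3) F)) : Prop where
  le : M ≤ Cfsg.Geo.specialLinear (Fin 3) F
  R0_le : κ.R0 ≤ M
  Fm_mem : κ.Fm ∈ M
  Fm'_mem : κ.Fm' ∈ M

variable {κ}

/-- Either the model is normal or there is a core containing it and `t`. -/
theorem Over.cases {M : Subgroup (GL (Fin 3) F)} (S : Over κ M) :
    M ≤ Cfsg.Geo.subgroupNormalizer κ.R0 ∨
      ∃ P, PrimeDim.IsCore M P ∧ κ.R0 ≤ P ∧ κ.t ∈ P := by
  classical
  have hn3 : (Fintype.card (Fin 3)).Prime := by rw [Fintype.card_fin]; exact Nat.prime_three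
  have hirr : Cfsg.Geo.ActsIrreducibly (Cfsg.Geo.matrixSet M) := fun W hW =>
    κ.R0_irr W fun s hs => hW s (Set.image_mono S.R0_le hs)
  -- a nonscalar abelian subgroup meets the model in scalars
  have habel : ∀ K : Subgroup (GL (Fin 3) F), (∀ x ∈ K, ∀ y ∈ K, x * y = y * x) →
      (∀ h ∈ M, ∀ x ∈ K, h * x * h⁻¹ ∈ K) → ∀ x ∈ κ.R0, x ∈ K → x ∈ Zs := by
    intro K hc hn x hx hxK
    by_contra hs
    have hle := κ.le_of_inv hx hs hxK (hn _ S.Fm_mem _ hxK)
    have := (κ.commute_el (a := 0) (b := 1) (c := 0) (a' := 0) (b' := 0) (c' := 1)).1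
      (hc _ (hle (κ.el_mem 0 1 0)) _ (hle (κ.el_mem 0 0 1)))
    omega
  rcases PrimeDim.trichotomy hn3 (by rw [Fintype.card_fin]; decide) S.le hirr with
    ⟨N, e, hN, he⟩ | ⟨N, hN, hNs, hA, hnorm⟩ | ⟨R, hR⟩ | ⟨P, hP⟩
  · -- frame
    exfalso
    let K : Subgroup (GL (Fin 3) F) :=
      { carrier := {g | g ∈ M ∧ ∀ i, PrimeDim.cj g (e i) = e i}
        one_mem' := ⟨one_mem M, fun i => by simp [PrimeDim.cj_apply]⟩
        mul_mem' := fun {a b} ha hb => ⟨mul_mem ha.1 hb.1, fun i => by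
          rw [← PrimeDim.cj_cj, hb.2, ha.2]⟩
        inv_mem' := fun {a} ha => ⟨inv_mem ha.1, fun i => by
          conv_lhs => rw [← ha.2 i, PrimeDim.cj_inv_cj]⟩ }
    have hKc : ∀ x ∈ K, ∀ y ∈ K, x * y = y * x := by
      have hscal : ∀ g ∈ K, ∀ i, ∃ c : F, (g : Matrix (Fin 3) (Fin 3) F) * e i = c • e i := by
        intro g hg i
        have hge : (g : Matrix (Fin 3) (Fin 3) F) * e i = e i * g := by
          have h := hg.2 i
          rw [PrimeDim.cj_apply] at h
          calc (g : Matrix (Fin 3) (Fin 3) F) * e i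
              = (g : Matrix (Fin 3) (Fin 3) F) * e i * ((g⁻¹ : GL (Fin 3) F) : Matrix (Fin 3) (Fin 3) F) * g := by
                rw [mul_assoc _ _ (g : Matrix (Fin 3) (Fin 3) F), Units.inv_mul, mul_one]
            _ = e i * g := by rw [h]
        obtain ⟨w, hw⟩ := finrank_eq_one_iff'.1 (he.rank_one i)
        obtain ⟨hw0, hwspan⟩ := hw
        obtain ⟨u, hu⟩ : ∃ u, e i *ᵥ u = (w : Fin 3 → F) := by
          obtain ⟨u, hu⟩ := w.2; exact ⟨u, by simpa using hu⟩
        have hgw : (g : Matrix (Fin 3) (Fin 3) F) *ᵥ (w : Fin 3 → F) ∈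
            LinearMap.range (Matrix.toLin' (e i)) := by
          refine ⟨(g : Matrix (Fin 3) (Fin 3) F) *ᵥ u, ?_⟩
          rw [Matrix.toLin'_apply, ← hu, Matrix.mulVec_mulVec, Matrix.mulVec_mulVec, hge]
        obtain ⟨c, hc⟩ := hwspan ⟨_, hgw⟩
        refine ⟨c, Matrix.ext_of_mulVec_single fun j => ?_⟩
        obtain ⟨a, ha⟩ := hwspan ⟨e i *ᵥ Pi.single j 1, ⟨_, by rw [Matrix.toLin'_apply]⟩⟩
        have ha' := congrArg Subtype.val ha
        have hc' := congrArg Subtype.val hc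
        simp only [Submodule.coe_smul] at ha' hc'
        rw [← Matrix.mulVec_mulVec, ← ha', Matrix.smul_mulVec, Matrix.mulVec_smul, ← hc', ← ha',
          smul_comm]
      intro x hx y hy
      refine Units.ext ?_
      rw [Units.val_mul, Units.val_mul, ← mul_one ((x : Matrix (Fin 3) (Fin 3) F) * y),
        ← mul_one ((y : Matrix (Fin 3) (Fin 3) F) * x), ← he.sum_eq, Finset.mul_sum, Finset.mul_sum]
      refine Finset.sum_congr rfl fun i _ => ?_
      obtain ⟨c, hc⟩ := hscal x hx i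
      obtain ⟨d, hd⟩ := hscal y hy i
      rw [mul_assoc, hd, mul_smul_comm, hc, mul_assoc, hc, mul_smul_comm, hd, smul_comm]
    have hperm : ∀ g : GL (Fin 3) F, g ∈ M → ∃ π : Equiv.Perm (Fin 3),
        ∀ i, PrimeDim.cj g (e i) = e (π i) := by
      intro g hg
      choose π hπ using he.perm g hg
      have hinj : Function.Injective π := by
        intro a b hab
        by_contra hne
        have h1 : PrimeDim.cj g (e a * e b) = e (π a) * e (π b) := by rw [map_mul, hπ, hπ]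
        rw [he.ortho a b hne, map_zero, hab, he.idem] at h1
        exact he.frame_ne_zero _ h1.symm
      exact ⟨Equiv.ofBijective π (Finite.injective_iff_bijective.1 hinj), hπ⟩
    have hKn : ∀ h ∈ M, ∀ x ∈ K, h * x * h⁻¹ ∈ K := by
      intro h hh x hx
      refine ⟨mul_mem (mul_mem hh hx.1) (inv_mem hh), fun i => ?_⟩
      obtain ⟨π, hπ⟩ := hperm h hh
      obtain ⟨j, rfl⟩ := π.surjective i
      rw [← hπ j, ← PrimeDim.cj_cj, ← PrimeDim.cj_cj, PrimeDim.cj_inv_cj, hx.2]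
    let f : GL (Fin 3) F → Equiv.Perm (Fin 3) := fun g =>
      if hg : g ∈ M then (hperm g hg).choose else 1
    obtain ⟨g, hg, h, hh, hfgh, hns⟩ := κ.exists_collision f (by simp [Fintype.card_perm, Nat.factorial])
    refine hns (habel K hKc hKn _ (mul_mem (inv_mem hg) hh)
      ⟨mul_mem (inv_mem (S.R0_le hg)) (S.R0_le hh), fun i => ?_⟩)
    have h1 := (hperm g (S.R0_le hg)).choose_spec i
    have h2 := (hperm h (S.R0_le hh)).choose_spec i
    simp only [f, dif_pos (S.R0_le hg), dif_pos (S.R0_le hh)] at hfgh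
    rw [← PrimeDim.cj_cj, h2, ← hfgh, ← h1, PrimeDim.cj_inv_cj]
  · -- field
    exfalso
    set A := PrimeDim.alg N
    rw [Fintype.card_fin] at hA
    let K : Subgroup (GL (Fin 3) F) :=
      { carrier := {g | (g : Matrix (Fin 3) (Fin 3) F) ∈ A}
        one_mem' := by simpa using A.one_mem
        mul_mem' := fun {a b} ha hb => by simpa using A.mul_mem ha hb
        inv_mem' := fun {a} ha => by
          obtain ⟨y, hy, h⟩ := hA.inv _ ha (Units.ne_zero a)
          have : y = ((a⁻¹ : GL (Fin 3) F) : Matrix (Fin 3) (Fin 3) F) := by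
            rw [← one_mul y, ← Units.inv_mul a, mul_assoc, h, mul_one]
          show _ ∈ A
          rw [← this]; exact hy }
    have hAf : IsField A := ⟨exists_pair_ne _, fun x y => Subtype.ext (hA.comm _ x.2 _ y.2),
      fun {x} hx => by
        obtain ⟨y, hy, h⟩ := hA.inv _ x.2 (fun h => hx (Subtype.ext h))
        exact ⟨⟨y, hy⟩, Subtype.ext h⟩⟩
    letI : Field A := hAf.toField
    haveI : Finite A := Subtype.finite
    haveI : Module.Finite F A := Module.Finite.of_finite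
    have hcj : ∀ g ∈ M, ∀ x : A, PrimeDim.cj g (x : Matrix (Fin 3) (Fin 3) F) ∈ A :=
      fun g hg x => ((hnorm hg) x).1 x.2
    let f : GL (Fin 3) F → (A →ₐ[F] A) := fun g => if hg : g ∈ M then
      { toFun := fun k => ⟨_, hcj g hg k⟩
        map_one' := Subtype.ext (map_one (PrimeDim.cj g))
        map_mul' := fun a b => Subtype.ext (map_mul (PrimeDim.cj g) _ _)
        map_zero' := Subtype.ext (map_zero (PrimeDim.cj g))
        map_add' := fun a b => Subtype.ext (map_add (PrimeDim.cj g) _ _)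
        commutes' := fun a => Subtype.ext ((PrimeDim.cj g).commutes a) } else AlgHom.id F A
    have hcard : Nat.card (A →ₐ[F] A) < 9 :=
      ((card_algHom_le_finrank F A A).trans hA.finrank_eq.le).trans_lt (by norm_num)
    obtain ⟨g, hg, h, hh, hfgh, hns⟩ := κ.exists_collision f hcard
    refine hns (habel K (fun x hx y hy => Units.ext (hA.comm _ hx _ hy))
      (fun h hh x hx => by
        show ((h * x * h⁻¹ : GL (Fin 3) F) : Matrix (Fin 3) (Fin 3) F) ∈ A
        rw [Units.val_mul, Units.val_mul, ← PrimeDim.cj_apply]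
        exact hcj h hh ⟨_, hx⟩) _
      (mul_mem (inv_mem hg) hh) ?_)
    set k := g⁻¹ * h
    have hk : ∀ x ∈ A, (k : Matrix (Fin 3) (Fin 3) F) * x = x * k := by
      intro x hx
      have h1 := congrArg (fun φ : A →ₐ[F] A => ((φ ⟨x, hx⟩ : A) : Matrix (Fin 3) (Fin 3) F)) hfgh
      simp only [f, dif_pos (S.R0_le hg), dif_pos (S.R0_le hh)] at h1
      change PrimeDim.cj g x = PrimeDim.cj h x at h1
      have h2 : PrimeDim.cj k x = x := by
        rw [← PrimeDim.cj_cj, ← h1, PrimeDim.cj_inv_cj]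
      rw [PrimeDim.cj_apply] at h2
      conv_rhs => rw [← h2, mul_assoc, Units.inv_mul, mul_one]
    have hv : (Pi.single 0 1 : Fin 3 → F) ≠ 0 := fun h => by simpa using congrFun h 0
    have hunit : ∀ x ∈ A, x ≠ 0 → IsUnit x := fun x hx hx0 => by
      obtain ⟨y, -, h⟩ := hA.inv _ hx hx0
      exact IsUnit.of_mul_eq_one _ h
    have hrank : Module.finrank F A = Fintype.card (Fin 3) := by
      rw [Fintype.card_fin]; exact hA.finrank_eq
    obtain ⟨a, ha, hav⟩ := PrimeDim.exists_mem_mulVec_eq hunit hrank hv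
      ((k : Matrix (Fin 3) (Fin 3) F) *ᵥ Pi.single 0 1)
    have hka : (k : Matrix (Fin 3) (Fin 3) F) = a := Matrix.ext_of_mulVec_single fun j => by
      obtain ⟨b, hb, hbv⟩ := PrimeDim.exists_mem_mulVec_eq hunit hrank hv
        (Pi.single j 1 : Fin 3 → F)
      rw [← hbv, Matrix.mulVec_mulVec, Matrix.mulVec_mulVec, hk b hb, ← hA.comm _ hb _ ha,
        ← Matrix.mulVec_mulVec, ← Matrix.mulVec_mulVec, hav]
    show (k : Matrix (Fin 3) (Fin 3) F) ∈ A
    rw [hka]; exact ha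
  · -- extraspecial
    left
    haveI : Fact (Nat.Prime 3) := ⟨Nat.prime_three⟩
    have hR27 : Nat.card R = 27 := by rw [hR.card_eq, Fintype.card_fin]; rfl
    have hRsl : R ≤ Cfsg.Geo.specialLinear (Fin 3) F := hR.le.trans S.le
    have hRp : IsPGroup 3 R := IsPGroup.iff_card.2 ⟨3, hR27⟩
    have hscal : ∀ x : GL (Fin 3) F, (∀ y ∈ R, x * y = y * x) → x ∈ Zs := fun x hx => by
      obtain ⟨c, hc⟩ := hR.absIrred.2 x (by
        rintro _ ⟨y, hy, rfl⟩
        rw [← Units.val_mul, ← Units.val_mul, hx y hy])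
      exact PrimeDim.smul_one_mem_scalars hc
    have hsR : ∃ x ∈ R, x ∉ Zs := by
      by_contra! h
      have h1 : R ≤ κ.R0 := fun x hx => κ.scal_sl_mem (h x hx) (hRsl hx)
      have h2 := Subgroup.eq_of_le_of_card_ge h1 (by rw [hR27, κ.card_R0])
      have h3 := (κ.el_mem_scalars_iff).1 (h _ (h2 ▸ κ.el_mem 0 1 0))
      omega
    obtain ⟨a, ha, has, hfix⟩ := exists_fixed_class
      (IsPGroup.iff_card.2 ⟨3, κ.card_R0⟩ : IsPGroup 3 κ.R0) hRp hsR
      (fun g hg x hx => hR.norm g (S.R0_le hg) x hx)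
    obtain ⟨b, hb, hab⟩ : ∃ b ∈ R, a * b ≠ b * a := by
      by_contra! h; exact has (hscal a h)
    -- the commutator is a nontrivial scalar
    obtain ⟨z, hz, hzR⟩ : ∃ z, z ∈ Zs ∧ z ∈ R ∧ z ≠ 1 := by
      obtain ⟨ζ, hζ, z, hzR, hz⟩ := hR.root
      refine ⟨z, PrimeDim.smul_one_mem_scalars hz, hzR, fun h => ?_⟩
      rw [h, Units.val_one] at hz
      have h00 := congrFun (congrFun hz 0) 0
      simp at h00
      exact hζ.ne_one (by rw [Fintype.card_fin]; norm_num) h00.symm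
    let C : Subgroup (GL (Fin 3) F) :=
      { carrier := {x | x ∈ R ∧ x * a = a * x}
        one_mem' := ⟨one_mem R, by simp⟩
        mul_mem' := fun {x y} hx hy => ⟨mul_mem hx.1 hy.1, by
          rw [mul_assoc, hy.2, ← mul_assoc, hx.2, mul_assoc]⟩
        inv_mem' := fun {x} hx => ⟨inv_mem hx.1, by
          have h := hx.2
          calc x⁻¹ * a = x⁻¹ * (a * x) * x⁻¹ := by group
            _ = a * x⁻¹ := by rw [← h]; group⟩ }
    have hC : C ≤ R := fun x hx => hx.1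
    have hC9 : Nat.card C ≤ 9 := by
      have hdvd : Nat.card C ∣ 3 ^ 3 := by
        rw [show (3 : ℕ) ^ 3 = 27 from rfl, ← hR27]; exact Subgroup.card_dvd_of_le hC
      obtain ⟨k, hk, hcard⟩ := (Nat.dvd_prime_pow Nat.prime_three).1 hdvd
      obtain hk | rfl : k ≤ 2 ∨ k = 3 := by omega
      · rw [hcard]; exact (Nat.pow_le_pow_right (by norm_num) hk).trans (by norm_num)
      · have := Subgroup.eq_of_le_of_card_ge hC (by rw [hcard, hR27]; norm_num)
        exact absurd (this.symm ▸ hb : b ∈ C).2 (Ne.symm hab)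
    -- the commutator of `a` and `b`
    set c := a * b * a⁻¹ * b⁻¹ with hcdef
    have hcR : c ∈ R := mul_mem (mul_mem (mul_mem ha hb) (inv_mem ha)) (inv_mem hb)
    have hcscal : c ∈ Zs := by
      have hcomm : ∀ y ∈ R, c * y = y * c := by
        intro y hy
        have hR' : IsPGroup 3 R := hRp
        by_cases hcy : c * y = y * c
        · exact hcy
        exfalso
        -- two noncommuting elements generate, but `c` is central
        have hZc : Nat.card (Subgroup.center R) = 3 := by rw [hR.card_center, Fintype.card_fin]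
        have hq : Nat.card (R ⧸ Subgroup.center R) = 3 ^ 2 := by
          have h := Subgroup.card_eq_card_quotient_mul_card_subgroup (Subgroup.center R)
          rw [hR27, hZc] at h
          omega
        have hc1 := IsPGroup.commutative_of_card_eq_prime_sq hq
          (QuotientGroup.mk' _ ⟨a, ha⟩) (QuotientGroup.mk' _ ⟨b, hb⟩)
        have hmem : (⟨a, ha⟩ * ⟨b, hb⟩ * ⟨a, ha⟩⁻¹ * ⟨b, hb⟩⁻¹ : R) ∈ Subgroup.center R := by
          rw [← QuotientGroup.eq_one_iff]
          show QuotientGroup.mk' (Subgroup.center R) _ = 1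
          rw [map_mul, map_mul, map_mul, map_inv, map_inv, hc1]
          group
        exact hcy (congrArg Subtype.val (Subgroup.mem_center_iff.1 hmem ⟨y, hy⟩)).symm
      exact hscal c hcomm
    have hc1 : c ≠ 1 := fun h => hab (by
      rw [hcdef, mul_inv_eq_one, mul_inv_eq_iff_eq_mul] at h
      exact h)
    have hdelta : ∀ g ∈ κ.R0, g * b * g⁻¹ * b⁻¹ ∈ C := by
      intro g hg
      have hgb : g * b * g⁻¹ ∈ R := hR.norm g (S.R0_le hg) b hb
      refine ⟨mul_mem hgb (inv_mem hb), ?_⟩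
      -- `[a, b]` is fixed
      have h1 : a * (g * b * g⁻¹) * a⁻¹ = c * (g * b * g⁻¹) := by
        have hu := hfix g hg
        set u := g * a * g⁻¹ * a⁻¹ with hu'
        have hga : a = u⁻¹ * (g * a * g⁻¹) := by rw [hu']; group
        calc a * (g * b * g⁻¹) * a⁻¹
            = (u⁻¹ * (g * a * g⁻¹)) * (g * b * g⁻¹) * (u⁻¹ * (g * a * g⁻¹))⁻¹ := by rw [← hga]
          _ = u⁻¹ * (g * (a * b * a⁻¹) * g⁻¹) * u := by group
          _ = g * (a * b * a⁻¹) * g⁻¹ := by
            rw [← scal_comm (inv_mem hu), inv_mul_cancel_right]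
          _ = g * c * b * g⁻¹ := by rw [hcdef]; group
          _ = c * (g * b * g⁻¹) := by rw [scal_comm hcscal g]; group
      have h2 : a * b⁻¹ * a⁻¹ = b⁻¹ * c⁻¹ := by rw [hcdef]; group
      symm
      calc a * (g * b * g⁻¹ * b⁻¹)
          = (a * (g * b * g⁻¹) * a⁻¹) * (a * b⁻¹ * a⁻¹) * a := by group
        _ = c * (g * b * g⁻¹ * b⁻¹) * c⁻¹ * a := by rw [h1, h2]; group
        _ = g * b * g⁻¹ * b⁻¹ * a := by rw [← scal_comm hcscal, mul_inv_cancel_right]
    -- pigeonhole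
    obtain ⟨g, hg, h, hh, hgh, hns⟩ : ∃ g ∈ κ.R0, ∃ h ∈ κ.R0,
        (∃ z' ∈ Zs, g * b * g⁻¹ = z' * (h * b * h⁻¹)) ∧ g⁻¹ * h ∉ Zs := by
      have hni : ¬ Function.Injective (fun x : (Fin 3 × Fin 3) × Fin 3 =>
          (⟨κ.el 0 x.1.1 x.1.2 * b * (κ.el 0 x.1.1 x.1.2)⁻¹ * b⁻¹ * z ^ (x.2 : ℕ),
            mul_mem (hdelta _ (κ.el_mem _ _ _)) (pow_mem (show z ∈ C from
              ⟨hzR.1, (scal_comm hz a).symm⟩) _)⟩ : C)) := fun hi => by
        have := Nat.card_le_card_of_injective _ hi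
        rw [Nat.card_prod, Nat.card_prod, Nat.card_fin] at this
        omega
      obtain ⟨⟨x, i⟩, ⟨y, j⟩, hxy, hne⟩ := Function.not_injective_iff.1 hni
      have hxy' := congrArg Subtype.val hxy
      simp only at hxy'
      have hz3 : ∀ {i j : Fin 3}, z ^ (i : ℕ) = z ^ (j : ℕ) → i = j := by
        intro i j hij
        have hord : orderOf z = 3 := by
          obtain ⟨m, hm⟩ := κ.scal_sl hz (hRsl hzR.1)
          refine orderOf_eq_prime ?_ hzR.2
          rw [hm]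
          simp only [Ctx.el, pow_zero, mul_one, ← pow_mul]
          rw [mul_comm, pow_mul, κ.Z_cube, one_pow]
        exact Fin.ext (pow_injOn_Iio_orderOf (by rw [hord]; exact Set.mem_Iio.2 i.isLt)
          (by rw [hord]; exact Set.mem_Iio.2 j.isLt) hij)
      refine ⟨_, κ.el_mem 0 x.1 x.2, _, κ.el_mem 0 y.1 y.2,
        ⟨z ^ (j : ℕ) * (z ^ (i : ℕ))⁻¹, mul_mem (pow_mem hz _) (inv_mem (pow_mem hz _)), ?_⟩,
        fun hs => hne ?_⟩
      · rw [← scal_comm (mul_mem (pow_mem hz _) (inv_mem (pow_mem hz _)))]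
        set G := κ.el 0 x.1 x.2 * b * (κ.el 0 x.1 x.2)⁻¹
        set H := κ.el 0 y.1 y.2 * b * (κ.el 0 y.1 y.2)⁻¹
        calc G = G * b⁻¹ * z ^ (i : ℕ) * (z ^ (i : ℕ))⁻¹ * b := by group
          _ = H * b⁻¹ * (z ^ (j : ℕ) * (z ^ (i : ℕ))⁻¹) * b := by rw [hxy']; group
          _ = _ := by
            rw [scal_comm (mul_mem (pow_mem hz _) (inv_mem (pow_mem hz _))) (H * b⁻¹), mul_assoc,
              inv_mul_cancel_right]
            exact (scal_comm (mul_mem (pow_mem hz _) (inv_mem (pow_mem hz _))) H).symm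
      · obtain ⟨m, hm⟩ := κ.scal_sl hs (mul_mem (inv_mem (κ.R0_le_sl (κ.el_mem 0 x.1 x.2)))
          (κ.R0_le_sl (κ.el_mem 0 y.1 y.2)))
        rw [inv_mul_eq_iff_eq_mul, κ.el_mul, κ.el_eq_iff] at hm
        obtain ⟨-, hb', hc'⟩ := hm
        rw [add_zero, Nat.mod_eq_of_lt y.1.isLt, Nat.mod_eq_of_lt x.1.isLt] at hb'
        rw [add_zero, Nat.mod_eq_of_lt y.2.isLt, Nat.mod_eq_of_lt x.2.isLt] at hc'
        have hxy2 : x = y := Prod.ext (Fin.ext hb'.symm) (Fin.ext hc'.symm)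
        subst hxy2
        rw [hz3 (mul_left_cancel hxy')]
    set k := g⁻¹ * h
    have hkR0 : k ∈ κ.R0 := mul_mem (inv_mem hg) hh
    obtain ⟨z', hz', hgh⟩ := hgh
    have hkb : k * b * k⁻¹ = z'⁻¹ * b := by
      calc k * b * k⁻¹ = g⁻¹ * (h * b * h⁻¹) * g := by simp only [k]; group
        _ = g⁻¹ * (z'⁻¹ * (g * b * g⁻¹)) * g := by rw [hgh]; group
        _ = (g⁻¹ * z'⁻¹) * (g * b * g⁻¹) * g := by group
        _ = _ := by rw [scal_comm (inv_mem hz')]; group
    have hka := hfix k hkR0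
    have hksl := κ.R0_le_sl hkR0
    have hz'sl : z'⁻¹ ∈ Cfsg.Geo.specialLinear (Fin 3) F := by
      have : z'⁻¹ = k * b * k⁻¹ * b⁻¹ := by rw [hkb]; group
      rw [this]
      exact mul_mem (mul_mem (mul_mem hksl (hRsl hb)) (inv_mem hksl)) (inv_mem (hRsl hb))
    obtain ⟨i, hi⟩ := κ.scal_sl_pow hcscal (hRsl hcR) hc1 hka
      (mul_mem (mul_mem (mul_mem hksl (hRsl ha)) (inv_mem hksl)) (inv_mem (hRsl ha)))
    obtain ⟨j, hj⟩ := κ.scal_sl_pow hcscal (hRsl hcR) hc1 (inv_mem hz') hz'sl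
    -- an element of `R` acting like `k`
    set r := a ^ j * (b ^ i)⁻¹
    have hcpowb : ∀ n : ℕ, a ^ n * b * (a ^ n)⁻¹ = c ^ n * b := by
      intro n
      induction n with
      | zero => simp
      | succ n ih =>
        calc a ^ (n + 1) * b * (a ^ (n + 1))⁻¹ = a * (a ^ n * b * (a ^ n)⁻¹) * a⁻¹ := by
              rw [pow_succ']; group
          _ = (a * c ^ n) * b * a⁻¹ := by rw [ih]; group
          _ = c ^ n * (a * b * a⁻¹ * b⁻¹) * b := by rw [scal_comm (pow_mem hcscal n)]; group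
          _ = _ := by rw [← hcdef, ← pow_succ]
    have hcpowa : ∀ n : ℕ, (b ^ n)⁻¹ * a * b ^ n = c ^ n * a := by
      intro n
      induction n with
      | zero => simp
      | succ n ih =>
        have hba : b⁻¹ * a * b = c * a := by
          calc b⁻¹ * a * b = b⁻¹ * (a * b * a⁻¹ * b⁻¹) * b * a := by group
            _ = b⁻¹ * (c * b) * a := by rw [← hcdef]; group
            _ = b⁻¹ * (b * c) * a := by rw [← scal_comm hcscal b]
            _ = _ := by group
        calc (b ^ (n + 1))⁻¹ * a * b ^ (n + 1) = b⁻¹ * ((b ^ n)⁻¹ * a * b ^ n) * b := by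
              rw [pow_succ]; group
          _ = (b⁻¹ * c ^ n) * a * b := by rw [ih]; group
          _ = c ^ n * (b⁻¹ * a * b) := by rw [scal_comm (pow_mem hcscal n)]; group
          _ = _ := by rw [hba, pow_succ]; group
    have hra : r * a * r⁻¹ = k * a * k⁻¹ := by
      calc r * a * r⁻¹ = a ^ j * ((b ^ i)⁻¹ * a * b ^ i) * (a ^ j)⁻¹ := by simp only [r]; group
        _ = (a ^ j * c ^ i) * a * (a ^ j)⁻¹ := by rw [hcpowa]; group
        _ = c ^ i * a := by rw [scal_comm (pow_mem hcscal i)]; group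
        _ = _ := by rw [← hi]; group
    have hrb : r * b * r⁻¹ = k * b * k⁻¹ := by
      calc r * b * r⁻¹ = a ^ j * b * (a ^ j)⁻¹ := by simp only [r]; group
        _ = _ := by rw [hcpowb, hkb, hj]
    have hkr : r⁻¹ * k ∈ Zs := by
      refine hscal _ fun y hy => ?_
      let T : Subgroup (GL (Fin 3) F) := Subgroup.centralizer {r⁻¹ * k}
      have hT : ∀ x, r * x * r⁻¹ = k * x * k⁻¹ → x ∈ T := fun x hx => by
        rw [Subgroup.mem_centralizer_singleton_iff]
        symm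
        calc r⁻¹ * k * x = r⁻¹ * (k * x * k⁻¹) * k := by group
          _ = x * (r⁻¹ * k) := by rw [← hx]; group
      exact (Subgroup.mem_centralizer_singleton_iff.1
        (le_of_card27 hR27 ha hb (hT a hra) (hT b hrb) hab hy)).symm
    have hkR : k ∈ R := by
      have hrR : r ∈ R := mul_mem (pow_mem ha _) (inv_mem (pow_mem hb _))
      obtain ⟨n, hn⟩ := κ.scal_sl_pow hcscal (hRsl hcR) hc1 hkr
        (mul_mem (inv_mem (hRsl hrR)) hksl)
      rw [show k = r * (r⁻¹ * k) by group, hn]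
      exact mul_mem hrR (pow_mem hcR _)
    have hle := κ.le_of_inv hkR0 hns hkR (hR.norm _ S.Fm_mem _ hkR)
    have heq : R = κ.R0 := (Subgroup.eq_of_le_of_card_ge hle (by rw [hR27, κ.card_R0])).symm
    intro m hm
    rw [Cfsg.Geo.subgroupNormalizer, Subgroup.mem_normalizer_iff]
    intro x
    rw [← heq]
    refine ⟨hR.norm m hm x, fun hx => ?_⟩
    have := hR.norm m⁻¹ (inv_mem hm) _ hx
    simpa [mul_assoc] using this
  · -- core
    right
    refine ⟨P, hP, ?_⟩
    haveI : Fact (Nat.Prime 2) := ⟨Nat.prime_two⟩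
    have hPeven : 2 ∣ Nat.card P := by
      by_contra h
      have hodd : Odd (Nat.card P) := Nat.not_even_iff_odd.1 fun he => h he.two_dvd
      haveI := OddOrderTheorem.solvable (G := P) hodd
      refine hP.nonabelian ?_
      haveI := hP.simple
      exact ⟨⟨fun x y => IsSimpleGroup.comm_iff_isSolvable.2 inferInstance x y⟩⟩
    have hQ : κ.Q8 ≤ M := (Subgroup.closure_le M).2 (by
      rintro x (rfl | rfl) <;> [exact S.Fm_mem; exact S.Fm'_mem])
    obtain ⟨T, hT⟩ := (κ.Q8_two.to_le (inf_le_left : κ.Q8 ⊓ M ≤ κ.Q8)).comap_of_injective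
      M.subtype Subtype.val_injective |>.exists_le_sylow
    set N : Subgroup M := P.subgroupOf M
    haveI hNn : N.Normal := ⟨fun x hx g => by
      simpa [N, Subgroup.mem_subgroupOf] using hP.normal g g.2 x hx⟩
    have hNeven : 2 ∣ Nat.card (N ⊓ (T : Subgroup M) : Subgroup M) := by
      have h2 : 2 ∣ Nat.card N := by
        rwa [Nat.card_congr (Subgroup.subgroupOfEquivOfLe hP.le).toEquiv]
      obtain ⟨x, hx⟩ := exists_prime_orderOf_dvd_card' (G := N) 2 h2
      obtain ⟨T', hT'⟩ := ((IsPGroup.of_card (n := 1) (by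
        rw [Nat.card_zpowers, Subgroup.orderOf_coe, hx, pow_one]) : IsPGroup 2
          (Subgroup.zpowers (x : M)))).exists_le_sylow
      obtain ⟨g, hg⟩ := MulAction.exists_smul_eq M T' T
      have hy : g * x * g⁻¹ ∈ N ⊓ (T : Subgroup M) := ⟨hNn.conj_mem _ x.2 g, by
        rw [← hg]
        exact ⟨x, hT' (Subgroup.mem_zpowers _), rfl⟩⟩
      have hord : orderOf (⟨_, hy⟩ : (N ⊓ (T : Subgroup M) : Subgroup M)) = 2 := by
        rw [← Subgroup.orderOf_coe]
        show orderOf (MulAut.conj g (x : M)) = 2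
        rw [MulEquiv.orderOf_eq, Subgroup.orderOf_coe, hx]
      have := orderOf_dvd_natCard (⟨_, hy⟩ : (N ⊓ (T : Subgroup M) : Subgroup M))
      rwa [hord] at this
    set N' := N ⊓ (T : Subgroup M)
    letI : MulAction T N' :=
      { smul := fun g n => ⟨(g : M) * n * (g : M)⁻¹, ⟨hNn.conj_mem _ n.2.1 _,
          T.1.mul_mem (T.1.mul_mem g.2 n.2.2) (T.1.inv_mem g.2)⟩⟩
        one_smul := fun n => Subtype.ext (by
          show ((1 : T) : M) * n * ((1 : T) : M)⁻¹ = n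
          simp)
        mul_smul := fun g h n => Subtype.ext (by
          show ((g * h : T) : M) * n * ((g * h : T) : M)⁻¹ = (g : M) * ((h : M) * n * (h : M)⁻¹) * (g : M)⁻¹
          rw [Subgroup.coe_mul, _root_.mul_inv_rev]; simp only [mul_assoc]) }
    have hfix : (1 : N') ∈ MulAction.fixedPoints T N' := fun g => Subtype.ext (by
      show (g : M) * ((1 : N') : M) * (g : M)⁻¹ = _
      simp)
    obtain ⟨w, hw, hw1⟩ := T.2.exists_fixed_point_of_prime_dvd_card_of_fixed_point N' hNeven hfix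
    obtain ⟨k, hk⟩ := T.2 ⟨(w : M), w.2.2⟩
    have hk' : (w : M) ^ (2 ^ k) = 1 := congrArg Subtype.val hk
    obtain ⟨n, hn⟩ : ∃ n, orderOf (w : M) = 2 ^ n :=
      (Nat.dvd_prime_pow Nat.prime_two).1 (orderOf_dvd_of_pow_eq_one hk') |>.imp fun _ h => h.2
    have hn0 : n ≠ 0 := fun h => hw1 (Subtype.ext (by
      rw [h, pow_zero, orderOf_eq_one_iff] at hn
      rw [hn, Subgroup.coe_one]))
    set v : M := (w : M) ^ (2 ^ (n - 1))
    have hv2 : v * v = 1 := by
      rw [← pow_add, ← two_mul, ← pow_succ', Nat.sub_add_cancel (by omega), ← hn,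
        pow_orderOf_eq_one]
    have hv1 : v ≠ 1 := fun h => by
      have := Nat.le_of_dvd (by positivity) (hn ▸ orderOf_dvd_of_pow_eq_one h)
      exact absurd this (not_le.2 (Nat.pow_lt_pow_right (by norm_num) (by omega)))
    have hwc : ∀ x : GL (Fin 3) F, x ∈ κ.Q8 → ∀ hxM : x ∈ M, Commute (w : M) ⟨x, hxM⟩ := by
      intro x hx hxM
      have h := congrArg Subtype.val (hw ⟨⟨x, hxM⟩, hT ⟨hx, hxM⟩⟩)
      exact (mul_inv_eq_iff_eq_mul.1 h).symm
    have hvt : (v : GL (Fin 3) F) = κ.t := by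
      refine κ.eq_t_of_comm (S.le v.2) (by rw [← Subgroup.coe_mul, hv2, Subgroup.coe_one])
        (fun h => hv1 (Subtype.ext h)) ?_ ?_
      · exact congrArg Subtype.val ((hwc _ (Subgroup.subset_closure (Set.mem_insert _ _))
          S.Fm_mem).pow_left _).eq
      · exact congrArg Subtype.val ((hwc _ (Subgroup.subset_closure (Set.mem_insert_of_mem _ rfl))
          S.Fm'_mem).pow_left _).eq
    have htP : κ.t ∈ P := hvt ▸ (pow_mem w.2.1 _ : v ∈ N)
    have hcomm : ∀ x ∈ M, κ.t * x * κ.t⁻¹ * x⁻¹ ∈ P := fun x hx => by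
      rw [show κ.t * x * κ.t⁻¹ * x⁻¹ = κ.t * (x * κ.t⁻¹ * x⁻¹) by simp only [mul_assoc]]
      exact mul_mem htP (hP.normal x hx _ (inv_mem htP))
    have hD : κ.D ∈ P := κ.t_conj.1 ▸ hcomm _ (S.R0_le κ.D_mem)
    have hC : κ.C ∈ P := κ.t_conj.2 ▸ hcomm _ (S.R0_le κ.C_mem)
    refine ⟨le_of_card27 κ.card_R0 κ.D_mem κ.C_mem hD hC ?_, htP⟩
    have h := κ.commute_el (a := 0) (b := 1) (c := 0) (a' := 0) (b' := 0) (c' := 1)
    simp [Ctx.el] at h
    exact h

end Cfsg.Agent.SL3Max.C6
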