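/-
The finite subgroups of `PGL₂` of order prime to the characteristic, and facts about them.
Main results: `pgl_cases`, `dihedral_klein`, `Exc.small_order`, `Exc.four`.
-/
import Cfsg.Agent.Lib.PSL2.PGL
import Mathlib.GroupTheory.SpecificGroups.Alternating

set_option autoImplicit false
set_option linter.unusedSectionVars false

namespace Cfsg.Agent.SL3Max.C6

/-- Isomorphic to `A₄`, `S₄` or `A₅`. -/
def Exc (G : Type*) [Group G] : Prop :=
  Nonempty (G ≃* alternatingGroup (Fin 4)) ∨ Nonempty (G ≃* Equiv.Perm (Fin 4)) ∨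
    Nonempty (G ≃* alternatingGroup (Fin 5))

theorem pgl_cases {F : Type*} [Field F] [Finite F] (p : ℕ) [Fact p.Prime] [CharP F p]
    (H : Subgroup (PSL2.PGL2 F)) (hp : ¬ p ∣ Nat.card H) :
    IsCyclic H ∨ (∃ n, Nonempty (H ≃* DihedralGroup n)) ∨ Exc H := by
  obtain ⟨n, hn, -, f, hf⟩ := PSL2.exists_pgl_embed (F := F) p
  let e : H ≃* H.map f := Subgroup.equivMapOfInjective H f hf
  have hp' : ¬ p ∣ Nat.card (H.map f) := by rwa [← Nat.card_congr e.toEquiv]
  rcases PSL2.psl_dickson p (H.map f) with ⟨h, -⟩ | ⟨-, h, -⟩ | ⟨m, -, -, -, -, -, ⟨h⟩⟩ | ⟨-, h⟩ |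
    ⟨-, -, ⟨h⟩⟩ | ⟨R, m, -, -, h⟩
  · exact absurd h hp'
  · exact Or.inl (isCyclic_of_surjective e.symm e.symm.surjective)
  · exact Or.inr (Or.inl ⟨m, ⟨e.trans h⟩⟩)
  · refine Or.inr (Or.inr ?_)
    rcases h with ⟨⟨h⟩⟩ | ⟨⟨h⟩⟩ | ⟨⟨h⟩⟩
    exacts [Or.inl ⟨e.trans h⟩, Or.inr (Or.inl ⟨e.trans h⟩), Or.inr (Or.inr ⟨e.trans h⟩)]
  · exact Or.inr (Or.inr (Or.inr (Or.inr ⟨e.trans h⟩)))
  · haveI := PSL2.charP_subfield p R
    refine absurd ?_ hp'
    rcases h with ⟨⟨h⟩⟩ | ⟨-, -, ⟨h⟩⟩
    · rw [Nat.card_congr h.toEquiv]; exact PSL2.dvd_card_psl p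
    · rw [Nat.card_congr h.toEquiv]
      exact (PSL2.dvd_card_psl (F := R) p).trans
        (Subgroup.card_dvd_of_injective _ Matrix.ProjectiveSpecialLinearGroup.toPGL_injective)

/-- In a dihedral group one of three commuting involutions is central. -/
theorem dihedral_klein {n : ℕ} {a b : DihedralGroup n} (ha : a * a = 1) (hb : b * b = 1)
    (hab : a * b = b * a) (ha1 : a ≠ 1) (hb1 : b ≠ 1) (hne : a ≠ b) :
    (∀ x, a * x = x * a) ∨ (∀ x, b * x = x * b) ∨ ∀ x, a * b * x = x * (a * b) := by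
  have key : ∀ i : ZMod n, DihedralGroup.r i * DihedralGroup.r i = 1 →
      ∀ x, DihedralGroup.r i * x = x * DihedralGroup.r i := by
    intro i hi x
    rw [DihedralGroup.r_mul_r, DihedralGroup.one_def, DihedralGroup.r.injEq] at hi
    rcases x with j | j
    · rw [DihedralGroup.r_mul_r, DihedralGroup.r_mul_r, add_comm]
    · rw [DihedralGroup.r_mul_sr, DihedralGroup.sr_mul_r]
      congr 1
      linear_combination -hi
  rcases a with i | i <;> rcases b with j | j
  · exact Or.inl (key i ha)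
  · exact Or.inl (key i ha)
  · exact Or.inr (Or.inl (key j hb))
  · refine Or.inr (Or.inr ?_)
    have h2 : DihedralGroup.sr i * DihedralGroup.sr j * (DihedralGroup.sr i * DihedralGroup.sr j) = 1 := by
      rw [mul_assoc, ← mul_assoc (DihedralGroup.sr j), ← hab, mul_assoc (DihedralGroup.sr i),
        hb, mul_one, ha]
    rw [DihedralGroup.sr_mul_sr] at h2 ⊢
    exact key _ h2

/-- In a dihedral group an involution commuting with an element of order at least three is central. -/
theorem dihedral_central {n : ℕ} {x c : DihedralGroup n} (hx : x * x ≠ 1) (hc : c * c = 1)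
    (hxc : x * c = c * x) : ∀ y, c * y = y * c := by
  rcases x with i | i
  swap
  · exact absurd (DihedralGroup.sr_mul_self i) hx
  rw [DihedralGroup.r_mul_r, DihedralGroup.one_def, Ne, DihedralGroup.r.injEq] at hx
  rcases c with j | j
  · rw [DihedralGroup.r_mul_r, DihedralGroup.one_def, DihedralGroup.r.injEq] at hc
    intro y
    rcases y with k | k
    · rw [DihedralGroup.r_mul_r, DihedralGroup.r_mul_r, add_comm]
    · rw [DihedralGroup.r_mul_sr, DihedralGroup.sr_mul_r]
      congr 1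
      linear_combination -hc
  · rw [DihedralGroup.r_mul_sr, DihedralGroup.sr_mul_r, DihedralGroup.sr.injEq] at hxc
    exact absurd (by linear_combination -hxc : i + i = 0) hx

set_option maxRecDepth 100000 in
set_option maxHeartbeats 4000000 in
private lemma s4_small : ∀ g : Equiv.Perm (Fin 4), g ^ 2 = 1 ∨ g ^ 3 = 1 ∨ g ^ 4 = 1 := by decide

set_option maxRecDepth 100000 in
set_option maxHeartbeats 4000000 in
private lemma a5_small : ∀ g : alternatingGroup (Fin 5),
    g ^ 2 = 1 ∨ g ^ 3 = 1 ∨ g ^ 5 = 1 := by decide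

set_option maxRecDepth 100000 in
set_option maxHeartbeats 4000000 in
private lemma s4_four : ∀ x : Equiv.Perm (Fin 4), x ^ 4 = 1 → x * x ≠ 1 → ∀ g : Equiv.Perm (Fin 4),
    g * (x * x) * g⁻¹ * (x * x) = x * x * (g * (x * x) * g⁻¹) := by decide

set_option maxRecDepth 100000 in
set_option maxHeartbeats 4000000 in
/-- An involution of `A₄` is a commutator. -/
theorem a4_commutator : ∀ x : alternatingGroup (Fin 4), x * x = 1 →
    ∃ a b : alternatingGroup (Fin 4), x = a * b * a⁻¹ * b⁻¹ := by decide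

/-- The elements of an exceptional group have order at most five. -/
theorem Exc.small_order {G : Type*} [Group G] (h : Exc G) (g : G) :
    g ^ 2 = 1 ∨ g ^ 3 = 1 ∨ g ^ 4 = 1 ∨ g ^ 5 = 1 := by
  have back : ∀ {H : Type} [Group H] (e : G ≃* H) (k : ℕ), (e g) ^ k = 1 → g ^ k = 1 :=
    fun e k hk => e.injective (by rw [map_pow, map_one, hk])
  rcases h with ⟨⟨e⟩⟩ | ⟨⟨e⟩⟩ | ⟨⟨e⟩⟩
  · rcases s4_small (e g : Equiv.Perm (Fin 4)) with h | h | h
    · exact Or.inl (back e 2 (Subtype.ext h))
    · exact Or.inr (Or.inl (back e 3 (Subtype.ext h)))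
    · exact Or.inr (Or.inr (Or.inl (back e 4 (Subtype.ext h))))
  · rcases s4_small (e g) with h | h | h
    exacts [Or.inl (back e 2 h), Or.inr (Or.inl (back e 3 h)), Or.inr (Or.inr (Or.inl (back e 4 h)))]
  · rcases a5_small (e g) with h | h | h
    exacts [Or.inl (back e 2 h), Or.inr (Or.inl (back e 3 h)), Or.inr (Or.inr (Or.inr (back e 5 h)))]

/-- The squares of elements of order four commute with their conjugates. -/
theorem Exc.four {G : Type*} [Group G] (h : Exc G) {x : G} (h4 : x ^ 4 = 1) (h2 : x * x ≠ 1) (g : G) :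
    g * (x * x) * g⁻¹ * (x * x) = x * x * (g * (x * x) * g⁻¹) := by
  rcases h with ⟨⟨e⟩⟩ | ⟨⟨e⟩⟩ | ⟨⟨e⟩⟩
  · refine e.injective (Subtype.ext ?_)
    simp only [map_mul, map_inv, Subgroup.coe_mul, InvMemClass.coe_inv]
    refine s4_four _ ?_ ?_ _
    · rw [← SubmonoidClass.coe_pow, ← map_pow, h4, map_one, Subgroup.coe_one]
    · rw [← Subgroup.coe_mul, ← map_mul]
      exact fun hh => h2 (e.injective (by rw [map_one]; exact Subtype.ext hh))
  · refine e.injective ?_
    simp only [map_mul, map_inv]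
    refine s4_four _ (by rw [← map_pow, h4, map_one]) ?_ _
    rw [← map_mul]
    exact fun hh => h2 (e.injective (by rw [map_one]; exact hh))
  · exfalso
    have key : (e x) ^ 4 = 1 := by rw [← map_pow, h4, map_one]
    refine h2 (e.injective ?_)
    rw [map_mul, map_one, ← pow_two]
    rcases a5_small (e x) with h | h | h
    · exact h
    · rw [show (4 : ℕ) = 3 + 1 from rfl, pow_succ, h, one_mul] at key; rw [key, one_pow]
    · rw [pow_succ, key, one_mul] at h; rw [h, one_pow]

/-- A homomorphism from `S₄` to a commutative monoid has values of order two. -/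
theorem s4_hom_sq {A : Type*} [CommGroup A] (f : Equiv.Perm (Fin 4) →* A) (x : Equiv.Perm (Fin 4)) :
    f x ^ 2 = 1 := by
  induction x using Equiv.Perm.swap_induction_on with
  | one => simp
  | swap_mul g a b _ ih =>
    rw [map_mul, mul_pow, ih, mul_one, ← map_pow, pow_two, Equiv.swap_mul_self, map_one]

/-- A homomorphism from `A₅` to a commutative group is trivial. -/
theorem a5_hom {A : Type*} [CommGroup A] (f : alternatingGroup (Fin 5) →* A) : f = 1 := by
  haveI := alternatingGroup.isSimpleGroup_five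
  rcases IsSimpleGroup.eq_bot_or_eq_top_of_normal f.ker f.normal_ker with h | h
  · exfalso
    have hinj := (MonoidHom.ker_eq_bot_iff f).1 h
    have : ¬ ∀ a b : alternatingGroup (Fin 5), a * b = b * a := by
      intro hc
      have := hc ⟨Equiv.swap 0 1 * Equiv.swap 2 3, Equiv.Perm.mem_alternatingGroup.2 (by decide)⟩
        ⟨Equiv.swap 0 2 * Equiv.swap 2 4, Equiv.Perm.mem_alternatingGroup.2 (by decide)⟩
      have h0 := congrArg (fun g : alternatingGroup (Fin 5) => (g : Equiv.Perm (Fin 5)) 0) this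
      revert h0
      decide
    exact this fun a b => hinj (by rw [map_mul, map_mul, mul_comm])
  · exact MonoidHom.ker_eq_top_iff.1 h

end Cfsg.Agent.SL3Max.C6
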