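/-
Over a prime field an irreducible subgroup of `GL₃` with a transvection contains `SL₃`, and a unipotent
element of square zero type is a transvection.
Main results: `no_cen`, `cen_of_sq`.
-/
import Cfsg.Agent.Lib.SL3Max.Orbits
import Cfsg.Agent.Lib.PrimeDim.Clifford
import Cfsg.Agent.Lib.SL3Max.Involution

set_option autoImplicit false
set_option linter.unusedSectionVars false

namespace Cfsg.Agent.SL3Max.C6

open Cfsg.Agent.Transvect Module Matrix

variable {F : Type*} [Field F] [Fintype F]

/-- An irreducible subgroup with a transvection contains `SL₃`. -/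
theorem no_cen (hp : (Fintype.card F).Prime) {M : Subgroup (GL (Fin 3) F)}
    (hirr : Geo.ActsIrreducibly (Geo.matrixSet M))
    (hns : ¬ Cfsg.Geo.specialLinear (Fin 3) F ≤ M) (c : V3 F) : ¬ Cen M c := by
  classical
  intro hc
  haveI : Fact (Fintype.card F).Prime := ⟨hp⟩
  haveI : CharP F (Fintype.card F) := charP_of_card_eq_prime rfl
  have hnat : ∀ a : F, ∃ k : ℕ, (k : F) = a := fun a => by
    have hinj : Function.Injective (fun k : Fin (Fintype.card F) => ((k : ℕ) : F)) :=
      fun i j h => Fin.ext (CharP.natCast_injOn_Iio F (Fintype.card F) (Set.mem_Iio.2 i.2)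
        (Set.mem_Iio.2 j.2) h)
    obtain ⟨k, hk⟩ := ((Fintype.bijective_iff_injective_and_card _).2
      ⟨hinj, Fintype.card_fin _⟩).2 a
    exact ⟨k, hk⟩
  -- root groups are whole
  have hfull : ∀ (c : V3 F) (φ : D3 F), φ c = 0 → tv c φ ∈ M → ∀ a : F, tv c (a • φ) ∈ M := by
    intro c φ h hm a
    obtain ⟨k, rfl⟩ := hnat a
    induction k with
    | zero =>
      rw [Nat.cast_zero, zero_smul, show tv c (0 : D3 F) = 1 from gl_ext fun x => by
        rw [tv_apply (v := c) (φ := 0) rfl, LinearMap.zero_apply, zero_smul, add_zero, map_one]; rfl]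
      exact one_mem M
    | succ k ih =>
      rw [Nat.cast_succ, add_smul, one_smul]
      have h1 : tv c ((k : F) • φ + φ) = tv c ((k : F) • φ) * tv c φ := by
        have h0 : ((k : F) • φ + φ) c = 0 := by simp [h]
        refine gl_ext fun x => ?_
        rw [map_mul, LinearEquiv.mul_apply, tv_apply h0, tv_apply h,
          tv_apply (show ((k : F) • φ) c = 0 by simp [h]), LinearMap.smul_apply, map_add, map_smul, h,
          smul_zero, add_zero, LinearMap.add_apply, LinearMap.smul_apply]
        module
      rw [h1]; exact mul_mem ih hm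
  -- invariant subspaces
  have hinv : ∀ W : Submodule F (V3 F), (∀ g ∈ M, ∀ v ∈ W, app g v ∈ W) → W = ⊥ ∨ W = ⊤ := by
    intro W hW
    refine hirr W ?_
    rintro _ ⟨g, hg, rfl⟩
    exact (PrimeDim.mapsTo_iff_mulVec _ W).2 (hW g hg)
  let Cs : Submodule F (V3 F) :=
    { carrier := {v | v = 0 ∨ Cen M v}
      zero_mem' := Or.inl rfl
      smul_mem' := fun a v hv => by
        rcases hv with rfl | hv
        · exact Or.inl (smul_zero a)
        · by_cases ha : a = 0
          · exact Or.inl (by rw [ha, zero_smul])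
          · exact Or.inr (hv.smul ha)
      add_mem' := fun {v w} hv hw => by
        rcases hv with rfl | hv
        · rwa [zero_add]
        rcases hw with rfl | hw
        · rw [add_zero]; exact Or.inr hv
        by_cases h0 : v + w = 0
        · exact Or.inl h0
        refine Or.inr ?_
        obtain ⟨hv0, φ, hφ0, hφv, hφ⟩ := hv
        by_cases hφw : φ w = 0
        · obtain ⟨a, ha, hm⟩ := flag hw ⟨hφ0, v, hv0, hφv, hφ⟩ hφw
          have hw' := hfull w (a • φ) (by simp [hφw]) hm a⁻¹
          rw [smul_smul, inv_mul_cancel₀ ha, one_smul] at hw'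
          refine ⟨h0, φ, hφ0, by simp [hφv, hφw], ?_⟩
          rw [show tv (v + w) φ = tv v φ * tv w φ from gl_ext fun x => by
            rw [map_mul, LinearEquiv.mul_apply, tv_apply (by simp [hφv, hφw]), tv_apply hφw,
              tv_apply hφv, map_add, map_smul, hφw, smul_zero, add_zero, smul_add]
            abel]
          exact mul_mem hφ hw'
        · have h1 := Cen.conj hw (hfull v φ hφv hφ (φ w)⁻¹)
          rw [tv_apply (by simp [hφv]), LinearMap.smul_apply, smul_eq_mul, inv_mul_cancel₀ hφw,
            one_smul, add_comm] at h1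
          exact h1 }
  have hCs : Cs = ⊤ := by
    refine (hinv Cs fun g hg v hv => ?_).resolve_left (fun h => hc.1 ?_)
    · rcases hv with rfl | hv
      · exact Or.inl (map_zero _)
      · exact Or.inr (hv.conj hg)
    · have : c ∈ Cs := Or.inr hc
      rw [h] at this
      exact (Submodule.mem_bot F).1 this
  have hallC : ∀ v : V3 F, v ≠ 0 → Cen M v := fun v hv => by
    have : v ∈ Cs := by rw [hCs]; trivial
    exact this.resolve_left hv
  let As : Submodule F (D3 F) :=
    { carrier := {φ | φ = 0 ∨ Axis M φ}
      zero_mem' := Or.inl rfl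
      smul_mem' := fun a v hv => by
        rcases hv with rfl | hv
        · exact Or.inl (smul_zero a)
        · by_cases ha : a = 0
          · exact Or.inl (by rw [ha, zero_smul])
          · exact Or.inr (hv.smul ha)
      add_mem' := fun {φ ψ} hv hw => by
        rcases hv with rfl | hv
        · rwa [zero_add]
        rcases hw with rfl | hw
        · rw [add_zero]; exact Or.inr hv
        by_cases h0 : φ + ψ = 0
        · exact Or.inl h0
        refine Or.inr ?_
        obtain ⟨hφ0, c, hc0, hφc, hφ⟩ := hv
        by_cases hψc : ψ c = 0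
        · obtain ⟨a, ha, hm⟩ := flag (⟨hc0, φ, hφ0, hφc, hφ⟩ : Cen M c) hw hψc
          have hw' := hfull c (a • ψ) (by simp [hψc]) hm a⁻¹
          rw [smul_smul, inv_mul_cancel₀ ha, one_smul] at hw'
          refine ⟨h0, c, hc0, by simp [hφc, hψc], ?_⟩
          rw [show tv c (φ + ψ) = tv c φ * tv c ψ from gl_ext fun x => by
            rw [map_mul, LinearEquiv.mul_apply, tv_apply (by simp [hφc, hψc]), tv_apply hψc,
              tv_apply hφc, map_add, map_smul, hφc, smul_zero, add_zero, LinearMap.add_apply, add_smul]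
            abel]
          exact mul_mem hφ hw'
        · set g := tv c ((ψ c)⁻¹ • φ) with hg
          have hgc : ((ψ c)⁻¹ • φ) c = 0 := by simp [hφc]
          have h1 := Axis.conj hw (inv_mem (hfull c φ hφc hφ (ψ c)⁻¹))
          rw [inv_inv] at h1
          rwa [show ψ ∘ₗ (app g).toLinearMap = φ + ψ from LinearMap.ext fun x => by
            rw [LinearMap.comp_apply, LinearEquiv.coe_coe, hg, tv_apply hgc, map_add, map_smul,
              LinearMap.smul_apply, smul_eq_mul, smul_eq_mul, LinearMap.add_apply,
              mul_comm _ (φ x), mul_assoc, inv_mul_cancel₀ hψc, mul_one, add_comm]] at h1 }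
  obtain ⟨hc0, φ, hφ0, hφc, hφ⟩ := hc
  have hann : As.dualCoannihilator = ⊥ := by
    refine (hinv _ fun g hg v hv => ?_).resolve_right (fun h => hφ0 (LinearMap.ext fun x => ?_))
    · rw [Submodule.mem_dualCoannihilator] at hv ⊢
      intro ψ hψ
      rcases hψ with rfl | hψ
      · rfl
      · have h1 := hψ.conj (inv_mem hg)
        rw [inv_inv] at h1
        exact hv _ (Or.inr h1)
    · have hx : x ∈ As.dualCoannihilator := by rw [h]; trivial
      exact (Submodule.mem_dualCoannihilator x).1 hx φ (Or.inr ⟨hφ0, c, hc0, hφc, hφ⟩)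
  have hAs : As = ⊤ := by
    rw [← Subspace.dualCoannihilator_dualAnnihilator_eq (W := As), hann,
      Submodule.dualAnnihilator_bot]
  refine hns (sl_le_of_all hallC fun ψ hψ => ?_)
  have : ψ ∈ As := by rw [hAs]; trivial
  exact this.resolve_left hψ

/-- An element `g` of `M` with `(g - 1)² = 0`, `g ≠ 1`, gives a centre. -/
lemma cen_of_sq {M : Subgroup (GL (Fin 3) F)} {g : GL (Fin 3) F} (hg : g ∈ M) (hne : g ≠ 1)
    (hsq : ∀ x, app g (app g x - x) = app g x - x) : ∃ c, Cen M c := by
  set T : V3 F →ₗ[F] V3 F := (app g).toLinearMap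
  set D := T - LinearMap.id
  have h3 : finrank F (V3 F) = 3 := by simp
  have hle : LinearMap.range D ≤ LinearMap.ker D := by
    rintro _ ⟨x, rfl⟩
    rw [LinearMap.mem_ker, LinearMap.sub_apply, LinearMap.id_apply, sub_eq_zero]
    exact hsq x
  have hr := LinearMap.finrank_range_add_finrank_ker D
  have := Submodule.finrank_mono hle
  have hne' : LinearMap.range D ≠ ⊥ := fun h => hne (gl_ext fun x => by
    have h1 : D x ∈ LinearMap.range D := ⟨x, rfl⟩
    rw [h, Submodule.mem_bot, LinearMap.sub_apply, LinearMap.id_apply, sub_eq_zero] at h1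
    rw [map_one]; exact h1)
  have hr1 : finrank F (LinearMap.range D) = 1 := by
    have h0 : finrank F (LinearMap.range D) ≠ 0 := fun h => hne' (Submodule.finrank_eq_zero.1 h)
    rw [h3] at hr; omega
  obtain ⟨c, hc, hc0⟩ := Submodule.exists_mem_ne_zero_of_ne_bot hne'
  have hspan := Submodule.eq_of_le_of_finrank_le
    ((Submodule.span_singleton_le_iff_mem _ _).2 hc) (by rw [hr1, finrank_span_singleton hc0])
  obtain ⟨φ, hφ⟩ := eq_smul_of_range_le hc0 (fun x => (hspan.symm ▸ ⟨x, rfl⟩ : D x ∈ F ∙ c))
  have hφc : φ c = 0 := by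
    have h1 := hle hc
    rw [LinearMap.mem_ker, hφ] at h1
    exact (smul_eq_zero.1 h1).resolve_right hc0
  refine ⟨c, hc0, φ, fun h => hne' (LinearMap.range_eq_bot.2 (LinearMap.ext fun x => by
    rw [hφ, h, LinearMap.zero_apply, zero_smul, LinearMap.zero_apply])), hφc, ?_⟩
  rw [show tv c φ = g from gl_ext fun x => by
    rw [tv_apply hφc, ← hφ]
    show x + (T x - x) = T x
    abel]
  exact hg

end Cfsg.Agent.SL3Max.C6
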