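/-
The centralisers of the two involutions `diag(1,-1,-1)` and `t` in `GL₃` act on a plane.
Main results: `sig`, `rho`, `rho_eq_one`, `sq_zero_u`, `sq_zero_t`.
-/
import Cfsg.Agent.Lib.SL3Max.C6.Model

set_option autoImplicit false
set_option linter.unusedSectionVars false

namespace Cfsg.Agent.SL3Max.C6

open Matrix

variable {F : Type*} [Field F] (κ : Ctx F)

namespace Ctx

/-- The involution `diag(1,-1,-1)`. -/
def uu (_κ : Ctx F) : GL (Fin 3) F where
  val := !![1, 0, 0; 0, -1, 0; 0, 0, -1]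
  inv := !![1, 0, 0; 0, -1, 0; 0, 0, -1]
  val_inv := by ext i j; fin_cases i <;> fin_cases j <;> simp
  inv_val := by ext i j; fin_cases i <;> fin_cases j <;> simp

/-- The change of basis carrying `uu` to `t`. -/
def S : GL (Fin 3) F where
  val := !![0, 1, 0; 1, 0, 1; -1, 0, 1]
  inv := !![0, (2 : F)⁻¹, -(2 : F)⁻¹; 1, 0, 0; 0, (2 : F)⁻¹, (2 : F)⁻¹]
  val_inv := by
    have h := inv_mul_cancel₀ κ.two
    ext i j; fin_cases i <;> fin_cases j <;>
      simp [Matrix.mul_apply, Fin.sum_univ_three] <;> grind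
  inv_val := by
    have h := inv_mul_cancel₀ κ.two
    ext i j; fin_cases i <;> fin_cases j <;>
      simp [Matrix.mul_apply, Fin.sum_univ_three] <;> grind

lemma uu_sq : κ.uu * κ.uu = 1 := Units.ext (uu κ).val_inv

lemma det_uu : (κ.uu : Matrix (Fin 3) (Fin 3) F).det = 1 := by rw [det_fin_three]; simp [uu]

lemma uu_comm_t : κ.uu * κ.t = κ.t * κ.uu := Units.ext <| by
  ext i j; fin_cases i <;> fin_cases j <;> simp [uu, t, Matrix.mul_apply, Fin.sum_univ_three]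

lemma t_eq : κ.S * κ.uu * κ.S⁻¹ = κ.t := by
  rw [mul_inv_eq_iff_eq_mul]
  refine Units.ext ?_
  ext i j; fin_cases i <;> fin_cases j <;> simp [uu, t, S, Matrix.mul_apply, Fin.sum_univ_three]

/-- The centraliser of `uu`. -/
abbrev Cu : Subgroup (GL (Fin 3) F) := Subgroup.centralizer {κ.uu}

/-- The centraliser of `t`. -/
abbrev Ct : Subgroup (GL (Fin 3) F) := Subgroup.centralizer {κ.t}

variable {κ}

lemma Cu_shape {g : GL (Fin 3) F} (hg : g ∈ κ.Cu) :
    g 0 1 = 0 ∧ g 0 2 = 0 ∧ g 1 0 = 0 ∧ g 2 0 = 0 := by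
  have h := Subgroup.mem_centralizer_singleton_iff.1 hg
  have two := κ.two
  have e : ∀ i j, ((g : Matrix (Fin 3) (Fin 3) F) * (κ.uu : Matrix (Fin 3) (Fin 3) F)) i j =
      ((κ.uu : Matrix (Fin 3) (Fin 3) F) * (g : Matrix (Fin 3) (Fin 3) F)) i j := fun i j => by
    rw [← Units.val_mul, h, Units.val_mul]
  have h01 := e 0 1
  have h02 := e 0 2
  have h10 := e 1 0
  have h20 := e 2 0
  simp [uu, Matrix.mul_apply, Fin.sum_univ_three] at h01 h02 h10 h20
  refine ⟨?_, ?_, ?_, ?_⟩ <;> grind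

variable (κ)

/-- The lower block. -/
def blk : κ.Cu →* Matrix (Fin 2) (Fin 2) F where
  toFun g := !![g.1 1 1, g.1 1 2; g.1 2 1, g.1 2 2]
  map_one' := by ext i j; fin_cases i <;> fin_cases j <;> simp
  map_mul' a b := by
    obtain ⟨a1, a2, a3, a4⟩ := Cu_shape a.2
    obtain ⟨b1, b2, b3, b4⟩ := Cu_shape b.2
    ext i j; fin_cases i <;> fin_cases j <;>
      simp [Matrix.mul_apply, Fin.sum_univ_three, a1, a2, a3, a4, b1, b2, b3, b4]

/-- The first entry. -/
def lead : κ.Cu →* F where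
  toFun g := g.1 0 0
  map_one' := by simp
  map_mul' a b := by
    obtain ⟨a1, a2, a3, a4⟩ := Cu_shape a.2
    simp [Matrix.mul_apply, Fin.sum_univ_three, a1, a2]

/-- The projective normalisation of the lower block. -/
def sigM : κ.Cu →* Matrix (Fin 2) (Fin 2) F where
  toFun g := (κ.lead g)⁻¹ • κ.blk g
  map_one' := by simp
  map_mul' a b := by
    rw [map_mul, map_mul, mul_inv, smul_mul_assoc, mul_smul_comm, smul_smul]

/-- The action on the plane of the centraliser of `uu`. -/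
def sig : κ.Cu →* GL (Fin 2) F := κ.sigM.toHomUnits

lemma sig_val (g : κ.Cu) : (κ.sig g : Matrix (Fin 2) (Fin 2) F) =
    (g.1 0 0)⁻¹ • !![g.1 1 1, g.1 1 2; g.1 2 1, g.1 2 2] := rfl

lemma lead_ne (g : κ.Cu) : g.1 0 0 ≠ 0 := by
  intro h
  obtain ⟨a1, a2, a3, a4⟩ := Cu_shape g.2
  have h1 := congrFun (congrFun (Units.mul_inv g.1) 0) 0
  rw [Matrix.mul_apply, Fin.sum_univ_three, h, a1, a2] at h1
  simp at h1

lemma sig_eq_one (g : κ.Cu) : κ.sig g = 1 ↔ (g : GL (Fin 3) F) ∈ Geo.scalars (Fin 3) F := by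
  obtain ⟨a1, a2, a3, a4⟩ := Cu_shape g.2
  have h0 := κ.lead_ne g
  constructor
  · intro h
    have h' := congrArg (fun x : GL (Fin 2) F => (g.1 0 0) • (x : Matrix (Fin 2) (Fin 2) F)) h
    simp only [κ.sig_val, smul_smul, mul_inv_cancel₀ h0, one_smul, Units.val_one] at h'
    have e00 := congrFun (congrFun h' 0) 0
    have e01 := congrFun (congrFun h' 0) 1
    have e10 := congrFun (congrFun h' 1) 0
    have e11 := congrFun (congrFun h' 1) 1
    simp at e00 e01 e10 e11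
    refine (Geo.mem_scalars_iff _).2 ⟨Units.mk0 _ h0, ?_⟩
    ext i j; fin_cases i <;> fin_cases j <;> simp [a1, a2, a3, a4, e00, e01, e10, e11]
  · intro h
    obtain ⟨c, hc⟩ := (Geo.mem_scalars_iff _).1 h
    refine Units.ext ?_
    rw [κ.sig_val, hc]
    have hc0 : (c : F) ≠ 0 := c.ne_zero
    ext i j; fin_cases i <;> fin_cases j <;> simp [hc0]

lemma S_conj_mem {g : GL (Fin 3) F} (hg : g ∈ κ.Ct) : κ.S⁻¹ * g * κ.S ∈ κ.Cu := by
  have h := Subgroup.mem_centralizer_singleton_iff.1 hg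
  rw [Subgroup.mem_centralizer_singleton_iff]
  have hu : κ.uu = κ.S⁻¹ * κ.t * κ.S := by rw [← κ.t_eq]; group
  rw [hu]
  calc κ.S⁻¹ * g * κ.S * (κ.S⁻¹ * κ.t * κ.S) = κ.S⁻¹ * (g * κ.t) * κ.S := by group
    _ = _ := by rw [h]; group

/-- Conjugation from the centraliser of `t` to that of `uu`. -/
def toCu : κ.Ct →* κ.Cu where
  toFun g := ⟨κ.S⁻¹ * g.1 * κ.S, κ.S_conj_mem g.2⟩
  map_one' := Subtype.ext (by simp)
  map_mul' a b := Subtype.ext (by
    show κ.S⁻¹ * (a.1 * b.1) * κ.S = κ.S⁻¹ * a.1 * κ.S * (κ.S⁻¹ * b.1 * κ.S)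
    group)

/-- The action on the plane of the centraliser of `t`. -/
def rho : κ.Ct →* GL (Fin 2) F := κ.sig.comp κ.toCu

variable {κ}

lemma Ct_shape {g : GL (Fin 3) F} (hg : g ∈ κ.Ct) :
    g 0 2 = g 0 1 ∧ g 2 0 = g 1 0 ∧ g 2 2 = g 1 1 ∧ g 2 1 = g 1 2 := by
  have h := Subgroup.mem_centralizer_singleton_iff.1 hg
  have e : ∀ i j, ((g : Matrix (Fin 3) (Fin 3) F) * (κ.t : Matrix (Fin 3) (Fin 3) F)) i j =
      ((κ.t : Matrix (Fin 3) (Fin 3) F) * (g : Matrix (Fin 3) (Fin 3) F)) i j := fun i j => by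
    rw [← Units.val_mul, h, Units.val_mul]
  have h01 := e 0 1
  have h10 := e 1 0
  have h11 := e 1 2
  have h12 := e 1 1
  simp [t, Matrix.mul_apply, Fin.sum_univ_three] at h01 h10 h11 h12
  refine ⟨?_, ?_, ?_, ?_⟩ <;> grind

variable (κ)

lemma rho_val (g : κ.Ct) : (κ.rho g : Matrix (Fin 2) (Fin 2) F) =
    (g.1 1 1 - g.1 1 2)⁻¹ • !![g.1 0 0, 2 * g.1 0 1; g.1 1 0, g.1 1 1 + g.1 1 2] := by
  obtain ⟨a1, a2, a3, a4⟩ := Ct_shape g.2
  show (κ.sig (κ.toCu g) : Matrix (Fin 2) (Fin 2) F) = _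
  rw [κ.sig_val]
  have two := inv_mul_cancel₀ κ.two
  have key : ∀ i j, ((κ.toCu g : κ.Cu) : GL (Fin 3) F) i j =
      ((!![0, (2 : F)⁻¹, -(2 : F)⁻¹; 1, 0, 0; 0, (2 : F)⁻¹, (2 : F)⁻¹] : Matrix (Fin 3) (Fin 3) F) *
        (g.1 : Matrix (Fin 3) (Fin 3) F) *
        (!![0, 1, 0; 1, 0, 1; -1, 0, 1] : Matrix (Fin 3) (Fin 3) F)) i j := fun i j => rfl
  simp only [key]
  ext i j
  fin_cases i <;> fin_cases j <;>
    simp [Matrix.mul_apply, Matrix.vecMul, dotProduct, Fin.sum_univ_three, a1, a2, a3, a4] <;> grind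

lemma rho_eq_one (g : κ.Ct) : κ.rho g = 1 ↔ (g : GL (Fin 3) F) ∈ Geo.scalars (Fin 3) F := by
  rw [rho, MonoidHom.comp_apply, κ.sig_eq_one]
  show κ.S⁻¹ * g.1 * κ.S ∈ _ ↔ _
  constructor
  · intro h
    obtain ⟨c, hc⟩ := (Geo.mem_scalars_iff _).1 h
    refine (Geo.mem_scalars_iff _).2 ⟨c, ?_⟩
    have : g.1 = κ.S * (κ.S⁻¹ * g.1 * κ.S) * κ.S⁻¹ := by group
    rw [this, Units.val_mul, Units.val_mul, hc, mul_smul_comm, mul_one, smul_mul_assoc,
      Units.mul_inv]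
  · intro h
    obtain ⟨c, hc⟩ := (Geo.mem_scalars_iff _).1 h
    refine (Geo.mem_scalars_iff _).2 ⟨c, ?_⟩
    rw [Units.val_mul, Units.val_mul, hc, mul_smul_comm, mul_one, smul_mul_assoc, Units.inv_mul]

/-- An element of order dividing the characteristic commuting with `uu` has square zero type. -/
lemma sq_zero_u (p : ℕ) [Fact p.Prime] [CharP F p] {g : GL (Fin 3) F} (hg : g ∈ κ.Cu)
    (hp : g ^ p = 1) : ((g : Matrix (Fin 3) (Fin 3) F) - 1) * ((g : Matrix (Fin 3) (Fin 3) F) - 1) = 0 := by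
  obtain ⟨a1, a2, a3, a4⟩ := Cu_shape hg
  have hl : (g 0 0 - 1) ^ p = 0 := by
    have : (g 0 0) ^ p = 1 := by
      have := congrArg κ.lead (show (⟨g, hg⟩ : κ.Cu) ^ p = 1 from Subtype.ext hp)
      rwa [map_pow, map_one] at this
    rw [sub_pow_char, this, one_pow, sub_self]
  have h00 : g 0 0 = 1 := sub_eq_zero.1 (pow_eq_zero_iff (Fact.out : p.Prime).ne_zero |>.1 hl)
  set B := κ.blk ⟨g, hg⟩ with hB
  set N := B - 1
  have hN : N ^ p = 0 := by
    have : B ^ p = 1 := by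
      rw [hB, ← map_pow, show (⟨g, hg⟩ : κ.Cu) ^ p = 1 from Subtype.ext hp, map_one]
    rw [sub_pow_char_of_commute p (Commute.one_right B), this, one_pow, sub_self]
  have hd : N.det = 0 := by
    have := congrArg Matrix.det hN
    rw [det_pow, det_zero] at this
    exact pow_eq_zero_iff (Fact.out : p.Prime).ne_zero |>.1 this
  have hsq : N * N = N.trace • N := by
    rw [det_fin_two] at hd
    ext i j; fin_cases i <;> fin_cases j <;>
      simp [Matrix.mul_apply, Fin.sum_univ_two, trace_fin_two] <;> grind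
  have hpow : ∀ n : ℕ, N ^ (n + 1) = N.trace ^ n • N := by
    intro n
    induction n with
    | zero => simp
    | succ n ih => rw [pow_succ, ih, smul_mul_assoc, hsq, smul_smul, pow_succ]
  have hN2 : N * N = 0 := by
    obtain ⟨n, hn⟩ := Nat.exists_eq_succ_of_ne_zero (Fact.out : p.Prime).ne_zero
    rw [hn, hpow, smul_eq_zero] at hN
    rcases hN with h | h
    · rcases eq_or_ne n 0 with rfl | hn0
      · have := (Fact.out : p.Prime).two_le; omega
      · rw [hsq, pow_eq_zero_iff hn0 |>.1 h, zero_smul]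
    · rw [h, mul_zero]
  have key : ∀ i j, (N * N) i j = 0 := fun i j => by rw [hN2]; rfl
  have k00 := key 0 0
  have k01 := key 0 1
  have k10 := key 1 0
  have k11 := key 1 1
  simp [N, hB, blk, Matrix.mul_apply, Fin.sum_univ_two] at k00 k01 k10 k11
  ext i j
  fin_cases i <;> fin_cases j <;>
    simp [Matrix.mul_apply, Fin.sum_univ_three, a1, a2, a3, a4, h00] <;> grind

/-- An element of order dividing the characteristic commuting with `t` has square zero type. -/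
lemma sq_zero_t (p : ℕ) [Fact p.Prime] [CharP F p] {g : GL (Fin 3) F} (hg : g ∈ κ.Ct)
    (hp : g ^ p = 1) : ((g : Matrix (Fin 3) (Fin 3) F) - 1) * ((g : Matrix (Fin 3) (Fin 3) F) - 1) = 0 := by
  have h := κ.sq_zero_u p (κ.S_conj_mem hg) (by
    have := congrArg (MulAut.conj κ.S⁻¹) hp
    rwa [map_pow, map_one, MulAut.conj_apply, inv_inv] at this)
  have e : ((κ.S⁻¹ * g * κ.S : GL (Fin 3) F) : Matrix (Fin 3) (Fin 3) F) - 1 =
      ((κ.S⁻¹ : GL (Fin 3) F) : Matrix (Fin 3) (Fin 3) F) * ((g : Matrix (Fin 3) (Fin 3) F) - 1) *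
        (κ.S : Matrix (Fin 3) (Fin 3) F) := by
    rw [Units.val_mul, Units.val_mul, mul_sub, sub_mul, mul_one, Units.inv_mul]
  rw [e] at h
  have h' := congrArg (fun X => (κ.S : Matrix (Fin 3) (Fin 3) F) * X *
    ((κ.S⁻¹ : GL (Fin 3) F) : Matrix (Fin 3) (Fin 3) F)) h
  simpa [mul_assoc] using h'

end Ctx

end Cfsg.Agent.SL3Max.C6
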