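/-
The action of the centraliser of `t` in an overgroup with a quasisimple core.
Main results: `Core`, `Core.cases`, `Core.uu_not_mem`, `Core.no_inv_comm`, `Core.scalar_pm`.
-/
import Cfsg.Agent.Lib.SL3Max.C6.Extra
import Cfsg.Agent.Lib.SL3Max.C6.Rho
import Cfsg.Agent.Lib.SL3Max.C6.Groups
import Cfsg.Agent.Lib.SL3Max.C6.Prime
import Cfsg.Agent.Lib.SL3Max.C6.Eleven

set_option autoImplicit false
set_option linter.unusedSectionVars false

namespace Cfsg.Agent.SL3Max.C6

open Matrix Cfsg.Agent.Transvect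

variable {F : Type*} [Field F] [Fintype F] (κ : Ctx F)

/-- An overgroup without transvections, with a core containing the model and `t`. -/
structure Core (M P : Subgroup (GL (Fin 3) F)) : Prop extends Over κ M where
  cen : ∀ c, ¬ Cen M c
  core : PrimeDim.IsCore M P
  R0_le_P : κ.R0 ≤ P
  t_mem : κ.t ∈ P

lemma mk_eq_one_entries {A : GL (Fin 2) F} (h : ProjGenLinGroup.mk A = 1) :
    A 0 1 = 0 ∧ A 1 0 = 0 ∧ A 0 0 = A 1 1 := by
  rw [ProjGenLinGroup.mk_eq_one, GeneralLinearGroup.center_eq_range_scalar] at h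
  obtain ⟨c, rfl⟩ := h
  simp

lemma exists_smul_of_mk_eq {A B : GL (Fin 2) F} (h : ProjGenLinGroup.mk A = ProjGenLinGroup.mk B) :
    ∃ c : F, (B : Matrix (Fin 2) (Fin 2) F) = c • (A : Matrix (Fin 2) (Fin 2) F) := by
  obtain ⟨u, rfl⟩ := ProjGenLinGroup.mk_eq_mk_iff.1 h
  refine ⟨u, ?_⟩
  ext i j
  simp [Matrix.GeneralLinearGroup.scalar, mul_comm]

/-- A diagonal element other than the identity commutes projectively with no matrix having a nonzero
diagonal and off diagonal entry. -/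
lemma not_commute_diag {A B : GL (Fin 2) F} {α : F}
    (hB : (B : Matrix (Fin 2) (Fin 2) F) = !![α, 0; 0, 1]) (hα : α ≠ 1) (h00 : A 0 0 ≠ 0)
    (h01 : A 0 1 ≠ 0) :
    ProjGenLinGroup.mk B * ProjGenLinGroup.mk A ≠ ProjGenLinGroup.mk A * ProjGenLinGroup.mk B := by
  intro h
  have hα0 : α ≠ 0 := fun h0 => by
    have := congrFun (congrFun (Units.mul_inv B) 0) 0
    rw [hB, h0] at this
    simp [Matrix.mul_apply, Fin.sum_univ_two] at this
  rw [← map_mul, ← map_mul] at h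
  obtain ⟨c, hc⟩ := exists_smul_of_mk_eq h
  rw [Units.val_mul, Units.val_mul, hB] at hc
  have e00 := congrFun (congrFun hc 0) 0
  have e01 := congrFun (congrFun hc 0) 1
  simp [Matrix.mul_apply, Matrix.vecMul, dotProduct, Fin.sum_univ_two] at e00 e01
  grind

lemma rel_eq {e f : F} {n : ℕ} {A : GL (Fin 2) F} {lam : F}
    (hA : (A : Matrix (Fin 2) (Fin 2) F) = lam • !![e, f; f, e]) (hl : lam ≠ 0)
    (h : ProjGenLinGroup.mk A ^ n = 1) : (e + f) ^ n = (e - f) ^ n := by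
  rw [← map_pow] at h
  obtain ⟨h1, h2, h3⟩ := mk_eq_one_entries h
  have key : ∀ n : ℕ, ∀ i : Fin 2,
      (!![e, f; f, e] ^ n : Matrix (Fin 2) (Fin 2) F) i 0 + (!![e, f; f, e] ^ n : Matrix (Fin 2) (Fin 2) F) i 1 = (e + f) ^ n ∧
      (!![e, f; f, e] ^ n : Matrix (Fin 2) (Fin 2) F) i 0 - (!![e, f; f, e] ^ n : Matrix (Fin 2) (Fin 2) F) i 1 =
        (if i = 0 then 1 else -1) * (e - f) ^ n := by
    intro n
    induction n with
    | zero => intro i; fin_cases i <;> simp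
    | succ n ih =>
      intro i
      obtain ⟨u, v⟩ := ih i
      have c : ∀ j, (!![e, f; f, e] ^ (n + 1) : Matrix (Fin 2) (Fin 2) F) i j =
          (!![e, f; f, e] ^ n : Matrix (Fin 2) (Fin 2) F) i 0 * (!![e, f; f, e] : Matrix (Fin 2) (Fin 2) F) 0 j +
          (!![e, f; f, e] ^ n : Matrix (Fin 2) (Fin 2) F) i 1 * (!![e, f; f, e] : Matrix (Fin 2) (Fin 2) F) 1 j := fun j => by
        rw [pow_succ, Matrix.mul_apply, Fin.sum_univ_two]
      rw [c, c]
      simp only [of_apply, cons_val', cons_val_zero, cons_val_one, empty_val', cons_val_fin_one]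
      constructor
      · rw [pow_succ, ← u]; ring
      · rw [pow_succ, ← mul_assoc, ← v]; ring
  rw [Units.val_pow_eq_pow_val, hA, smul_pow] at h1 h2 h3
  simp only [Matrix.smul_apply, smul_eq_mul, mul_eq_zero, pow_eq_zero_iff', hl, false_and,
    false_or] at h1 h2
  obtain ⟨a1, a2⟩ := key n 0
  rw [h1] at a1 a2
  simp at a2
  rw [← a1, ← a2]
  ring

variable {κ} {M P : Subgroup (GL (Fin 3) F)}

/-- The image of the centraliser of `t` on the plane. -/
def Gpl (κ : Ctx F) (M : Subgroup (GL (Fin 3) F)) : Subgroup (GL (Fin 2) F) :=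
  (M.subgroupOf κ.Ct).map κ.rho

/-- Its image in `PGL₂`. -/
def Gbar (κ : Ctx F) (M : Subgroup (GL (Fin 3) F)) : Subgroup (PSL2.PGL2 F) :=
  (Gpl κ M).map ProjGenLinGroup.mk

lemma cen_of_matrix_sq {g : GL (Fin 3) F} (hg : g ∈ M) (h1 : g ≠ 1)
    (hsq : ((g : Matrix (Fin 3) (Fin 3) F) - 1) * ((g : Matrix (Fin 3) (Fin 3) F) - 1) = 0) :
    ∃ c, Cen M c := by
  refine cen_of_sq hg h1 fun x => ?_
  have h := congrArg (fun X => X *ᵥ x) hsq
  simp only [← Matrix.mulVec_mulVec, Matrix.sub_mulVec, Matrix.one_mulVec, Matrix.zero_mulVec] at h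
  rw [app_apply, app_apply]
  exact sub_eq_zero.1 h

namespace Core

variable (S : Core κ M P)
include S

lemma not_dvd_u (p : ℕ) [Fact p.Prime] [CharP F p] : ¬ p ∣ Nat.card (M.subgroupOf κ.Cu) := fun h => by
  obtain ⟨g, hg⟩ := exists_prime_orderOf_dvd_card' p h
  have hp : ((g : κ.Cu) : GL (Fin 3) F) ^ p = 1 := by
    rw [← hg, ← Subgroup.coe_pow, ← Subgroup.coe_pow, pow_orderOf_eq_one, Subgroup.coe_one,
      Subgroup.coe_one]
  have h1 : ((g : κ.Cu) : GL (Fin 3) F) ≠ 1 := fun h1 => by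
    rw [show g = 1 from Subtype.ext (Subtype.ext h1), orderOf_one] at hg
    exact (Fact.out : p.Prime).ne_one hg.symm
  obtain ⟨c, hc⟩ := cen_of_matrix_sq g.2 h1 (κ.sq_zero_u p g.1.2 hp)
  exact S.cen c hc

lemma not_dvd_t (p : ℕ) [Fact p.Prime] [CharP F p] : ¬ p ∣ Nat.card (M.subgroupOf κ.Ct) := fun h => by
  obtain ⟨g, hg⟩ := exists_prime_orderOf_dvd_card' p h
  have hp : ((g : κ.Ct) : GL (Fin 3) F) ^ p = 1 := by
    rw [← hg, ← Subgroup.coe_pow, ← Subgroup.coe_pow, pow_orderOf_eq_one, Subgroup.coe_one,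
      Subgroup.coe_one]
  have h1 : ((g : κ.Ct) : GL (Fin 3) F) ≠ 1 := fun h1 => by
    rw [show g = 1 from Subtype.ext (Subtype.ext h1), orderOf_one] at hg
    exact (Fact.out : p.Prime).ne_one hg.symm
  obtain ⟨c, hc⟩ := cen_of_matrix_sq g.2 h1 (κ.sq_zero_t p g.1.2 hp)
  exact S.cen c hc

lemma Fm_Ct : κ.Fm ∈ κ.Ct := by
  rw [Subgroup.mem_centralizer_singleton_iff, ← κ.Fm_sq, mul_assoc]

lemma Fm'_Ct : κ.Fm' ∈ κ.Ct := by
  rw [Subgroup.mem_centralizer_singleton_iff, ← κ.Fm'_sq, mul_assoc]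

/-- The image of `Fm`. -/
def aFm : GL (Fin 2) F := κ.rho ⟨κ.Fm, S.Fm_Ct⟩

/-- The image of `Fm'`. -/
def aFm' : GL (Fin 2) F := κ.rho ⟨κ.Fm', S.Fm'_Ct⟩

lemma aFm_val : (S.aFm : Matrix (Fin 2) (Fin 2) F) = κ.r3⁻¹ • !![1, 2; 1, -1] := by
  rw [aFm, κ.rho_val]
  have hr : κ.r3⁻¹ * (κ.ω - κ.ω ^ 2) = 1 := inv_mul_cancel₀ κ.r3_ne
  have := κ.rel
  have h1 : κ.r3⁻¹ * κ.ω - κ.r3⁻¹ * κ.ω ^ 2 = 1 := by rw [← mul_sub]; exact hr
  ext i j
  fin_cases i <;> fin_cases j <;> simp [Ctx.Fm, h1] <;> grind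

lemma aFm'_val :
    (S.aFm' : Matrix (Fin 2) (Fin 2) F) = κ.r3⁻¹ • !![1, 2 * κ.ω ^ 2; κ.ω, -1] := by
  rw [aFm', κ.rho_val]
  have hr : κ.r3⁻¹ * (κ.ω - κ.ω ^ 2) = 1 := inv_mul_cancel₀ κ.r3_ne
  have := κ.rel
  have h1 : κ.r3⁻¹ * κ.ω - κ.r3⁻¹ * κ.ω ^ 2 = 1 := by rw [← mul_sub]; exact hr
  ext i j
  fin_cases i <;> fin_cases j <;> simp [Ctx.Fm', h1] <;> grind

lemma rho_t (h : κ.t ∈ κ.Ct) :
    (κ.rho ⟨κ.t, h⟩ : Matrix (Fin 2) (Fin 2) F) = -1 := by
  rw [κ.rho_val]
  ext i j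
  fin_cases i <;> fin_cases j <;> simp [Ctx.t]

lemma aFm_mem : S.aFm ∈ Gpl κ M := ⟨_, Subgroup.mem_subgroupOf.2 S.Fm_mem, rfl⟩

lemma aFm'_mem : S.aFm' ∈ Gpl κ M := ⟨_, Subgroup.mem_subgroupOf.2 S.Fm'_mem, rfl⟩

lemma aFm_sq : (S.aFm : Matrix (Fin 2) (Fin 2) F) * S.aFm = -1 := by
  have h : κ.t ∈ κ.Ct := Subgroup.mem_centralizer_singleton_iff.2 rfl
  rw [← Units.val_mul, aFm, ← map_mul, ← S.rho_t h]
  exact congrArg (fun x => (κ.rho x : Matrix (Fin 2) (Fin 2) F)) (Subtype.ext κ.Fm_sq)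

lemma aFm'_sq : (S.aFm' : Matrix (Fin 2) (Fin 2) F) * S.aFm' = -1 := by
  have h : κ.t ∈ κ.Ct := Subgroup.mem_centralizer_singleton_iff.2 rfl
  rw [← Units.val_mul, aFm', ← map_mul, ← S.rho_t h]
  exact congrArg (fun x => (κ.rho x : Matrix (Fin 2) (Fin 2) F)) (Subtype.ext κ.Fm'_sq)

lemma anti : (S.aFm' : Matrix (Fin 2) (Fin 2) F) * S.aFm = -((S.aFm : Matrix (Fin 2) (Fin 2) F) * S.aFm') := by
  rw [S.aFm_val, S.aFm'_val]
  have := κ.rel
  ext i j
  fin_cases i <;> fin_cases j <;> simp [Matrix.mul_apply, Fin.sum_univ_two] <;> grind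

/-- The three axes. -/
def IsAxis (r : GL (Fin 2) F) : Prop := r = S.aFm ∨ r = S.aFm' ∨ r = S.aFm * S.aFm'

lemma axis_entries {r : GL (Fin 2) F} (hr : S.IsAxis r) : r 0 0 ≠ 0 ∧ r 0 1 ≠ 0 ∧ r 1 0 ≠ 0 := by
  have h3 := inv_ne_zero κ.r3_ne
  have := κ.two
  have := κ.three
  have := κ.ω_ne
  have := κ.ne
  have := κ.rel
  rcases hr with rfl | rfl | rfl
  · simp [S.aFm_val, h3, κ.two]
  · simp [S.aFm'_val, h3, κ.two, κ.ω_ne]
  · simp [S.aFm_val, S.aFm'_val, Matrix.mul_apply, Fin.sum_univ_two]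
    refine ⟨?_, ?_, ?_⟩ <;> grind

lemma axis_mem {r : GL (Fin 2) F} (hr : S.IsAxis r) : r ∈ Gpl κ M := by
  rcases hr with rfl | rfl | rfl
  exacts [S.aFm_mem, S.aFm'_mem, mul_mem S.aFm_mem S.aFm'_mem]

lemma mk_neg_one {A : GL (Fin 2) F} (h : (A : Matrix (Fin 2) (Fin 2) F) = -1) :
    ProjGenLinGroup.mk A = 1 := by
  rw [ProjGenLinGroup.mk_eq_one, GeneralLinearGroup.center_eq_range_scalar]
  refine ⟨-1, Units.ext ?_⟩
  rw [h]
  ext i j
  fin_cases i <;> fin_cases j <;> simp [Matrix.GeneralLinearGroup.scalar]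

/-- Either an axis is central in the projective image, or that is exceptional. -/
theorem cases :
    (∃ r, S.IsAxis r ∧ ∀ y ∈ Gbar κ M, ProjGenLinGroup.mk r * y = y * ProjGenLinGroup.mk r) ∨
      Exc (Gbar κ M) := by
  obtain ⟨p, hpC⟩ := CharP.exists F
  haveI : Fact p.Prime := ⟨CharP.char_is_prime F p⟩
  have hnd := S.not_dvd_t p
  have hnd' : ¬ p ∣ Nat.card (Gbar κ M) := fun h => hnd <| h.trans <|
    (Subgroup.card_map_dvd (Gpl κ M) (ProjGenLinGroup.mk)).trans
      (Subgroup.card_map_dvd (M.subgroupOf κ.Ct) κ.rho)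
  set m := (ProjGenLinGroup.mk : GL (Fin 2) F →* PSL2.PGL2 F)
  let a : Gbar κ M := ⟨m S.aFm, Subgroup.mem_map_of_mem m S.aFm_mem⟩
  let b : Gbar κ M := ⟨m S.aFm', Subgroup.mem_map_of_mem m S.aFm'_mem⟩
  have ha : a * a = 1 := Subtype.ext (by
    show m S.aFm * m S.aFm = 1
    rw [← map_mul]; exact S.mk_neg_one (by rw [Units.val_mul, S.aFm_sq]))
  have hb : b * b = 1 := Subtype.ext (by
    show m S.aFm' * m S.aFm' = 1
    rw [← map_mul]; exact S.mk_neg_one (by rw [Units.val_mul, S.aFm'_sq]))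
  have hnot : ∀ r, S.IsAxis r → m r ≠ 1 := fun r hr h =>
    (S.axis_entries hr).2.1 (mk_eq_one_entries h).1
  have ha1 : a ≠ 1 := fun h => hnot _ (Or.inl rfl) (congrArg Subtype.val h)
  have hb1 : b ≠ 1 := fun h => hnot _ (Or.inr (Or.inl rfl)) (congrArg Subtype.val h)
  have hab1 : a * b ≠ 1 := fun h => hnot _ (Or.inr (Or.inr rfl)) (by
    rw [map_mul]; exact congrArg Subtype.val h)
  have hne : a ≠ b := fun h => hab1 (by rw [← h, ha])
  have hab : a * b = b * a := by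
    have h1 : (a * b) * (a * b) = 1 := Subtype.ext (by
      show m S.aFm * m S.aFm' * (m S.aFm * m S.aFm') = 1
      rw [← map_mul, ← map_mul]
      refine S.mk_neg_one ?_
      rw [Units.val_mul, Units.val_mul]
      calc (S.aFm : Matrix (Fin 2) (Fin 2) F) * S.aFm' * (S.aFm * S.aFm')
          = (S.aFm : Matrix (Fin 2) (Fin 2) F) * ((S.aFm' : Matrix (Fin 2) (Fin 2) F) * S.aFm) * S.aFm' := by
            simp only [mul_assoc]
        _ = -(((S.aFm : Matrix (Fin 2) (Fin 2) F) * S.aFm) * ((S.aFm' : Matrix (Fin 2) (Fin 2) F) * S.aFm')) := by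
            rw [S.anti]; simp only [mul_neg, neg_mul, mul_assoc]
        _ = _ := by rw [S.aFm_sq, S.aFm'_sq]; simp)
    calc a * b = a * ((a * b) * (a * b)) * b := by rw [h1, mul_one]
      _ = (a * a) * (b * a) * (b * b) := by group
      _ = b * a := by rw [ha, hb, one_mul, mul_one]
  rcases pgl_cases p (Gbar κ M) hnd' with hc | ⟨n, ⟨e⟩⟩ | h
  · exfalso
    classical
    haveI : Finite (Gbar κ M) := Nat.finite_of_card_ne_zero fun h => hnd' (h ▸ dvd_zero p)
    haveI := Fintype.ofFinite (Gbar κ M)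
    have h1 := IsCyclic.card_pow_eq_one_le (α := Gbar κ M) two_pos
    have h2 : ({1, a, b} : Finset (Gbar κ M)) ⊆ Finset.univ.filter (fun x => x ^ 2 = 1) := by
      intro x hx
      simp only [Finset.mem_insert, Finset.mem_singleton] at hx
      rcases hx with rfl | rfl | rfl <;> simp [pow_two, ha, hb]
    have h3 := Finset.card_le_card h2
    rw [Finset.card_insert_of_notMem (by simp [ha1.symm, hb1.symm]), Finset.card_pair hne] at h3
    omega
  · refine Or.inl ?_
    have hcen : ∀ c : Gbar κ M, (∀ x, e c * x = x * e c) → ∀ y ∈ Gbar κ M, (c : PSL2.PGL2 F) * y = y * c :=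
      fun c hc y hy => congrArg Subtype.val (show c * ⟨y, hy⟩ = ⟨y, hy⟩ * c from
        e.injective (by rw [map_mul, map_mul, hc]))
    rcases dihedral_klein (a := e a) (b := e b) (by rw [← map_mul, ha, map_one])
      (by rw [← map_mul, hb, map_one]) (by rw [← map_mul, ← map_mul, hab])
      (fun h => ha1 (e.injective (by rw [h, map_one])))
      (fun h => hb1 (e.injective (by rw [h, map_one]))) (fun h => hne (e.injective h)) with h | h | h
    · exact ⟨S.aFm, Or.inl rfl, hcen a h⟩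
    · exact ⟨S.aFm', Or.inr (Or.inl rfl), hcen b h⟩
    · refine ⟨S.aFm * S.aFm', Or.inr (Or.inr rfl), fun y hy => ?_⟩
      rw [map_mul]
      exact hcen (a * b) (by rw [map_mul]; exact h) y hy
  · exact Or.inr h

/-- The involution `diag(1,-1,-1)` is outside. -/
theorem uu_not_mem : κ.uu ∉ M := by
  intro hu
  by_cases h11 : (11 : F) = 0
  · obtain ⟨h1, hsq⟩ := κ.eleven_word h11
    have hw : κ.word ∈ M :=
      mul_mem (mul_mem (mul_mem (mul_mem (mul_mem (mul_mem (mul_mem (mul_mem S.Fm_mem S.Fm'_mem) hu)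
        S.Fm_mem) hu) S.Fm_mem) hu) (inv_mem S.Fm'_mem)) hu
    obtain ⟨c, hc⟩ := cen_of_matrix_sq hw h1 hsq
    exact S.cen c hc
  have hC : κ.uu ∈ κ.Ct := Subgroup.mem_centralizer_singleton_iff.2 κ.uu_comm_t
  set U := κ.rho ⟨κ.uu, hC⟩
  have hUval : (U : Matrix (Fin 2) (Fin 2) F) = !![-1, 0; 0, 1] := by
    rw [κ.rho_val]
    ext i j; fin_cases i <;> fin_cases j <;> simp [Ctx.uu]
  have hUmem : U ∈ Gpl κ M := ⟨_, Subgroup.mem_subgroupOf.2 hu, rfl⟩
  have h2 := κ.two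
  rcases S.cases with ⟨r, hr, hcen⟩ | hexc
  · obtain ⟨e0, e1, -⟩ := S.axis_entries hr
    exact not_commute_diag hUval (fun h => h2 (by linear_combination -h)) e0 e1
      (hcen _ (Subgroup.mem_map_of_mem _ hUmem)).symm
  · set X := U * S.aFm
    have hX : (X : Matrix (Fin 2) (Fin 2) F) = κ.r3⁻¹ • !![-1, -2; 1, -1] := by
      rw [Units.val_mul, hUval, S.aFm_val]
      ext i j; fin_cases i <;> fin_cases j <;> simp [Matrix.mul_apply, Fin.sum_univ_two]
    have hr := κ.r3_ne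
    have h3 := κ.three
    have h4 : (4 : F) ≠ 0 := by rw [show (4 : F) = 2 * 2 by norm_num]; exact mul_ne_zero h2 h2
    have key : ∀ n : ℕ, ProjGenLinGroup.mk X ^ n = 1 →
        (!![-1, -2; 1, -1] ^ n : Matrix (Fin 2) (Fin 2) F) 1 0 = 0 := by
      intro n hn
      rw [← map_pow] at hn
      have h := (mk_eq_one_entries hn).2.1
      rw [Units.val_pow_eq_pow_val, hX, smul_pow, Matrix.smul_apply, smul_eq_mul, mul_eq_zero] at h
      exact h.resolve_left (pow_ne_zero _ (inv_ne_zero hr))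
    rcases hexc.small_order ⟨_, Subgroup.mem_map_of_mem ProjGenLinGroup.mk
      (mul_mem hUmem S.aFm_mem)⟩ with h | h | h | h
    all_goals
      have h0 := key _ (congrArg Subtype.val h)
      simp [pow_succ, Matrix.mul_apply, Fin.sum_univ_two] at h0
      grind

/-- No involution commutes modulo scalars with a nonscalar element of the model. -/
theorem no_inv_comm {w : GL (Fin 3) F} (hw : w ∈ M) (hw2 : w * w = 1) (hw1 : w ≠ 1)
    {x : GL (Fin 3) F} (hx : x ∈ κ.R0) (hxs : x ∉ Geo.scalars (Fin 3) F)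
    (hwx : w * x * w⁻¹ * x⁻¹ ∈ Geo.scalars (Fin 3) F) : False := by
  obtain ⟨g, hg, a, b, hb, hgx⟩ := κ.exists_word hx hxs
  have hgM : g ∈ M := (Subgroup.closure_le M).2 (by
    rintro y (rfl | rfl) <;> [exact S.Fm_mem; exact S.Fm'_mem]) hg
  set v := g * w * g⁻¹
  have hv : v ∈ M := mul_mem (mul_mem hgM hw) (inv_mem hgM)
  have hv2 : v * v = 1 := by
    calc v * v = g * (w * w) * g⁻¹ := by simp only [v]; group
      _ = 1 := by rw [hw2]; group
  have hv1 : v ≠ 1 := fun h => hw1 (by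
    calc w = g⁻¹ * v * g := by simp only [v]; group
      _ = 1 := by rw [h]; group)
  set s := w * x * w⁻¹ * x⁻¹
  have hsc := fun y => scal_comm hwx y
  have hvx : v * κ.el a b 0 * v⁻¹ = s * κ.el a b 0 := by
    rw [← hgx]
    calc v * (g * x * g⁻¹) * v⁻¹ = g * (s * x) * g⁻¹ := by simp only [v, s]; group
      _ = s * (g * x * g⁻¹) := by rw [← mul_assoc g s x, hsc g]; group
  have hss : s * s = 1 := by
    have h1 : v * (v * κ.el a b 0 * v⁻¹) * v⁻¹ = κ.el a b 0 := by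
      calc _ = (v * v) * κ.el a b 0 * (v * v)⁻¹ := by group
        _ = _ := by rw [hv2]; group
    rw [hvx, ← mul_assoc v s, hsc v, mul_assoc s, mul_assoc s, hvx, ← mul_assoc] at h1
    exact mul_right_cancel (h1.trans (one_mul _).symm)
  have hs3 : s ^ 3 = 1 := by
    have hsl : s ∈ Cfsg.Geo.specialLinear (Fin 3) F := by
      refine mul_mem (mul_mem (mul_mem (S.le hw) (κ.R0_le_sl hx)) (inv_mem (S.le hw))) (inv_mem (κ.R0_le_sl hx))
    obtain ⟨i, hi⟩ := κ.scal_sl hwx hsl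
    rw [hi]
    simp only [Ctx.el, pow_zero, mul_one, ← pow_mul]
    rw [mul_comm, pow_mul, κ.Z_cube, one_pow]
  have hs1 : s = 1 := by rw [pow_succ, pow_two, hss, one_mul] at hs3; exact hs3
  rw [hs1, one_mul, mul_inv_eq_iff_eq_mul] at hvx
  have e : ∀ i j, ((v : Matrix (Fin 3) (Fin 3) F) * (κ.el a b 0 : Matrix (Fin 3) (Fin 3) F)) i j =
      ((κ.el a b 0 : Matrix (Fin 3) (Fin 3) F) * (v : Matrix (Fin 3) (Fin 3) F)) i j := fun i j => by
    rw [← Units.val_mul, hvx, Units.val_mul]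
  have hdiag : ∀ i j : Fin 3, i ≠ j → v i j = 0 := by
    intro i j hij
    have h := e i j
    simp only [Matrix.mul_apply, Fin.sum_univ_three, κ.el_apply] at h
    have hne : κ.ω ^ (a + b * (i : ℕ)) ≠ κ.ω ^ (a + b * (j : ℕ)) := by
      rw [Ne, κ.pow_eq_pow_iff]
      intro hh
      obtain hb' | hb' : b % 3 = 1 ∨ b % 3 = 2 := by omega
      all_goals
        rw [Nat.add_mod, Nat.mul_mod, hb'] at hh
        nth_rw 2 [Nat.add_mod, Nat.mul_mod] at hh
        rw [hb'] at hh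
        fin_cases i <;> fin_cases j <;> simp at hij hh <;> omega
    fin_cases i <;> fin_cases j <;> simp at hij h hne ⊢ <;> grind
  have hsq : ∀ i, v i i = 1 ∨ v i i = -1 := by
    intro i
    have h := congrArg (fun y : GL (Fin 3) F => (y : Matrix (Fin 3) (Fin 3) F) i i) hv2
    simp only [Units.val_mul, Matrix.mul_apply, Fin.sum_univ_three] at h
    refine mul_self_eq_one_iff.1 ?_
    fin_cases i <;> simp [hdiag] at h ⊢ <;> exact h
  have hdet : (v : Matrix (Fin 3) (Fin 3) F).det = 1 :=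
    congrArg Units.val (MonoidHom.mem_ker.1 (S.le hv))
  rw [det_fin_three] at hdet
  simp [hdiag] at hdet
  have hval : (v : Matrix (Fin 3) (Fin 3) F) = diagonal fun i => v i i := by
    ext i j
    by_cases h : i = j
    · subst h; simp
    · simp [diagonal, h, hdiag i j h]
  refine S.uu_not_mem ?_
  have hC : κ.C ∈ M := S.R0_le κ.C_mem
  have h2 := κ.two
  rcases hsq 0 with h0 | h0 <;> rcases hsq 1 with h1 | h1 <;> rcases hsq 2 with h2' | h2' <;>
    rw [h0, h1, h2'] at hdet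
  all_goals first
    | (exfalso; exact h2 (by linear_combination -hdet))
    | (exfalso; exact h2 (by linear_combination hdet))
    | (exfalso; refine hv1 (Units.ext ?_); rw [hval]; ext i j;
       fin_cases i <;> fin_cases j <;> simp [h0, h1, h2']; done)
    | (convert hv using 1; refine Units.ext ?_; rw [hval]; ext i j;
       fin_cases i <;> fin_cases j <;> simp [Ctx.uu, h0, h1, h2']; done)
    | (have hv' := mul_mem (mul_mem (inv_mem hC) hv) hC; convert hv' using 1; refine Units.ext ?_;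
       rw [Units.val_mul, Units.val_mul, hval]; ext i j;
       fin_cases i <;> fin_cases j <;>
         simp [Ctx.uu, Ctx.C, Matrix.mul_apply, Matrix.vecMul, dotProduct, Fin.sum_univ_three, h0, h1, h2']; done)
    | (have hv' := mul_mem (mul_mem hC hv) (inv_mem hC); convert hv' using 1; refine Units.ext ?_;
       rw [Units.val_mul, Units.val_mul, hval]; ext i j;
       fin_cases i <;> fin_cases j <;>
         simp [Ctx.uu, Ctx.C, Matrix.mul_apply, Matrix.vecMul, dotProduct, Fin.sum_univ_three, h0, h1, h2']; done)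

/-- The only scalars of the plane image are signs. -/
theorem scalar_pm {g : κ.Ct} (hg : (g : GL (Fin 3) F) ∈ M) {μ : F}
    (hμ : (κ.rho g : Matrix (Fin 2) (Fin 2) F) = μ • 1) : μ = 1 ∨ μ = -1 := by
  obtain ⟨p, hpC⟩ := CharP.exists F
  haveI : Fact p.Prime := ⟨CharP.char_is_prime F p⟩
  by_contra! hne
  obtain ⟨a1, a2, a3, a4⟩ := Ctx.Ct_shape g.2
  set h := (g : GL (Fin 3) F)
  have hd : h 1 1 - h 1 2 ≠ 0 := by
    intro h0
    rw [κ.rho_val, h0, _root_.inv_zero, zero_smul] at hμ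
    have := congrArg Matrix.det hμ
    rw [det_zero, det_smul, det_one, mul_one] at this
    have h' : μ = 0 := by
      have := this.symm
      simpa using this
    have hu := congrFun (congrFun (Units.mul_inv (κ.rho g)) 0) 0
    rw [κ.rho_val, h0, _root_.inv_zero, zero_smul, zero_mul] at hu
    simp at hu
  rw [κ.rho_val] at hμ
  have m00 := congrFun (congrFun hμ 0) 0
  have m01 := congrFun (congrFun hμ 0) 1
  have m10 := congrFun (congrFun hμ 1) 0
  have m11 := congrFun (congrFun hμ 1) 1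
  simp [hd, κ.two] at m00 m01 m10 m11
  replace m01 : h 0 1 = 0 := m01.resolve_left hd
  replace m10 : h 1 0 = 0 := m10.resolve_left hd
  set e := h 1 1
  set f := h 1 2
  have hinv := inv_mul_cancel₀ hd
  have m00' : h 0 0 = μ * (e - f) := by grind
  have m11' : e + f = μ * (e - f) := by grind
  have hCu : h ∈ κ.Cu := by
    rw [Subgroup.mem_centralizer_singleton_iff]
    refine Units.ext ?_
    ext i j
    fin_cases i <;> fin_cases j <;>
      simp [Ctx.uu, Matrix.mul_apply, Fin.sum_univ_three, a1, a2, m01, m10, mul_comm]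
  have hl := κ.lead_ne ⟨h, hCu⟩
  have hμ0 : μ ≠ 0 := fun h0 => hl (by show h 0 0 = 0; rw [m00', h0, zero_mul])
  set H := ((M.subgroupOf κ.Cu).map κ.sig).map (ProjGenLinGroup.mk : GL (Fin 2) F →* PSL2.PGL2 F)
  have hnd : ¬ p ∣ Nat.card H := fun hh => S.not_dvd_u p <| hh.trans <|
    (Subgroup.card_map_dvd _ _).trans (Subgroup.card_map_dvd _ _)
  have hmem : ∀ (x : GL (Fin 3) F) (hx : x ∈ κ.Cu), x ∈ M →
      ProjGenLinGroup.mk (κ.sig ⟨x, hx⟩) ∈ H := fun x hx hxM =>
    Subgroup.mem_map_of_mem _ (Subgroup.mem_map_of_mem _ (Subgroup.mem_subgroupOf.2 hxM))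
  have htC : κ.t ∈ κ.Cu := Subgroup.mem_centralizer_singleton_iff.2 κ.uu_comm_t.symm
  have hDC : κ.D ∈ κ.Cu := by
    rw [Subgroup.mem_centralizer_singleton_iff]
    refine Units.ext ?_
    ext i j
    fin_cases i <;> fin_cases j <;> simp [Ctx.uu, Ctx.D, Matrix.mul_apply, Fin.sum_univ_three]
  have hPC : κ.t ∈ M := by
    rw [← κ.Fm_sq]; exact mul_mem S.Fm_mem S.Fm_mem
  set T := κ.sig ⟨κ.t, htC⟩
  set Dd := κ.sig ⟨κ.D, hDC⟩
  set Hh := κ.sig ⟨h, hCu⟩
  have hTval : (T : Matrix (Fin 2) (Fin 2) F) = !![0, 1; 1, 0] := by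
    rw [κ.sig_val]
    ext i j; fin_cases i <;> fin_cases j <;> simp [Ctx.t]
  have hDval : (Dd : Matrix (Fin 2) (Fin 2) F) = !![κ.ω, 0; 0, κ.ω ^ 2] := by
    rw [κ.sig_val]
    ext i j; fin_cases i <;> fin_cases j <;> simp [Ctx.D]
  have hHval : (Hh : Matrix (Fin 2) (Fin 2) F) = (h 0 0)⁻¹ • !![e, f; f, e] := by
    rw [κ.sig_val]
    show (h 0 0)⁻¹ • !![h 1 1, h 1 2; h 2 1, h 2 2] = _
    rw [a3, a4]
  let tb : H := ⟨_, hmem _ htC hPC⟩
  let db : H := ⟨_, hmem _ hDC (S.R0_le κ.D_mem)⟩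
  let hb : H := ⟨_, hmem _ hCu hg⟩
  have htb : tb * tb = 1 := Subtype.ext (by
    show ProjGenLinGroup.mk T * ProjGenLinGroup.mk T = 1
    rw [← map_mul, show T * T = 1 from Units.ext (by
      rw [Units.val_mul, hTval, Units.val_one]
      ext i j; fin_cases i <;> fin_cases j <;> simp [Matrix.mul_apply, Fin.sum_univ_two])]
    rfl)
  have hnc : db * tb * db⁻¹ * tb ≠ tb * (db * tb * db⁻¹) := by
    intro hh
    have h1 := congrArg Subtype.val hh
    change ProjGenLinGroup.mk Dd * ProjGenLinGroup.mk T * (ProjGenLinGroup.mk Dd)⁻¹ *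
      ProjGenLinGroup.mk T = ProjGenLinGroup.mk T *
        (ProjGenLinGroup.mk Dd * ProjGenLinGroup.mk T * (ProjGenLinGroup.mk Dd)⁻¹) at h1
    have hm : ∀ A B : GL (Fin 2) F,
        ProjGenLinGroup.mk A * ProjGenLinGroup.mk B = ProjGenLinGroup.mk (A * B) := fun A B => (map_mul _ A B).symm
    rw [← map_inv, hm, hm, hm, hm] at h1
    obtain ⟨c, hc⟩ := exists_smul_of_mk_eq h1
    have hDi : ((Dd⁻¹ : GL (Fin 2) F) : Matrix (Fin 2) (Fin 2) F) = !![κ.ω ^ 2, 0; 0, κ.ω] := by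
      rw [Matrix.coe_units_inv]
      refine Matrix.inv_eq_right_inv ?_
      rw [hDval]
      have := κ.cube
      ext i j; fin_cases i <;> fin_cases j <;> simp [Matrix.mul_apply, Fin.sum_univ_two] <;> grind
    simp only [Units.val_mul, hTval, hDval, hDi] at hc
    have c00 := congrFun (congrFun hc 0) 0
    have c11 := congrFun (congrFun hc 1) 1
    simp [Matrix.mul_apply, Fin.sum_univ_two] at c00 c11
    have := κ.cube
    have := κ.ne
    grind
  have hcomm : hb * tb = tb * hb := Subtype.ext (by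
    show ProjGenLinGroup.mk Hh * ProjGenLinGroup.mk T = ProjGenLinGroup.mk T * ProjGenLinGroup.mk Hh
    refine (map_mul _ Hh T).symm.trans ((congrArg _ (Units.ext ?_)).trans (map_mul _ T Hh))
    rw [Units.val_mul, Units.val_mul, hHval, hTval]
    ext i j; fin_cases i <;> fin_cases j <;> simp [Matrix.mul_apply, Fin.sum_univ_two])
  have hhb2 : hb * hb ≠ 1 := fun hh => by
    have h1 := congrArg Subtype.val hh
    simp only [hb, Subgroup.coe_mul, Subgroup.coe_one, ← pow_two] at h1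
    have h2 := rel_eq hHval (inv_ne_zero hl) h1
    rw [m11', mul_pow] at h2
    have h3 : μ ^ 2 = 1 := by
      refine mul_right_cancel₀ (pow_ne_zero 2 hd) ?_
      rw [one_mul]; exact h2
    rcases sq_eq_one_iff.1 h3 with h4 | h4
    exacts [hne.1 h4, hne.2 h4]
  rcases pgl_cases p H hnd with hc | ⟨n, ⟨ed⟩⟩ | hexc
  · exact hnc (IsCyclic.commGroup.mul_comm _ _)
  · have := dihedral_central (x := ed hb) (c := ed tb)
      (fun h' => hhb2 (ed.injective (by rw [map_mul, h', map_one])))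
      (by rw [← map_mul, htb, map_one]) (by rw [← map_mul, ← map_mul, hcomm]) (ed (db * tb * db⁻¹))
    exact hnc (ed.injective (by rw [map_mul _ _ tb, map_mul _ tb]; exact this.symm))
  · -- orders
    have hTH : ((Hh * T : GL (Fin 2) F) : Matrix (Fin 2) (Fin 2) F) = (h 0 0)⁻¹ • !![f, e; e, f] := by
      rw [Units.val_mul, hHval, hTval]
      ext i j; fin_cases i <;> fin_cases j <;> simp [Matrix.mul_apply, Fin.sum_univ_two]
    have horder : ∀ k, hb ^ k = 1 → μ ^ k = 1 := fun k hk => by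
      have h2 := rel_eq hHval (inv_ne_zero hl) (n := k) (congrArg Subtype.val hk)
      rw [m11', mul_pow] at h2
      exact mul_right_cancel₀ (pow_ne_zero k hd) (by rw [one_mul]; exact h2)
    have horder' : ∀ k, (hb * tb) ^ k = 1 → μ ^ k = (-1) ^ k := fun k hk => by
      have h1 : ProjGenLinGroup.mk (Hh * T) ^ k = 1 := by
        rw [map_mul]; exact congrArg Subtype.val hk
      have h2 := rel_eq hTH (inv_ne_zero hl) h1
      rw [add_comm f e, m11', mul_pow, show f - e = -1 * (e - f) by ring, mul_pow (-1 : F)] at h2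
      exact mul_right_cancel₀ (pow_ne_zero k hd) h2
    have h2F := κ.two
    have hμ2 : μ ^ 2 = -1 := by
      have hμ1 : μ ^ 2 ≠ 1 := fun h3 => by
        rcases sq_eq_one_iff.1 h3 with h4 | h4
        exacts [hne.1 h4, hne.2 h4]
      rcases hexc.small_order hb with k | k | k | k <;>
        rcases hexc.small_order (hb * tb) with l | l | l | l <;>
        have k' := horder _ k <;> have l' := horder' _ l <;> grind
    have hsq : hb * hb = tb := Subtype.ext (by
      show ProjGenLinGroup.mk Hh * ProjGenLinGroup.mk Hh = ProjGenLinGroup.mk T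
      rw [← map_mul]
      have hef : e * e + f * f = 0 := by
        have : (e + f) ^ 2 = -(e - f) ^ 2 := by rw [m11', mul_pow, hμ2]; ring
        grind
      have hc0 : (h 0 0)⁻¹ * (h 0 0)⁻¹ * (2 * e * f) ≠ 0 := by
        refine mul_ne_zero (mul_ne_zero (inv_ne_zero hl) (inv_ne_zero hl)) ?_
        intro h0
        apply hd
        grind
      symm
      rw [ProjGenLinGroup.mk_eq_mk_iff]
      refine ⟨Units.mk0 _ hc0, Units.ext ?_⟩
      rw [Units.val_mul, Units.val_mul, hTval, hHval]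
      ext i j
      fin_cases i <;> fin_cases j <;>
        simp [Matrix.GeneralLinearGroup.scalar, Matrix.mul_apply, Fin.sum_univ_two] <;> grind)
    have h4 : hb ^ 4 = 1 := by
      rw [show (4 : ℕ) = 2 * 2 from rfl, pow_mul, pow_two hb, hsq, pow_two, htb]
    have := hexc.four h4 hhb2 db
    rw [hsq] at this
    exact hnc this

end Core

end Cfsg.Agent.SL3Max.C6
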