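/-
The overgroup modulo scalars: the centraliser of the involution `t` and its image on the plane.
Main results: `rhob`, `Core.exists_conj`, `Core.exists_v`, `Core.no_inv_comm'`.
-/
import Cfsg.Agent.Lib.SL3Max.C6.Tricks
import Cfsg.Agent.S0204

set_option autoImplicit false
set_option linter.unusedSectionVars false

namespace Cfsg.Agent.SL3Max.C6

open Matrix Cfsg.Agent.Transvect

variable {F : Type*} [Field F] [Fintype F]

/-- `GL₃` modulo scalars. -/
abbrev Q3 (F : Type*) [Field F] [Fintype F] := GL (Fin 3) F ⧸ Cfsg.Geo.scalars (Fin 3) F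

/-- The projection. -/
def qm : GL (Fin 3) F →* Q3 F := QuotientGroup.mk' _

lemma qm_eq_one {g : GL (Fin 3) F} : qm g = 1 ↔ g ∈ Cfsg.Geo.scalars (Fin 3) F :=
  QuotientGroup.eq_one_iff g

lemma qm_surj : Function.Surjective (qm (F := F)) := QuotientGroup.mk'_surjective _

variable (κ : Ctx F)

/-- The image of `t`. -/
def tb : Q3 F := qm κ.t

lemma tb_sq : tb κ * tb κ = 1 := by rw [tb, ← map_mul, κ.t_sq, map_one]

lemma mem_Ct_of_comm {g : GL (Fin 3) F} (h : qm g * tb κ = tb κ * qm g) : g ∈ κ.Ct := by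
  have hz : g * κ.t * g⁻¹ * κ.t⁻¹ ∈ Cfsg.Geo.scalars (Fin 3) F := by
    rw [← qm_eq_one, map_mul, map_mul, map_mul, map_inv, map_inv]
    show qm g * tb κ * (qm g)⁻¹ * (tb κ)⁻¹ = 1
    rw [h]; group
  set s := g * κ.t * g⁻¹ * κ.t⁻¹ with hs
  have hgt : g * κ.t * g⁻¹ = s * κ.t := by rw [hs]; group
  have hss : s * s = 1 := by
    have h1 : (g * κ.t * g⁻¹) * (g * κ.t * g⁻¹) = 1 := by
      calc _ = g * (κ.t * κ.t) * g⁻¹ := by group
        _ = _ := by rw [κ.t_sq]; group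
    rw [hgt, mul_assoc, ← mul_assoc κ.t, scal_comm hz κ.t, mul_assoc s κ.t, κ.t_sq, mul_one] at h1
    exact h1
  have hs1 : s = 1 := by
    obtain ⟨c, hc⟩ := (Cfsg.Geo.mem_scalars_iff _).1 hz
    have hsq : (c : F) * c = 1 := by
      have := congrArg (fun x : GL (Fin 3) F => (x : Matrix (Fin 3) (Fin 3) F) 0 0) hss
      simpa [hc] using this
    have hdet : (c : F) ^ 3 = 1 := by
      have h1 : (s : Matrix (Fin 3) (Fin 3) F).det = 1 := by
        rw [hs]
        simp only [Units.val_mul, det_mul]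
        have e1 := congrArg Matrix.det g.mul_inv
        have e2 := congrArg Matrix.det κ.t.mul_inv
        rw [det_mul, det_one] at e1 e2
        linear_combination ((κ.t : Matrix (Fin 3) (Fin 3) F).det *
          ((κ.t⁻¹ : GL (Fin 3) F) : Matrix (Fin 3) (Fin 3) F).det) * e1 + e2
      rw [hc, det_smul, det_one, mul_one, Fintype.card_fin] at h1
      exact h1
    have hc1 : (c : F) = 1 := by
      rw [pow_succ, pow_two, hsq, one_mul] at hdet; exact hdet
    exact Units.ext (by rw [hc, hc1, one_smul, Units.val_one])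
  rw [hs1, one_mul, mul_inv_eq_iff_eq_mul] at hgt
  exact Subgroup.mem_centralizer_singleton_iff.2 hgt

/-- The centraliser of the image of `t`. -/
abbrev Cb : Subgroup (Q3 F) := Subgroup.centralizer {tb κ}

lemma qm_mem_Cb {g : GL (Fin 3) F} (hg : g ∈ κ.Ct) : qm g ∈ Cb κ := by
  rw [Subgroup.mem_centralizer_singleton_iff, tb, ← map_mul, ← map_mul,
    Subgroup.mem_centralizer_singleton_iff.1 hg]

/-- The projection between the centralisers. -/
def qC : κ.Ct →* Cb κ := (qm.comp κ.Ct.subtype).codRestrict _ fun g => qm_mem_Cb κ g.2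

lemma qC_surj : Function.Surjective (qC κ) := by
  rintro ⟨y, hy⟩
  obtain ⟨g, rfl⟩ := qm_surj y
  exact ⟨⟨g, mem_Ct_of_comm κ (Subgroup.mem_centralizer_singleton_iff.1 hy)⟩, rfl⟩

lemma qC_ker : (qC κ).ker ≤ κ.rho.ker := fun g hg => by
  rw [MonoidHom.mem_ker, κ.rho_eq_one]
  exact qm_eq_one.1 (congrArg Subtype.val (MonoidHom.mem_ker.1 hg))

/-- The action on the plane of the centraliser of `t` modulo scalars. -/
noncomputable def rhob : Cb κ →* GL (Fin 2) F :=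
  (qC κ).liftOfSurjective (qC_surj κ) ⟨κ.rho, qC_ker κ⟩

lemma rhob_apply (g : κ.Ct) : rhob κ (qC κ g) = κ.rho g :=
  MonoidHom.liftOfRightInverse_comp_apply _ _ _ _ g

lemma rhob_eq_one {y : Cb κ} (h : rhob κ y = 1) : y = 1 := by
  obtain ⟨g, rfl⟩ := qC_surj κ y
  rw [rhob_apply, κ.rho_eq_one] at h
  exact Subtype.ext (qm_eq_one.2 h)

lemma rhob_inj : Function.Injective (rhob κ) :=
  (injective_iff_map_eq_one _).2 fun _ h => rhob_eq_one κ h

lemma tb_mem_Cb : tb κ ∈ Cb κ := Subgroup.mem_centralizer_singleton_iff.2 rfl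

lemma rhob_tb : (rhob κ ⟨tb κ, tb_mem_Cb κ⟩ : Matrix (Fin 2) (Fin 2) F) = -1 := by
  have h : κ.t ∈ κ.Ct := Subgroup.mem_centralizer_singleton_iff.2 rfl
  rw [show (⟨tb κ, tb_mem_Cb κ⟩ : Cb κ) = qC κ ⟨κ.t, h⟩ from rfl, rhob_apply, κ.rho_val]
  ext i j
  fin_cases i <;> fin_cases j <;> simp [Ctx.t]

/-- The quaternion image. -/
def Qb : Subgroup (Q3 F) := κ.Q8.map qm

variable {κ} {M P : Subgroup (GL (Fin 3) F)}

namespace Core

variable (S : Core κ M P)
include S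

/-- A lift in `M`. -/
lemma exists_lift {y : Q3 F} (hy : y ∈ M.map qm) : ∃ g ∈ M, qm g = y := Subgroup.mem_map.1 hy

lemma mem_of_qm {g : GL (Fin 3) F} (hsl : g ∈ Cfsg.Geo.specialLinear (Fin 3) F)
    (hy : qm g ∈ M.map qm) : g ∈ M := by
  obtain ⟨h, hh, he⟩ := S.exists_lift hy
  have hs : h⁻¹ * g ∈ Cfsg.Geo.scalars (Fin 3) F := by
    rw [← qm_eq_one, map_mul, map_inv, he, inv_mul_cancel]
  have hmem := κ.scal_sl_mem hs (mul_mem (inv_mem (S.le hh)) hsl)
  rw [show g = h * (h⁻¹ * g) by group]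
  exact mul_mem hh (S.R0_le hmem)

/-- An involution of the image lifts to one. -/
lemma lift_inv {y : Q3 F} (hy : y ∈ M.map qm) (h2 : y * y = 1) (h1 : y ≠ 1) :
    ∃ w ∈ M, qm w = y ∧ w * w = 1 ∧ w ≠ 1 := by
  obtain ⟨g, hg, rfl⟩ := S.exists_lift hy
  rw [← map_mul, qm_eq_one] at h2
  obtain ⟨a, ha⟩ := κ.scal_sl h2 (mul_mem (S.le hg) (S.le hg))
  have hz : κ.el a 0 0 ∈ Cfsg.Geo.scalars (Fin 3) F := ha ▸ h2
  refine ⟨g * κ.el a 0 0, mul_mem hg (S.R0_le (κ.el_mem _ _ _)), ?_, ?_, fun h => h1 ?_⟩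
  · rw [map_mul, qm_eq_one.2 hz, mul_one]
  · calc g * κ.el a 0 0 * (g * κ.el a 0 0) = (g * g) * (κ.el a 0 0 * κ.el a 0 0) := by
          rw [mul_assoc, ← mul_assoc (κ.el a 0 0), ← scal_comm hz g]; simp only [mul_assoc]
      _ = 1 := by
        rw [ha, κ.el_mul, κ.el_mul, ← κ.el_zero, κ.el_eq_iff]; omega
  · rw [← mul_one (qm g), ← qm_eq_one.2 hz, ← map_mul, h, map_one, qm_eq_one.2 hz]

/-- No involution centralises a nontrivial element of the image of the model. -/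
theorem no_inv_comm' {y x : Q3 F} (hy : y ∈ M.map qm) (h2 : y * y = 1) (h1 : y ≠ 1)
    (hx : x ∈ κ.R0.map qm) (hx1 : x ≠ 1) (hc : y * x = x * y) : False := by
  obtain ⟨w, hw, rfl, hw2, hw1⟩ := S.lift_inv hy h2 h1
  obtain ⟨r, hr, rfl⟩ := Subgroup.mem_map.1 hx
  refine S.no_inv_comm hw hw2 hw1 hr (fun h => hx1 (qm_eq_one.2 h)) ?_
  rw [← qm_eq_one, map_mul, map_mul, map_mul, map_inv, map_inv, hc]
  group

lemma Q8_le : κ.Q8 ≤ M := (Subgroup.closure_le M).2 (by
  rintro x (rfl | rfl) <;> [exact S.Fm_mem; exact S.Fm'_mem])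

/-- Every 2-subgroup is conjugate into the centraliser of the image of `t`. -/
theorem exists_conj {U : Subgroup (Q3 F)} (hU : U ≤ M.map qm) (h2 : IsPGroup 2 U) :
    ∃ g ∈ M.map qm, ∀ u ∈ U, g * u * g⁻¹ ∈ Cb κ := by
  haveI : Fact (Nat.Prime 2) := ⟨Nat.prime_two⟩
  set W := M.map (qm (F := F))
  have hQ : Qb κ ≤ W := Subgroup.map_mono S.Q8_le
  obtain ⟨T, hT⟩ := ((κ.Q8_two.map qm).comap_of_injective W.subtype
    Subtype.val_injective).exists_le_sylow (G := W)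
  obtain ⟨T', hT'⟩ := (h2.comap_of_injective W.subtype Subtype.val_injective).exists_le_sylow (G := W)
  -- the centre of `T`
  have hmem : ∀ (x : Q3 F) (hx : x ∈ Qb κ), (⟨x, hQ hx⟩ : W) ∈ (T : Subgroup W) := fun x hx =>
    hT (show (⟨x, hQ hx⟩ : W) ∈ (Qb κ).comap W.subtype from hx)
  have htQ : tb κ ∈ Qb κ := ⟨κ.t, by
    rw [← κ.Fm_sq]
    exact mul_mem (Subgroup.subset_closure (Set.mem_insert _ _))
      (Subgroup.subset_closure (Set.mem_insert _ _)), rfl⟩
  haveI : Nontrivial (T : Subgroup W) := by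
    refine ⟨⟨⟨_, hmem _ htQ⟩, 1, fun h => ?_⟩⟩
    have h' : tb κ = 1 := congrArg (fun z : (T : Subgroup W) => ((z : W) : Q3 F)) h
    obtain ⟨a, ha⟩ := κ.scal_sl (qm_eq_one.1 h') (mem_sl_iff.2 κ.det_t)
    have h00 := congrArg (fun g : GL (Fin 3) F => (g : Matrix (Fin 3) (Fin 3) F) 1 2) ha
    simp [κ.el_apply, Ctx.t] at h00
  haveI := T.2.center_nontrivial
  obtain ⟨z, hz⟩ := exists_prime_orderOf_dvd_card' (G := Subgroup.center (T : Subgroup W)) 2 (by
    obtain ⟨n, hn⟩ := IsPGroup.iff_card.1 (T.2.to_subgroup (Subgroup.center (T : Subgroup W)))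
    rw [hn]
    refine dvd_pow_self 2 fun h0 => ?_
    rw [h0, pow_zero] at hn
    exact (Finite.one_lt_card (α := Subgroup.center (T : Subgroup W))).ne' hn)
  set y : Q3 F := (((z : (T : Subgroup W)) : W) : Q3 F) with hy
  have hy2 : y * y = 1 := by
    have := pow_orderOf_eq_one z
    rw [hz, pow_two] at this
    exact congrArg (fun u : Subgroup.center (T : Subgroup W) => (((u : (T : Subgroup W)) : W) : Q3 F)) this
  have hy1 : y ≠ 1 := fun h => by
    rw [show z = 1 from Subtype.ext (Subtype.ext (Subtype.ext h)), orderOf_one] at hz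
    norm_num at hz
  obtain ⟨w, hw, hwy, hw2, hw1⟩ := S.lift_inv ((z : (T : Subgroup W)) : W).2 hy2 hy1
  have hcomm : ∀ g, g ∈ κ.Q8 → w * g = g * w := by
    intro g hg
    have hgQ : qm g ∈ Qb κ := ⟨g, hg, rfl⟩
    have h := congrArg (fun u : (T : Subgroup W) => ((u : W) : Q3 F))
      (Subgroup.mem_center_iff.1 z.2 ⟨_, hmem _ hgQ⟩)
    change qm g * y = y * qm g at h
    have hs : w * g * w⁻¹ * g⁻¹ ∈ Cfsg.Geo.scalars (Fin 3) F := by
      rw [← qm_eq_one, map_mul, map_mul, map_mul, map_inv, map_inv, hwy]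
      change y * qm g * y⁻¹ * (qm g)⁻¹ = 1
      rw [← h]
      group
    set s := w * g * w⁻¹ * g⁻¹ with hsdef
    have hwg : w * g * w⁻¹ = s * g := by rw [hsdef]; group
    have hss : s * s = 1 := by
      have h1 : w * (w * g * w⁻¹) * w⁻¹ = g := by
        calc _ = (w * w) * g * (w * w)⁻¹ := by group
          _ = _ := by rw [hw2]; group
      rw [hwg, ← mul_assoc w s, scal_comm hs w, mul_assoc s, mul_assoc s, hwg, ← mul_assoc] at h1
      exact mul_right_cancel (h1.trans (one_mul g).symm)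
    obtain ⟨a, ha⟩ := κ.scal_sl hs (mul_mem (mul_mem (mul_mem (S.le hw) (S.le (S.Q8_le hg)))
      (inv_mem (S.le hw))) (inv_mem (S.le (S.Q8_le hg))))
    have hs1 : s = 1 := by
      rw [ha, κ.el_mul, ← κ.el_zero, κ.el_eq_iff] at hss
      rw [ha, ← κ.el_zero, κ.el_eq_iff]
      omega
    rw [hs1, one_mul, mul_inv_eq_iff_eq_mul] at hwg
    exact hwg
  have hwt : w = κ.t := κ.eq_t_of_comm (S.le hw) hw2 hw1
    (hcomm _ (Subgroup.subset_closure (Set.mem_insert _ _)))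
    (hcomm _ (Subgroup.subset_closure (Set.mem_insert_of_mem _ rfl)))
  have hcent : ∀ x : W, x ∈ (T : Subgroup W) → (x : Q3 F) ∈ Cb κ := by
    intro x hx
    have h := congrArg (fun u : (T : Subgroup W) => ((u : W) : Q3 F))
      (Subgroup.mem_center_iff.1 z.2 ⟨x, hx⟩)
    change (x : Q3 F) * y = y * x at h
    rw [Subgroup.mem_centralizer_singleton_iff, tb, ← hwt, hwy]
    exact h
  obtain ⟨g, hg⟩ := MulAction.exists_smul_eq W T' T
  refine ⟨g, g.2, fun u hu => hcent (g * ⟨u, hU hu⟩ * g⁻¹) ?_⟩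
  rw [← hg]
  exact ⟨⟨u, hU hu⟩, hT' (show (⟨u, hU hu⟩ : W) ∈ U.comap W.subtype from hu), rfl⟩

lemma Xb_le : P.map qm ≤ M.map (qm (F := F)) := Subgroup.map_mono S.core.le

lemma Xb_normal {m x : Q3 F} (hm : m ∈ M.map qm) (hx : x ∈ P.map qm) : m * x * m⁻¹ ∈ P.map qm := by
  obtain ⟨g, hg, rfl⟩ := Subgroup.mem_map.1 hm
  obtain ⟨r, hr, rfl⟩ := Subgroup.mem_map.1 hx
  exact ⟨g * r * g⁻¹, S.core.normal g hg r hr, by simp⟩

lemma Xb_simple : IsSimpleGroup (P.map (qm (F := F))) ∧ ¬ IsCyclic (P.map (qm (F := F))) := by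
  haveI := S.core.simple
  let e : P →* P.map (qm (F := F)) := qm.subgroupMap P
  have hker : e.ker = (Cfsg.Geo.scalars (Fin 3) F).subgroupOf P := by
    ext x
    rw [MonoidHom.mem_ker, Subgroup.mem_subgroupOf, ← qm_eq_one, Subtype.ext_iff]
    rfl
  let φ : P ⧸ (Cfsg.Geo.scalars (Fin 3) F).subgroupOf P ≃* P.map (qm (F := F)) :=
    (QuotientGroup.quotientMulEquivOfEq hker.symm).trans
      (QuotientGroup.quotientKerEquivOfSurjective e (qm.subgroupMap_surjective P))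
  haveI : Nontrivial (P.map (qm (F := F))) := φ.symm.toEquiv.nontrivial
  refine ⟨IsSimpleGroup.isSimpleGroup_of_surjective φ.toMonoidHom φ.surjective, fun hc => ?_⟩
  refine S.core.nonabelian ⟨⟨fun a b => φ.injective ?_⟩⟩
  letI := IsCyclic.commGroup (α := P.map (qm (F := F)))
  rw [map_mul, map_mul, mul_comm]

lemma tb_mem_Xb : tb κ ∈ P.map (qm (F := F)) := ⟨κ.t, S.t_mem, rfl⟩

/-- A second involution of the core centralising `t`. -/
theorem exists_v : ∃ v ∈ P.map (qm (F := F)), v ∈ Cb κ ∧ v * v = 1 ∧ v ≠ 1 ∧ v ≠ tb κ := by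
  obtain ⟨hs, hc⟩ := S.Xb_simple
  haveI := hs
  obtain ⟨E, hE⟩ := S0204.result hc
  haveI := hE
  have hE2 : IsPGroup 2 E := IsPGroup.of_card (n := 2) hE.card_four
  have hU : E.map (P.map (qm (F := F))).subtype ≤ M.map qm := by
    rintro _ ⟨e, -, rfl⟩; exact S.Xb_le e.2
  obtain ⟨g, hg, hgu⟩ := S.exists_conj hU (hE2.map _)
  have key : ∀ e : E, e ≠ 1 → g * ((e : P.map (qm (F := F))) : Q3 F) * g⁻¹ ∈ P.map qm ∧
      g * ((e : P.map (qm (F := F))) : Q3 F) * g⁻¹ ∈ Cb κ ∧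
      (g * ((e : P.map (qm (F := F))) : Q3 F) * g⁻¹) * (g * ((e : P.map (qm (F := F))) : Q3 F) * g⁻¹) = 1 ∧
      g * ((e : P.map (qm (F := F))) : Q3 F) * g⁻¹ ≠ 1 := fun e he => by
    refine ⟨S.Xb_normal hg (e : P.map (qm (F := F))).2, hgu _ ⟨e, e.2, rfl⟩, ?_, fun h => he ?_⟩
    · have h2 : ((e : P.map (qm (F := F))) : Q3 F) * (e : P.map (qm (F := F))) = 1 :=
        congrArg (fun x : E => ((x : P.map (qm (F := F))) : Q3 F)) (IsKleinFour.mul_self e)
      calc _ = g * (((e : P.map (qm (F := F))) : Q3 F) * (e : P.map (qm (F := F)))) * g⁻¹ := by group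
        _ = _ := by rw [h2]; group
    · refine Subtype.ext (Subtype.ext ?_)
      calc ((e : P.map (qm (F := F))) : Q3 F) = g⁻¹ * (g * (e : P.map (qm (F := F))) * g⁻¹) * g := by group
        _ = _ := by rw [h]; simp
  classical
  haveI := Fintype.ofFinite E
  obtain ⟨e, he, f, hf, hef⟩ : ∃ e : E, e ≠ 1 ∧ ∃ f : E, f ≠ 1 ∧ e ≠ f := by
    have h4 : Fintype.card E = 4 := by rw [← Nat.card_eq_fintype_card]; exact hE.card_four
    obtain ⟨e, he⟩ := Fintype.exists_ne_of_one_lt_card (by omega) (1 : E)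
    obtain ⟨f, hf⟩ : ∃ f, f ∉ ({1, e} : Finset E) := by
      by_contra! h
      have := Finset.card_le_card (fun x _ => h x : (Finset.univ : Finset E) ⊆ {1, e})
      have h2 : ({1, e} : Finset E).card ≤ 2 := Finset.card_le_two
      rw [Finset.card_univ] at this
      omega
    simp only [Finset.mem_insert, Finset.mem_singleton, not_or] at hf
    exact ⟨e, he, f, hf.1, fun h => hf.2 h.symm⟩
  by_cases h : g * ((e : P.map (qm (F := F))) : Q3 F) * g⁻¹ = tb κ
  · obtain ⟨a, b, c, d⟩ := key f hf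
    refine ⟨_, a, b, c, d, fun h' => hef ?_⟩
    exact Subtype.ext (Subtype.ext (mul_left_cancel (mul_right_cancel (h.trans h'.symm))))
  · obtain ⟨a, b, c, d⟩ := key e he
    exact ⟨_, a, b, c, d, h⟩

end Core

end Cfsg.Agent.SL3Max.C6
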