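/-
There is no core when `ω` is a cube in the prime field.
Main results: `rhob_mem`, `Core.not_cube`.
-/
import Cfsg.Agent.Lib.SL3Max.C6.Quot

set_option autoImplicit false
set_option linter.unusedSectionVars false

namespace Cfsg.Agent.SL3Max.C6

open Matrix

variable {F : Type*} [Field F] [Fintype F] {κ : Ctx F} {M P : Subgroup (GL (Fin 3) F)}

/-- The extra diagonal element normalising the model. -/
def Ctx.z3 (κ : Ctx F) (ν : F) (hν : ν ^ 3 = κ.ω) : GL (Fin 3) F where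
  val := !![ν, 0, 0; 0, ν * κ.ω, 0; 0, 0, ν * κ.ω]
  inv := !![ν⁻¹, 0, 0; 0, ν⁻¹ * κ.ω ^ 2, 0; 0, 0, ν⁻¹ * κ.ω ^ 2]
  val_inv := by
    have hν0 : ν ≠ 0 := fun h => κ.ω_ne (by rw [← hν, h]; simp)
    have := κ.cube
    ext i j; fin_cases i <;> fin_cases j <;>
      simp [Matrix.mul_apply, Fin.sum_univ_three, hν0] <;> grind
  inv_val := by
    have hν0 : ν ≠ 0 := fun h => κ.ω_ne (by rw [← hν, h]; simp)
    have := κ.cube
    ext i j; fin_cases i <;> fin_cases j <;>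
      simp [Matrix.mul_apply, Fin.sum_univ_three, hν0] <;> grind

lemma Ctx.z3_Ct (κ : Ctx F) (ν : F) (hν : ν ^ 3 = κ.ω) : κ.z3 ν hν ∈ κ.Ct := by
  rw [Subgroup.mem_centralizer_singleton_iff]
  refine Units.ext ?_
  ext i j
  fin_cases i <;> fin_cases j <;>
    simp [Ctx.z3, Ctx.t, Matrix.mul_apply, Fin.sum_univ_three]

lemma rhob_mem {y : Cb κ} (hy : (y : Q3 F) ∈ M.map qm) : rhob κ y ∈ Gpl κ M := by
  obtain ⟨g, hg, hgy⟩ := Subgroup.mem_map.1 hy
  have hgC : g ∈ κ.Ct :=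
    mem_Ct_of_comm κ (by rw [hgy]; exact Subgroup.mem_centralizer_singleton_iff.1 y.2)
  rw [show y = qC κ ⟨g, hgC⟩ from Subtype.ext hgy.symm, rhob_apply]
  exact ⟨⟨g, hgC⟩, Subgroup.mem_subgroupOf.2 hg, rfl⟩

lemma Core.scalar_mem_pm (S : Core κ M P) {A : GL (Fin 2) F} (hA : A ∈ Gpl κ M) {μ : F}
    (h : (A : Matrix (Fin 2) (Fin 2) F) = μ • 1) : μ = 1 ∨ μ = -1 := by
  obtain ⟨g, hg, rfl⟩ := Subgroup.mem_map.1 hA
  exact S.scalar_pm (Subgroup.mem_subgroupOf.1 hg) h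

/-- No core when `ω` is a cube. -/
theorem Core.not_cube (S : Core κ M P) (ν : F) (hν : ν ^ 3 = κ.ω) (hz : κ.z3 ν hν ∈ M) : False := by
  classical
  set A := κ.rho ⟨κ.z3 ν hν, κ.z3_Ct ν hν⟩
  have hAmem : A ∈ Gpl κ M := ⟨_, Subgroup.mem_subgroupOf.2 hz, rfl⟩
  have hν0 : ν ≠ 0 := fun h => κ.ω_ne (by rw [← hν, h]; simp)
  have hAval : (A : Matrix (Fin 2) (Fin 2) F) = !![κ.ω ^ 2, 0; 0, 1] := by
    rw [κ.rho_val]
    have := κ.cube
    have := κ.ω_ne
    ext i j; fin_cases i <;> fin_cases j <;> simp [Ctx.z3] <;> grind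
  have hω2 : κ.ω ^ 2 ≠ 1 := fun h => κ.ne (by have := κ.cube; grind)
  rcases S.cases with ⟨r, hr, hcen⟩ | hexc
  · obtain ⟨e0, e1, -⟩ := S.axis_entries hr
    exact not_commute_diag hAval hω2 e0 e1
      (hcen _ (Subgroup.mem_map_of_mem _ hAmem)).symm
  set m := (ProjGenLinGroup.mk : GL (Fin 2) F →* PSL2.PGL2 F)
  let f : Gpl κ M →* Gbar κ M := m.subgroupMap (Gpl κ M)
  have hf : Function.Surjective f := m.subgroupMap_surjective _
  let d : Gpl κ M →* Fˣ := GeneralLinearGroup.det.comp (Gpl κ M).subtype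
  have hker : f.ker ≤ d.ker := fun x hx => by
    have h1 : m x.1 = 1 := congrArg Subtype.val (MonoidHom.mem_ker.1 hx)
    obtain ⟨h01, h10, h00⟩ := mk_eq_one_entries h1
    have hval : (x.1 : Matrix (Fin 2) (Fin 2) F) = (x.1 0 0) • 1 := by
      ext i j; fin_cases i <;> fin_cases j <;> simp [h01, h10, h00]
    refine MonoidHom.mem_ker.2 (Units.ext ?_)
    show (x.1 : Matrix (Fin 2) (Fin 2) F).det = 1
    rw [hval, det_smul, det_one, mul_one, Fintype.card_fin]
    rcases S.scalar_mem_pm x.2 hval with h | h <;> rw [h] <;> ring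
  let δ : Gbar κ M →* Fˣ := f.liftOfSurjective hf ⟨d, hker⟩
  have hδ : ∀ x, δ (f x) = d x := fun x => MonoidHom.liftOfRightInverse_comp_apply _ _ _ _ x
  have hAdet : ((d ⟨A, hAmem⟩ : Fˣ) : F) = κ.ω ^ 2 := by
    show (A : Matrix (Fin 2) (Fin 2) F).det = _
    rw [hAval, det_fin_two]; simp
  rcases hexc with ⟨⟨e⟩⟩ | ⟨⟨e⟩⟩ | ⟨⟨e⟩⟩
  · obtain ⟨v, hvX, hvC, hv2, hv1, hvt⟩ := S.exists_v
    set V := rhob κ ⟨v, hvC⟩
    have hVmem : V ∈ Gpl κ M := rhob_mem (S.Xb_le hvX)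
    have hV2 : V * V = 1 := by
      rw [← map_mul, ← map_one (rhob κ)]
      exact congrArg _ (Subtype.ext hv2)
    have hV1 : V ≠ 1 := fun h => hv1 (congrArg Subtype.val (rhob_eq_one κ h))
    have hVn : (V : Matrix (Fin 2) (Fin 2) F) ≠ -1 := fun h => hvt (congrArg Subtype.val
      (rhob_inj κ (a₁ := ⟨v, hvC⟩) (a₂ := ⟨tb κ, tb_mem_Cb κ⟩) (Units.ext (h.trans (rhob_tb κ).symm))))
    have hdet : (V : Matrix (Fin 2) (Fin 2) F).det = 1 := by
      obtain ⟨a, b, hab⟩ := a4_commutator (e (f ⟨V, hVmem⟩)) (by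
        rw [← map_mul, ← map_mul, show (⟨V, hVmem⟩ : Gpl κ M) * ⟨V, hVmem⟩ = 1 from Subtype.ext hV2,
          map_one, map_one])
      have h1 := congrArg (δ.comp e.symm.toMonoidHom) hab
      simp only [map_mul, map_inv, mul_inv_cancel_comm, mul_inv_cancel] at h1
      rw [MonoidHom.comp_apply, MulEquiv.coe_toMonoidHom, e.symm_apply_apply, hδ] at h1
      exact congrArg Units.val h1
    have hval : (V : Matrix (Fin 2) (Fin 2) F) * V = 1 := by rw [← Units.val_mul, hV2, Units.val_one]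
    set W := (V : Matrix (Fin 2) (Fin 2) F)
    have e00 := congrFun (congrFun hval 0) 0
    have e01 := congrFun (congrFun hval 0) 1
    have e10 := congrFun (congrFun hval 1) 0
    have e11 := congrFun (congrFun hval 1) 1
    rw [det_fin_two] at hdet
    simp [Matrix.mul_apply, Fin.sum_univ_two] at e00 e01 e10 e11
    have h2 := κ.two
    have b0 : W 0 1 = 0 := by grind
    have c0 : W 1 0 = 0 := by grind
    have ad : W 1 1 = W 0 0 := by grind
    have hsc : W = W 0 0 • 1 := by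
      ext i j; fin_cases i <;> fin_cases j <;> simp [b0, c0, ad]
    rcases S.scalar_mem_pm hVmem hsc with h | h
    · exact hV1 (Units.ext (hsc.trans (by rw [h, one_smul, Units.val_one])))
    · exact hVn (hsc.trans (by rw [h, neg_smul, one_smul]))
  · have h := s4_hom_sq (δ.comp e.symm.toMonoidHom) (e (f ⟨A, hAmem⟩))
    rw [MonoidHom.comp_apply, MulEquiv.coe_toMonoidHom, e.symm_apply_apply, hδ] at h
    have h' := congrArg Units.val h
    rw [Units.val_pow_eq_pow_val, hAdet, Units.val_one] at h'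
    exact κ.ne (by have := κ.cube; grind)
  · have h := congrFun (congrArg DFunLike.coe (a5_hom (δ.comp e.symm.toMonoidHom))) (e (f ⟨A, hAmem⟩))
    rw [MonoidHom.comp_apply, MulEquiv.coe_toMonoidHom, e.symm_apply_apply, hδ] at h
    have h' := congrArg Units.val h
    rw [hAdet] at h'
    exact hω2 h'

end Cfsg.Agent.SL3Max.C6
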