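/-
The model is a Sylow 3-subgroup when `ω` is not a cube, and no element of order three of the
overgroup centralises `t` modulo scalars.
Main results: `Core.three_le`, `Core.conj_into`, `Core.no_three`.
-/
import Cfsg.Agent.Lib.SL3Max.C6.Quot

set_option autoImplicit false
set_option linter.unusedSectionVars false

namespace Cfsg.Agent.SL3Max.C6

open Matrix Cfsg.Agent.Transvect

variable {F : Type*} [Field F] [Fintype F] {κ : Ctx F} {M P : Subgroup (GL (Fin 3) F)}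

/-- A 3-element normalising the model lies in it. -/
lemma Core.normaliser_three (S : Core κ M P) (hn : ∀ x : F, x ^ 3 ≠ κ.ω) {U : Subgroup (GL (Fin 3) F)}
    (hU : IsPGroup 3 U) (hUM : U ≤ M) (hle : κ.R0 ≤ U)
    (hnorm : ∀ u ∈ U, ∀ r ∈ κ.R0, u * r * u⁻¹ ∈ κ.R0) : U ≤ κ.R0 := by
  haveI : Fact (Nat.Prime 3) := ⟨Nat.prime_three⟩
  obtain ⟨x, hx, hxs, hfix⟩ := exists_fixed_class hU (IsPGroup.iff_card.2 ⟨3, κ.card_R0⟩)
    ⟨κ.el 0 1 0, κ.el_mem _ _ _, fun h => by have := κ.el_mem_scalars_iff.1 h; omega⟩ hnorm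
  obtain ⟨w, hw, a, b, hb, hwx⟩ := κ.exists_word hx hxs
  have hwn : ∀ r ∈ κ.R0, w * r * w⁻¹ ∈ κ.R0 := by
    clear hwx
    have hFn : ∀ g ∈ Subgroup.closure {κ.Fm, κ.Fm'}, g ∈ Subgroup.normalizer (κ.R0 : Set (GL (Fin 3) F)) := by
      intro g hg
      refine (Subgroup.closure_le _).2 ?_ hg
      haveI : Finite κ.R0 := inferInstance
      rintro y (rfl | rfl) <;>
        rw [SetLike.mem_coe, Subgroup.mem_normalizer_iff_map_conj_eq] <;>
        refine Subgroup.eq_of_le_of_card_ge ?_ (le_of_eq (Nat.card_congr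
          (Subgroup.equivMapOfInjective _ _ (MulEquiv.injective _)).toEquiv))
      · rintro _ ⟨r, hr, rfl⟩; exact κ.Fm_norm hr
      · rintro _ ⟨r, hr, rfl⟩; exact κ.Fm'_norm hr
    exact fun r hr => (Subgroup.mem_normalizer_iff.1 (hFn w hw) r).1 hr
  have hwn' : ∀ r, w * r * w⁻¹ ∈ κ.R0 → r ∈ κ.R0 := by
    intro r hr
    have hmap : κ.R0.map (MulAut.conj w).toMonoidHom = κ.R0 := Subgroup.eq_of_le_of_card_ge
      (by rintro _ ⟨y, hy, rfl⟩; exact hwn y hy)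
      (le_of_eq (Nat.card_congr (Subgroup.equivMapOfInjective _ _ (MulEquiv.injective _)).toEquiv))
    rw [← hmap] at hr
    obtain ⟨y, hy, he⟩ := hr
    rwa [show r = y from (MulAut.conj w).injective he.symm]
  intro g hg
  set v := w * g * w⁻¹ with hv
  have hvn : ∀ r ∈ κ.R0, v * r * v⁻¹ ∈ κ.R0 := by
    intro r hr
    have hr' : w⁻¹ * r * w ∈ κ.R0 := hwn' _ (by
      rwa [show w * (w⁻¹ * r * w) * w⁻¹ = r by group])
    rw [show v * r * v⁻¹ = w * (g * (w⁻¹ * r * w) * g⁻¹) * w⁻¹ by rw [hv]; group]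
    exact hwn _ (hnorm g hg _ hr')
  have hvsl : v ∈ Cfsg.Geo.specialLinear (Fin 3) F := by
    have hw' : w ∈ Cfsg.Geo.specialLinear (Fin 3) F := S.le (S.Q8_le hw)
    exact mul_mem (mul_mem hw' (S.le (hUM hg))) (inv_mem hw')
  -- `v` fixes the class of `D`
  have hs := hfix g hg
  set s := g * x * g⁻¹ * x⁻¹ with hsdef
  have hvx : v * κ.el a b 0 * v⁻¹ = s * κ.el a b 0 := by
    rw [← hwx, hv]
    calc w * g * w⁻¹ * (w * x * w⁻¹) * (w * g * w⁻¹)⁻¹ = w * (g * x * g⁻¹) * w⁻¹ := by group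
      _ = w * s * x * w⁻¹ := by rw [hsdef]; group
      _ = _ := by rw [scal_comm hs w]; group
  obtain ⟨i, hi⟩ := κ.scal_sl hs (by
    refine mul_mem (mul_mem (mul_mem (S.le (hUM hg)) (κ.R0_le_sl hx)) (inv_mem (S.le (hUM hg))))
      (inv_mem (κ.R0_le_sl hx)))
  rw [hi, κ.el_mul] at hvx
  -- correct by a power of `C`
  obtain ⟨j, hj⟩ : ∃ j, (i + j * b) % 3 = 0 := by
    obtain h | h : b % 3 = 1 ∨ b % 3 = 2 := by omega
    · exact ⟨2 * i, by simp [Nat.add_mod, Nat.mul_mod, h]; omega⟩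
    · exact ⟨i, by simp [Nat.add_mod, Nat.mul_mod, h]; omega⟩
  set u := κ.el 0 0 j * v with hu
  have hun : ∀ r ∈ κ.R0, u * r * u⁻¹ ∈ κ.R0 := fun r hr => by
    rw [show u * r * u⁻¹ = κ.el 0 0 j * (v * r * v⁻¹) * (κ.el 0 0 j)⁻¹ by rw [hu]; group]
    exact mul_mem (mul_mem (κ.el_mem _ _ _) (hvn r hr)) (inv_mem (κ.el_mem _ _ _))
  have hucomm : u * κ.el a b 0 = κ.el a b 0 * u := by
    calc u * κ.el a b 0 = κ.el 0 0 j * (v * κ.el a b 0 * v⁻¹) * v := by rw [hu]; group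
      _ = κ.el a b 0 * (κ.el 0 0 j * v) := by
        rw [hvx, κ.el_mul, ← mul_assoc (κ.el a b 0), κ.el_mul]
        congr 1
        rw [κ.el_eq_iff]
        refine ⟨?_, by omega, by omega⟩
        simp only [zero_mul, add_zero, zero_add]
        rw [Nat.add_mod, Nat.mul_mod] at hj
        rw [Nat.add_mod, Nat.mul_mod, Nat.add_mod i a]
        omega
      _ = _ := by rw [hu]
  -- `u` is diagonal
  have e : ∀ k l, ((u : Matrix (Fin 3) (Fin 3) F) * (κ.el a b 0 : Matrix (Fin 3) (Fin 3) F)) k l =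
      ((κ.el a b 0 : Matrix (Fin 3) (Fin 3) F) * (u : Matrix (Fin 3) (Fin 3) F)) k l := fun k l => by
    rw [← Units.val_mul, hucomm, Units.val_mul]
  have hdiag : ∀ k l : Fin 3, k ≠ l → u k l = 0 := by
    intro k l hkl
    have h := e k l
    simp only [Matrix.mul_apply, Fin.sum_univ_three, κ.el_apply] at h
    have hne : κ.ω ^ (a + b * (k : ℕ)) ≠ κ.ω ^ (a + b * (l : ℕ)) := by
      rw [Ne, κ.pow_eq_pow_iff]
      intro hh
      obtain hb' | hb' : b % 3 = 1 ∨ b % 3 = 2 := by omega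
      all_goals
        rw [Nat.add_mod, Nat.mul_mod, hb'] at hh
        nth_rw 2 [Nat.add_mod, Nat.mul_mod] at hh
        rw [hb'] at hh
        fin_cases k <;> fin_cases l <;> simp at hkl hh <;> omega
    fin_cases k <;> fin_cases l <;> simp at hkl h hne ⊢ <;> grind
  have husl : u ∈ Cfsg.Geo.specialLinear (Fin 3) F := mul_mem (κ.R0_le_sl (κ.el_mem _ _ _)) hvsl
  have hdet := mem_sl_iff.1 husl
  rw [det_fin_three] at hdet
  simp [hdiag] at hdet
  obtain ⟨a', b', c', hC⟩ := hun _ (κ.el_mem 0 0 1)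
  rw [mul_inv_eq_iff_eq_mul] at hC
  have c01 := congrArg (fun y : GL (Fin 3) F => (y : Matrix (Fin 3) (Fin 3) F) 0 1) hC
  have c12 := congrArg (fun y : GL (Fin 3) F => (y : Matrix (Fin 3) (Fin 3) F) 1 2) hC
  simp only [Units.val_mul, Matrix.mul_apply, Fin.sum_univ_three, κ.el_apply] at c01 c12
  simp [hdiag] at c01 c12
  have hu0 : u 0 0 ≠ 0 := fun h0 => by rw [h0, zero_mul, zero_mul] at hdet; exact zero_ne_one hdet
  have hc' : c' % 3 = 1 := by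
    by_contra hne
    rw [if_neg hne] at c01
    exact hu0 c01
  rw [if_pos hc'] at c01
  rw [if_pos (by omega)] at c12
  have hω : ∀ n, κ.ω ^ n ≠ 0 := fun n => pow_ne_zero n κ.ω_ne
  -- the diagonal
  have h11 : u 1 1 = κ.ω ^ (2 * a') * u 0 0 := by
    have hh : κ.ω ^ (3 * a') = 1 := by rw [pow_mul, κ.cube, one_pow]
    rw [c01, ← mul_assoc, ← pow_add, show 2 * a' + a' = 3 * a' by ring, hh, one_mul]
  have h22 : u 2 2 = κ.ω ^ (4 * a' + 2 * b') * u 0 0 := by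
    have hh : κ.ω ^ (3 * (a' + b')) = 1 := by rw [pow_mul, κ.cube, one_pow]
    calc u 2 2 = κ.ω ^ (3 * (a' + b')) * u 2 2 := by rw [hh, one_mul]
      _ = κ.ω ^ (2 * a' + 2 * b') * (κ.ω ^ (a' + b') * u 2 2) := by
        rw [← mul_assoc, ← pow_add]; ring_nf
      _ = κ.ω ^ (2 * a' + 2 * b') * u 1 1 := by rw [c12]
      _ = _ := by rw [h11, ← mul_assoc, ← pow_add]; ring_nf
  have hcube : u 0 0 ^ 3 = κ.ω ^ b' := by
    have hh : κ.ω ^ (3 * (2 * a' + b')) = 1 := by rw [pow_mul, κ.cube, one_pow]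
    calc u 0 0 ^ 3 = κ.ω ^ (3 * (2 * a' + b')) * u 0 0 ^ 3 := by rw [hh, one_mul]
      _ = κ.ω ^ b' * (u 0 0 * u 1 1 * u 2 2) := by rw [h11, h22]; ring
      _ = _ := by rw [hdet, mul_one]
  have hb0 : b' % 3 = 0 := by
    by_contra hne
    obtain h | h : b' % 3 = 1 ∨ b' % 3 = 2 := by omega
    · exact hn (u 0 0) (by rw [hcube]; nth_rw 2 [← pow_one κ.ω]; rw [κ.pow_eq_pow_iff]; exact h)
    · refine hn (u 0 0 ^ 2) ?_
      rw [← pow_mul, mul_comm, pow_mul, hcube, ← pow_mul]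
      nth_rw 2 [← pow_one κ.ω]
      rw [κ.pow_eq_pow_iff]; omega
  have hone : u 0 0 ^ 3 = 1 := by
    rw [hcube, ← pow_zero κ.ω, κ.pow_eq_pow_iff]; omega
  obtain ⟨k, hk⟩ : ∃ k, u 0 0 = κ.ω ^ k := by
    have h : (u 0 0 - 1) * (u 0 0 - κ.ω) * (u 0 0 - κ.ω ^ 2) = 0 := by
      have := κ.rel; have := κ.cube; grind
    rcases mul_eq_zero.1 h with h | h
    · rcases mul_eq_zero.1 h with h | h
      exacts [⟨0, by rw [pow_zero, sub_eq_zero.1 h]⟩, ⟨1, by rw [pow_one, sub_eq_zero.1 h]⟩]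
    · exact ⟨2, sub_eq_zero.1 h⟩
  have huR : u = κ.el k (2 * a') 0 := by
    refine Units.ext ?_
    ext r c
    rw [κ.el_apply]
    have hm : κ.ω ^ (4 * a' + 2 * b') = κ.ω ^ (4 * a') := by
      rw [κ.pow_eq_pow_iff]; omega
    fin_cases r <;> fin_cases c <;> simp [hdiag, hk, h11, h22, hm] <;> ring
  have hvR : v ∈ κ.R0 := by
    rw [show v = (κ.el 0 0 j)⁻¹ * u by rw [hu]; group, huR]
    exact mul_mem (inv_mem (κ.el_mem _ _ _)) (κ.el_mem _ _ _)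
  exact hwn' g hvR

/-- A 3-subgroup containing the model is the model. -/
theorem Core.three_le (S : Core κ M P) (hn : ∀ x : F, x ^ 3 ≠ κ.ω) {U : Subgroup (GL (Fin 3) F)}
    (hU : IsPGroup 3 U) (hUM : U ≤ M) (hle : κ.R0 ≤ U) : U ≤ κ.R0 := by
  haveI : Fact (Nat.Prime 3) := ⟨Nat.prime_three⟩
  by_contra hne
  haveI := hU.isNilpotent
  have hlt : κ.R0.subgroupOf U < ⊤ := by
    refine lt_top_iff_ne_top.2 fun h => hne fun u hu => ?_
    have : (⟨u, hu⟩ : U) ∈ κ.R0.subgroupOf U := by rw [h]; trivial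
    exact Subgroup.mem_subgroupOf.1 this
  have hN := normalizerCondition_of_isNilpotent (G := U) _ hlt
  obtain ⟨g, hg, hgR⟩ := SetLike.exists_of_lt hN
  set N := (Subgroup.normalizer (κ.R0.subgroupOf U : Set U)).map U.subtype
  have hNU : N ≤ U := Subgroup.map_subtype_le _
  have hR : κ.R0 ≤ N := fun r hr => ⟨⟨r, hle hr⟩, Subgroup.le_normalizer (Subgroup.mem_subgroupOf.2 hr), rfl⟩
  refine hgR (Subgroup.mem_subgroupOf.2 (S.normaliser_three hn (hU.to_le hNU) (hNU.trans hUM) hR ?_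
    ⟨g, hg, rfl⟩))
  rintro _ ⟨m, hm, rfl⟩ r hr
  exact Subgroup.mem_subgroupOf.1 ((Subgroup.mem_normalizer_iff.1 hm ⟨r, hle hr⟩).1
    (Subgroup.mem_subgroupOf.2 hr))

/-- A 3-element of the overgroup is conjugate into the model. -/
theorem Core.conj_into (S : Core κ M P) (hn : ∀ x : F, x ^ 3 ≠ κ.ω) {U : Subgroup (GL (Fin 3) F)}
    (hU : IsPGroup 3 U) (hUM : U ≤ M) : ∃ g ∈ M, ∀ u ∈ U, g * u * g⁻¹ ∈ κ.R0 := by
  haveI : Fact (Nat.Prime 3) := ⟨Nat.prime_three⟩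
  obtain ⟨T, hT⟩ := ((IsPGroup.iff_card.2 ⟨3, κ.card_R0⟩ : IsPGroup 3 κ.R0).comap_of_injective
    M.subtype Subtype.val_injective).exists_le_sylow (G := M)
  obtain ⟨T', hT'⟩ := (hU.comap_of_injective M.subtype Subtype.val_injective).exists_le_sylow (G := M)
  have hle : (T : Subgroup M).map M.subtype ≤ κ.R0 := S.three_le hn (T.2.map _)
    (Subgroup.map_subtype_le _) fun r hr => ⟨⟨r, S.R0_le hr⟩, hT hr, rfl⟩
  obtain ⟨g, hg⟩ := MulAction.exists_smul_eq M T' T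
  refine ⟨g, g.2, fun u hu => hle ⟨g * ⟨u, hUM hu⟩ * g⁻¹, ?_, by simp⟩⟩
  show g * ⟨u, hUM hu⟩ * g⁻¹ ∈ (T : Subgroup M)
  rw [← hg]
  exact ⟨⟨u, hUM hu⟩, hT' hu, rfl⟩

/-- No element of order three of the overgroup centralises `t` modulo scalars. -/
theorem Core.no_three (S : Core κ M P) (hn : ∀ x : F, x ^ 3 ≠ κ.ω) {y : Q3 F} (hy : y ∈ M.map qm)
    (hC : y ∈ Cb κ) (h3 : y ^ 3 = 1) : y = 1 := by
  by_contra h1
  obtain ⟨g, hg, rfl⟩ := S.exists_lift hy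
  have hg3 : g ^ 3 ∈ Cfsg.Geo.scalars (Fin 3) F := by rw [← qm_eq_one, map_pow, h3]
  obtain ⟨a, ha⟩ := κ.scal_sl hg3 (pow_mem (S.le hg) 3)
  have h9 : g ^ (3 ^ 2) = 1 := by
    rw [show (3 : ℕ) ^ 2 = 3 * 3 from rfl, pow_mul, ha]
    simp only [Ctx.el, pow_zero, mul_one, ← pow_mul]
    rw [mul_comm, pow_mul, κ.Z_cube, one_pow]
  haveI : Fact (Nat.Prime 3) := ⟨Nat.prime_three⟩
  have hU : IsPGroup 3 (Subgroup.zpowers g) := by
    obtain ⟨k, -, hk⟩ := (Nat.dvd_prime_pow Nat.prime_three).1 (orderOf_dvd_of_pow_eq_one h9)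
    exact IsPGroup.of_card (n := k) (by rw [Nat.card_zpowers, hk])
  obtain ⟨h, hh, hconj⟩ := S.conj_into hn hU ((Subgroup.zpowers_le).2 hg)
  set c := qm h
  have hcM : c ∈ M.map qm := ⟨h, hh, rfl⟩
  have hx : c * qm g * c⁻¹ ∈ κ.R0.map qm :=
    ⟨_, hconj g (Subgroup.mem_zpowers g), by simp [c]⟩
  refine S.no_inv_comm' (y := c * tb κ * c⁻¹) (x := c * qm g * c⁻¹)
    (mul_mem (mul_mem hcM (S.Xb_le S.tb_mem_Xb)) (inv_mem hcM)) ?_ ?_ hx ?_ ?_
  · calc c * tb κ * c⁻¹ * (c * tb κ * c⁻¹) = c * (tb κ * tb κ) * c⁻¹ := by group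
      _ = 1 := by rw [tb_sq]; group
  · intro h'
    have ht : tb κ = 1 := by
      calc tb κ = c⁻¹ * (c * tb κ * c⁻¹) * c := by group
        _ = 1 := by rw [h']; group
    obtain ⟨b, hb⟩ := κ.scal_sl (qm_eq_one.1 ht) (mem_sl_iff.2 κ.det_t)
    have h00 := congrArg (fun m : GL (Fin 3) F => (m : Matrix (Fin 3) (Fin 3) F) 1 2) hb
    simp [κ.el_apply, Ctx.t] at h00
  · intro h'
    exact h1 (by
      calc qm g = c⁻¹ * (c * qm g * c⁻¹) * c := by group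
        _ = 1 := by rw [h']; group)
  · calc c * tb κ * c⁻¹ * (c * qm g * c⁻¹) = c * (tb κ * qm g) * c⁻¹ := by group
      _ = c * (qm g * tb κ) * c⁻¹ := by rw [Subgroup.mem_centralizer_singleton_iff.1 hC]
      _ = _ := by group

end Cfsg.Agent.SL3Max.C6
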