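/-
When `ω` is not a cube the plane image normalises an axis; characters of it and transfer to the core.
Main results: `IsAx`, `Core.exists_ax`, `Core.kill`.
-/
import Cfsg.Agent.Lib.SL3Max.C6.Sylow
import Cfsg.Agent.Lib.SL3Max.C6.NineOne
import Cfsg.Agent.Lib.Transfer.FusionInvariant

set_option autoImplicit false
set_option linter.unusedSectionVars false

namespace Cfsg.Agent.SL3Max.C6

open Matrix

variable {F : Type*} [Field F] [Fintype F] {κ : Ctx F} {M P : Subgroup (GL (Fin 3) F)}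

/-- An axis `z` normalised by the plane image, with an element `q` reversing it. -/
structure IsAx (κ : Ctx F) (M : Subgroup (GL (Fin 3) F)) (z q : GL (Fin 2) F) : Prop where
  z_mem : z ∈ Gpl κ M
  q_mem : q ∈ Gpl κ M
  z_sq : (z : Matrix (Fin 2) (Fin 2) F) * z = -1
  z_det : (z : Matrix (Fin 2) (Fin 2) F).det = 1
  z10 : z 1 0 ≠ 0
  q_sq : (q : Matrix (Fin 2) (Fin 2) F) * q = -1
  q_det : (q : Matrix (Fin 2) (Fin 2) F).det = 1
  q_anti : (q : Matrix (Fin 2) (Fin 2) F) * z = -((z : Matrix (Fin 2) (Fin 2) F) * q)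
  sign : ∀ g ∈ Gpl κ M, (g : Matrix (Fin 2) (Fin 2) F) * z = (z : Matrix (Fin 2) (Fin 2) F) * g ∨
    (g : Matrix (Fin 2) (Fin 2) F) * z = -((z : Matrix (Fin 2) (Fin 2) F) * g)

lemma mem_Gpl {A : GL (Fin 2) F} (hA : A ∈ Gpl κ M) :
    ∃ y : Cb κ, (y : Q3 F) ∈ M.map qm ∧ rhob κ y = A := by
  obtain ⟨g, hg, rfl⟩ := Subgroup.mem_map.1 hA
  exact ⟨qC κ g, ⟨g, Subgroup.mem_subgroupOf.1 hg, rfl⟩, rhob_apply κ g⟩

/-- The axis exists. -/
theorem Core.exists_ax (S : Core κ M P) (hn : ∀ x : F, x ^ 3 ≠ κ.ω) : ∃ z q, IsAx κ M z q := by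
  rcases S.cases with ⟨r, hr, hcen⟩ | hexc
  swap
  · exfalso
    have h3 : 3 ∣ Nat.card (Gbar κ M) := by
      rcases hexc with ⟨⟨e⟩⟩ | ⟨⟨e⟩⟩ | ⟨⟨e⟩⟩ <;> rw [Nat.card_congr e.toEquiv] <;>
        (first | rw [nat_card_alternatingGroup, Nat.card_fin] | rw [Nat.card_perm, Nat.card_fin]) <;>
        decide
    haveI : Fact (Nat.Prime 3) := ⟨Nat.prime_three⟩
    haveI : Finite (GL (Fin 2) F) := by
      haveI : Finite (Matrix (Fin 2) (Fin 2) F) := inferInstanceAs (Finite (Fin 2 → Fin 2 → F))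
      exact Finite.of_injective Units.val Units.val_injective
    obtain ⟨A, hA⟩ := exists_prime_orderOf_dvd_card' (G := Gpl κ M) 3
      (h3.trans (Subgroup.card_map_dvd (Gpl κ M) ProjGenLinGroup.mk))
    obtain ⟨y, hy, hyA⟩ := mem_Gpl A.2
    have h1 : (y : Q3 F) ^ 3 = 1 := by
      have : y ^ 3 = 1 := rhob_inj κ (by
        rw [map_pow, map_one, hyA, ← Subgroup.coe_pow, ← hA, pow_orderOf_eq_one, Subgroup.coe_one])
      rw [← Subgroup.coe_pow, this, Subgroup.coe_one]
    have h2 : y = 1 := Subtype.ext (S.no_three hn hy y.2 h1)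
    rw [h2, map_one] at hyA
    rw [show A = 1 from Subtype.ext hyA.symm, orderOf_one] at hA
    norm_num at hA
  have hd1 : (S.aFm : Matrix (Fin 2) (Fin 2) F).det = 1 := by
    rw [S.aFm_val, det_fin_two]
    simp
    have := κ.r3_sq; have := κ.r3_ne; field_simp; linear_combination -κ.r3_sq
  have hd2 : (S.aFm' : Matrix (Fin 2) (Fin 2) F).det = 1 := by
    rw [S.aFm'_val, det_fin_two]
    simp
    have := κ.r3_sq; have := κ.r3_ne; have := κ.cube
    field_simp
    linear_combination -κ.r3_sq - 2 * κ.cube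
  obtain ⟨q, hqm, hq2, hqd, hqr, hr2, hrd⟩ : ∃ q, q ∈ Gpl κ M ∧
      (q : Matrix (Fin 2) (Fin 2) F) * q = -1 ∧ (q : Matrix (Fin 2) (Fin 2) F).det = 1 ∧
      (q : Matrix (Fin 2) (Fin 2) F) * r = -((r : Matrix (Fin 2) (Fin 2) F) * q) ∧
      (r : Matrix (Fin 2) (Fin 2) F) * r = -1 ∧ (r : Matrix (Fin 2) (Fin 2) F).det = 1 := by
    rcases hr with rfl | rfl | rfl
    · exact ⟨S.aFm', S.aFm'_mem, S.aFm'_sq, hd2, S.anti, S.aFm_sq, hd1⟩
    · exact ⟨S.aFm, S.aFm_mem, S.aFm_sq, hd1, by rw [S.anti, neg_neg], S.aFm'_sq, hd2⟩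
    · refine ⟨S.aFm, S.aFm_mem, S.aFm_sq, hd1, ?_, ?_, by rw [Units.val_mul, det_mul, hd1, hd2, one_mul]⟩
      · rw [Units.val_mul, mul_assoc (S.aFm : Matrix (Fin 2) (Fin 2) F) S.aFm', S.anti, mul_neg, neg_neg]
      · rw [Units.val_mul]
        calc (S.aFm : Matrix (Fin 2) (Fin 2) F) * S.aFm' * ((S.aFm : Matrix (Fin 2) (Fin 2) F) * S.aFm')
            = (S.aFm : Matrix (Fin 2) (Fin 2) F) * ((S.aFm' : Matrix (Fin 2) (Fin 2) F) * S.aFm) * S.aFm' := by
              simp only [mul_assoc]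
          _ = -(((S.aFm : Matrix (Fin 2) (Fin 2) F) * S.aFm) * ((S.aFm' : Matrix (Fin 2) (Fin 2) F) * S.aFm')) := by
              rw [S.anti]; simp only [mul_neg, neg_mul, mul_assoc]
          _ = _ := by rw [S.aFm_sq, S.aFm'_sq]; simp
  refine ⟨r, q, S.axis_mem hr, hqm, hr2, hrd, (S.axis_entries hr).2.2, hq2, hqd, hqr, fun g hg => ?_⟩
  have h := hcen _ (Subgroup.mem_map_of_mem ProjGenLinGroup.mk hg)
  rw [← map_mul, ← map_mul] at h
  obtain ⟨c, hc⟩ := exists_smul_of_mk_eq h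
  rw [Units.val_mul, Units.val_mul] at hc
  have hdet := congrArg Matrix.det hc
  rw [det_mul, det_smul, det_mul, hrd, Fintype.card_fin, mul_one, one_mul] at hdet
  have hg0 : (g : Matrix (Fin 2) (Fin 2) F).det ≠ 0 := fun h0 => by
    have := congrArg Matrix.det g.mul_inv
    rw [det_mul, h0, zero_mul, det_one] at this
    exact zero_ne_one this
  have hc2 : c ^ 2 = 1 := mul_right_cancel₀ hg0 (by rw [one_mul]; exact hdet.symm)
  rcases sq_eq_one_iff.1 hc2 with h1 | h1
  · exact Or.inl (by rw [hc, h1, one_smul])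
  · exact Or.inr (by rw [hc, h1, neg_smul, one_smul])

namespace IsAx

variable {z q : GL (Fin 2) F} (A : IsAx κ M z q) (S : Core κ M P)
include A

lemma ztr : z 1 1 = -z 0 0 := by
  have h := congrFun (congrFun A.z_sq 1) 0
  simp [Matrix.mul_apply, Fin.sum_univ_two] at h
  have := A.z10
  grind

lemma not_both {g : GL (Fin 2) F} (h : (g : Matrix (Fin 2) (Fin 2) F) * z = (z : Matrix (Fin 2) (Fin 2) F) * g) :
    (g : Matrix (Fin 2) (Fin 2) F) * z ≠ -((z : Matrix (Fin 2) (Fin 2) F) * g) := by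
  intro h'
  rw [h] at h'
  have h2 : ((z * g : GL (Fin 2) F) : Matrix (Fin 2) (Fin 2) F) = 0 := by
    rw [Units.val_mul]
    have := κ.two
    ext i j
    have e := congrFun (congrFun h' i) j
    simp only [Matrix.neg_apply] at e
    rw [Matrix.zero_apply]
    grind
  exact Units.ne_zero _ h2

lemma comm_form {g : GL (Fin 2) F} (h : (g : Matrix (Fin 2) (Fin 2) F) * z = (z : Matrix (Fin 2) (Fin 2) F) * g) :
    ∃ α β : F, (g : Matrix (Fin 2) (Fin 2) F) = α • 1 + β • (z : Matrix (Fin 2) (Fin 2) F) := by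
  refine ⟨g 0 0 - g 1 0 / z 1 0 * z 0 0, g 1 0 / z 1 0, ?_⟩
  have e00 := congrFun (congrFun h 0) 0
  have e10 := congrFun (congrFun h 1) 0
  simp [Matrix.mul_apply, Fin.sum_univ_two] at e00 e10
  have := A.z10
  have := A.ztr
  ext i j
  fin_cases i <;> fin_cases j <;> simp <;> field_simp <;> grind

lemma comm_comm {g h : GL (Fin 2) F} (hg : (g : Matrix (Fin 2) (Fin 2) F) * z = (z : Matrix (Fin 2) (Fin 2) F) * g)
    (hh : (h : Matrix (Fin 2) (Fin 2) F) * z = (z : Matrix (Fin 2) (Fin 2) F) * h) : g * h = h * g := by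
  obtain ⟨a, b, e1⟩ := A.comm_form hg
  obtain ⟨c, d, e2⟩ := A.comm_form hh
  refine Units.ext ?_
  rw [Units.val_mul, Units.val_mul, e1, e2]
  simp only [add_mul, mul_add, smul_mul_assoc, mul_smul_comm, one_mul, mul_one, smul_smul, smul_add]
  module

lemma comm_mul {g h : GL (Fin 2) F} {s s' : F}
    (hg : (g : Matrix (Fin 2) (Fin 2) F) * z = s • ((z : Matrix (Fin 2) (Fin 2) F) * g))
    (hh : (h : Matrix (Fin 2) (Fin 2) F) * z = s' • ((z : Matrix (Fin 2) (Fin 2) F) * h)) :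
    ((g * h : GL (Fin 2) F) : Matrix (Fin 2) (Fin 2) F) * z =
      (s * s') • ((z : Matrix (Fin 2) (Fin 2) F) * (g * h : GL (Fin 2) F)) := by
  rw [Units.val_mul, mul_assoc, hh, mul_smul_comm, ← mul_assoc, hg, smul_mul_assoc, smul_smul,
    mul_assoc, mul_comm s']

lemma anti_trace {g : GL (Fin 2) F}
    (h : (g : Matrix (Fin 2) (Fin 2) F) * z = -((z : Matrix (Fin 2) (Fin 2) F) * g)) : g 1 1 = -g 0 0 := by
  have e10 := congrFun (congrFun h 1) 0
  simp [Matrix.mul_apply, Fin.sum_univ_two] at e10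
  have := A.z10
  have := A.ztr
  grind

lemma anti_sq {g : GL (Fin 2) F}
    (h : (g : Matrix (Fin 2) (Fin 2) F) * z = -((z : Matrix (Fin 2) (Fin 2) F) * g)) :
    (g : Matrix (Fin 2) (Fin 2) F) * g = (-(g : Matrix (Fin 2) (Fin 2) F).det) • 1 := by
  have := A.anti_trace h
  rw [det_fin_two]
  ext i j
  fin_cases i <;> fin_cases j <;> simp [Matrix.mul_apply, Fin.sum_univ_two, this] <;> ring

include S

lemma det_pm {g : GL (Fin 2) F} (hg : g ∈ Gpl κ M) :
    (g : Matrix (Fin 2) (Fin 2) F).det = 1 ∨ (g : Matrix (Fin 2) (Fin 2) F).det = -1 := by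
  have key : ∀ x ∈ Gpl κ M, (x : Matrix (Fin 2) (Fin 2) F) * z = -((z : Matrix (Fin 2) (Fin 2) F) * x) →
      (x : Matrix (Fin 2) (Fin 2) F).det = 1 ∨ (x : Matrix (Fin 2) (Fin 2) F).det = -1 := by
    intro x hx h
    rcases S.scalar_mem_pm (mul_mem hx hx) (by rw [Units.val_mul]; exact A.anti_sq h) with h1 | h1
    · exact Or.inr (by linear_combination -h1)
    · exact Or.inl (by linear_combination -h1)
  rcases A.sign g hg with h | h
  · have := key (g * q) (mul_mem hg A.q_mem) (by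
      rw [Units.val_mul, mul_assoc, A.q_anti, mul_neg, ← mul_assoc, h, mul_assoc])
    rwa [Units.val_mul, det_mul, A.q_det, mul_one] at this
  · exact key g hg h

/-- An involution is `-1` or anticommutes with determinant `-1`. -/
lemma invol {g : GL (Fin 2) F} (hg : g ∈ Gpl κ M) (h2 : g * g = 1) (h1 : g ≠ 1)
    (hm : (g : Matrix (Fin 2) (Fin 2) F) ≠ -1) :
    (g : Matrix (Fin 2) (Fin 2) F) * z = -((z : Matrix (Fin 2) (Fin 2) F) * g) ∧
      (g : Matrix (Fin 2) (Fin 2) F).det = -1 := by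
  have hval : (g : Matrix (Fin 2) (Fin 2) F) * g = 1 := by rw [← Units.val_mul, h2, Units.val_one]
  have hanti : (g : Matrix (Fin 2) (Fin 2) F) * z = -((z : Matrix (Fin 2) (Fin 2) F) * g) := by
    refine (A.sign g hg).resolve_left fun h => ?_
    obtain ⟨a, b, e⟩ := A.comm_form h
    rw [e] at hval
    simp only [add_mul, mul_add, smul_mul_assoc, mul_smul_comm, one_mul, mul_one, smul_smul,
      smul_add, A.z_sq] at hval
    have e00 := congrFun (congrFun hval 0) 0
    have e10 := congrFun (congrFun hval 1) 0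
    simp at e00 e10
    have := A.z10
    have := κ.two
    have hab : b = 0 ∨ a = 0 := by
      by_contra! hne
      grind
    rcases hab with hb | ha
    · rw [hb, zero_smul, add_zero] at e
      rcases S.scalar_mem_pm hg e with ha | ha
      · exact h1 (Units.ext (e.trans (by rw [ha, one_smul, Units.val_one])))
      · exact hm (e.trans (by rw [ha, neg_smul, one_smul]))
    · rw [ha, zero_smul, zero_add] at e
      have hb : ((g * z⁻¹ : GL (Fin 2) F) : Matrix (Fin 2) (Fin 2) F) = b • 1 := by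
        rw [Units.val_mul, e, smul_mul_assoc, Units.mul_inv]
      rcases S.scalar_mem_pm (mul_mem hg (inv_mem A.z_mem)) hb with hb' | hb' <;>
        rw [ha, hb'] at e00 <;> grind
  refine ⟨hanti, ?_⟩
  rw [A.anti_sq hanti] at hval
  have e00 := congrFun (congrFun hval 0) 0
  simp at e00
  linear_combination -e00

omit S

open Classical in
/-- The sign character. -/
noncomputable def epsM : Gpl κ M →* F where
  toFun g := if (g.1 : Matrix (Fin 2) (Fin 2) F) * z = (z : Matrix (Fin 2) (Fin 2) F) * g.1 then 1 else -1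
  map_one' := by rw [if_pos (by rw [Subgroup.coe_one, Units.val_one, one_mul, mul_one])]
  map_mul' := fun g h => by
    have spec : ∀ x : Gpl κ M,
        (x.1 : Matrix (Fin 2) (Fin 2) F) * z =
          (if (x.1 : Matrix (Fin 2) (Fin 2) F) * z = (z : Matrix (Fin 2) (Fin 2) F) * x.1 then (1 : F) else -1) •
            ((z : Matrix (Fin 2) (Fin 2) F) * x.1) := fun x => by
      split_ifs with hx
      · rw [one_smul]; exact hx
      · rw [neg_smul, one_smul]; exact (A.sign x.1 x.2).resolve_left hx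
    have hgh := A.comm_mul (spec g) (spec h)
    rw [← Subgroup.coe_mul] at hgh
    have hgh' := spec (g * h)
    have key : ∀ a b : F, a • ((z : Matrix (Fin 2) (Fin 2) F) * (g * h : Gpl κ M).1) =
        b • ((z : Matrix (Fin 2) (Fin 2) F) * (g * h : Gpl κ M).1) → a = b := by
      intro a b hab
      rw [← sub_eq_zero, ← sub_smul, smul_eq_zero] at hab
      refine sub_eq_zero.1 (hab.resolve_right ?_)
      rw [← Units.val_mul]
      exact Units.ne_zero _
    exact (key _ _ (hgh.symm.trans hgh')).symm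

/-- The sign character, to units. -/
noncomputable def eps : Gpl κ M →* Fˣ := A.epsM.toHomUnits

/-- The twisted determinant. -/
noncomputable def chi : Gpl κ M →* Fˣ :=
  A.eps * GeneralLinearGroup.det.comp (Gpl κ M).subtype

lemma eps_comm {g : Gpl κ M} (h : (g.1 : Matrix (Fin 2) (Fin 2) F) * z = (z : Matrix (Fin 2) (Fin 2) F) * g.1) :
    (A.eps g : F) = 1 := if_pos h

lemma eps_anti {g : Gpl κ M} (h : (g.1 : Matrix (Fin 2) (Fin 2) F) * z = -((z : Matrix (Fin 2) (Fin 2) F) * g.1)) :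
    (A.eps g : F) = -1 := if_neg fun h' => A.not_both h' h

lemma chi_val (g : Gpl κ M) : (A.chi g : F) = A.eps g * (g.1 : Matrix (Fin 2) (Fin 2) F).det := rfl

lemma eps_sq (g : Gpl κ M) : A.eps g ^ 2 = 1 := Units.ext <| by
  rw [Units.val_pow_eq_pow_val, Units.val_one]
  rcases A.sign g.1 g.2 with h | h
  · rw [A.eps_comm h, one_pow]
  · rw [A.eps_anti h, neg_one_sq]

include S

lemma chi_sq (g : Gpl κ M) : A.chi g ^ 2 = 1 := Units.ext <| by
  rw [Units.val_pow_eq_pow_val, Units.val_one, A.chi_val, mul_pow]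
  have h := congrArg Units.val (A.eps_sq g)
  rw [Units.val_pow_eq_pow_val, Units.val_one] at h
  rcases A.det_pm S g.2 with hd | hd <;> rw [h, hd] <;> ring

/-- The twisted determinant is trivial on elements of order two. -/
lemma chi_invol {g : Gpl κ M} (h2 : g * g = 1) : A.chi g = 1 := by
  refine Units.ext ?_
  rw [A.chi_val, Units.val_one]
  by_cases h1 : g = 1
  · subst h1; simp
  by_cases hm : (g.1 : Matrix (Fin 2) (Fin 2) F) = -1
  · rw [A.eps_comm (by rw [hm, neg_mul, one_mul, mul_neg, mul_one]), hm, det_neg, det_one,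
      Fintype.card_fin]
    ring
  obtain ⟨h, hd⟩ := A.invol S g.2 (congrArg Subtype.val h2) (fun h => h1 (Subtype.ext h)) hm
  rw [A.eps_anti h, hd]; ring

end IsAx

variable (κ M)

/-- Elements of the overgroup centralising `t` modulo scalars, on the plane. -/
noncomputable def rG : (M.map qm ⊓ Cb κ : Subgroup (Q3 F)) →* Gpl κ M :=
  ((rhob κ).comp (Subgroup.inclusion inf_le_right)).codRestrict _ fun y => rhob_mem y.2.1

variable {κ M}

/-- An involution commuting with the axis is `t`. -/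
lemma IsAx.eq_tb {z q : GL (Fin 2) F} (A : IsAx κ M z q) (S : Core κ M P)
    (y : (M.map qm ⊓ Cb κ : Subgroup (Q3 F))) (h2 : y * y = 1) (h1 : y ≠ 1)
    (hc : A.eps (rG κ M y) = 1) : (y : Q3 F) = tb κ := by
  by_contra hne
  set g := rG κ M y
  have hg1 : (g : GL (Fin 2) F) ≠ 1 := fun h => h1 (Subtype.ext (congrArg Subtype.val
    (rhob_eq_one κ (y := ⟨y, y.2.2⟩) h) : (y : Q3 F) = 1))
  have hgm : ((g : GL (Fin 2) F) : Matrix (Fin 2) (Fin 2) F) ≠ -1 := fun h => hne (congrArg Subtype.val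
    (rhob_inj κ (a₁ := ⟨y, y.2.2⟩) (a₂ := ⟨tb κ, tb_mem_Cb κ⟩) (Units.ext (h.trans (rhob_tb κ).symm))))
  obtain ⟨h, -⟩ := A.invol S g.2 (by
    rw [← Subgroup.coe_mul, ← map_mul, h2, map_one, Subgroup.coe_one]) hg1 hgm
  have := A.eps_anti h
  rw [hc, Units.val_one] at this
  exact κ.two (by linear_combination this)

/-- Transfer: a character of the plane image with values of order two that is invariant on the
fused involutions is trivial on the core. -/
theorem Core.kill (S : Core κ M P) {z q : GL (Fin 2) F} (A : IsAx κ M z q) (ψ : Gpl κ M →* Fˣ)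
    (hψ : ∀ g, ψ g ^ 2 = 1)
    (hinv : ∀ a b : (M.map qm ⊓ Cb κ : Subgroup (Q3 F)), a * a = 1 → (a : Q3 F) ∈ P.map qm →
      (∃ g ∈ P.map qm, g * (a : Q3 F) * g⁻¹ = b) → ψ (rG κ M b) = ψ (rG κ M a))
    (x : (M.map qm ⊓ Cb κ : Subgroup (Q3 F))) (hx : (x : Q3 F) ∈ P.map qm) :
    ψ (rG κ M x) = 1 := by
  classical
  haveI : Fact (Nat.Prime 2) := ⟨Nat.prime_two⟩
  obtain ⟨hs, hc⟩ := S.Xb_simple
  haveI := hs
  set X := P.map (qm (F := F)) with hX
  obtain ⟨T⟩ : Nonempty (Sylow 2 X) := inferInstance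
  obtain ⟨g, hg, hgT⟩ := S.exists_conj (U := (T : Subgroup X).map X.subtype)
    ((Subgroup.map_subtype_le _).trans S.Xb_le) (T.2.map _)
  let c : X →* X :=
    { toFun := fun u => ⟨g * u * g⁻¹, S.Xb_normal hg u.2⟩
      map_one' := Subtype.ext (by simp)
      map_mul' := fun u v => Subtype.ext (by
        show g * (u * v : Q3 F) * g⁻¹ = (g * u * g⁻¹) * (g * v * g⁻¹); group) }
  have hcs : Function.Surjective c := fun u => ⟨⟨g⁻¹ * u * g, by
      have := S.Xb_normal (inv_mem hg) u.2; rwa [inv_inv] at this⟩, Subtype.ext (by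
      show g * (g⁻¹ * u * g) * g⁻¹ = (u : Q3 F); group)⟩
  set T' := T.mapSurjective hcs
  have hT' : ∀ u ∈ (T' : Subgroup X), (u : Q3 F) ∈ M.map qm ⊓ Cb κ := by
    intro u hu
    rw [Sylow.coe_mapSurjective] at hu
    obtain ⟨w, hw, rfl⟩ := hu
    exact ⟨S.Xb_le (c w).2, hgT _ ⟨w, hw, rfl⟩⟩
  let ι : (T' : Subgroup X) →* (M.map qm ⊓ Cb κ : Subgroup (Q3 F)) :=
    (X.subtype.comp (T' : Subgroup X).subtype).codRestrict _ fun u => hT' _ u.2
  let χ : (T' : Subgroup X) →* Fˣ := ψ.comp ((rG κ M).comp ι)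
  have hcomm : commutator X = ⊤ := by
    refine (Subgroup.Normal.eq_bot_or_eq_top (inferInstance : (commutator X).Normal)).resolve_left fun h => hc ?_
    haveI : IsMulCommutative X := ⟨⟨fun a b => by
      have h' := Subgroup.commutator_mem_commutator (Subgroup.mem_top a) (Subgroup.mem_top b)
      rw [← commutator_def, h, Subgroup.mem_bot] at h'
      exact commutatorElement_eq_one_iff_mul_comm.1 h'⟩⟩
    letI : CommGroup X := { (inferInstance : Group X) with mul_comm := fun a b => mul_comm' a b }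
    exact IsSimpleGroup.isCyclic
  have hker := Transfer.commutator_le_ker_of_invariant (p := 2) T' χ (fun u w hu hwu => by
    show ψ (rG κ M (ι ⟨w * u * w⁻¹, hwu⟩)) = ψ (rG κ M (ι ⟨u, hu⟩))
    set a := ι ⟨u, hu⟩
    set b := ι ⟨w * u * w⁻¹, hwu⟩
    have hb : (b : Q3 F) = (w : Q3 F) * a * (w : Q3 F)⁻¹ := rfl
    by_cases h2 : a * a = 1
    · exact hinv a b h2 u.2 ⟨w, w.2, hb.symm⟩
    obtain ⟨k, hk⟩ : ∃ k, orderOf a = 2 ^ (k + 2) := by
      obtain ⟨n, hn⟩ := T'.2 ⟨u, hu⟩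
      have hna : a ^ (2 ^ n) = 1 := by rw [← map_pow, hn, map_one]
      obtain ⟨m, -, hm⟩ := (Nat.dvd_prime_pow Nat.prime_two).1 (orderOf_dvd_of_pow_eq_one hna)
      rcases m with _ | _ | m
      · rw [pow_zero, orderOf_eq_one_iff] at hm; exact (h2 (by rw [hm, mul_one])).elim
      · exact (h2 (by rw [← pow_two, ← orderOf_dvd_iff_pow_eq_one, hm]; rfl)).elim
      · exact ⟨m, hm⟩
    have hsq : ∀ v : (M.map qm ⊓ Cb κ : Subgroup (Q3 F)), orderOf v = 2 ^ (k + 2) →
        ((v ^ (2 ^ (k + 1)) : (M.map qm ⊓ Cb κ : Subgroup (Q3 F))) : Q3 F) = tb κ := by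
      intro v hv
      refine A.eq_tb S _ ?_ ?_ ?_
      · rw [← pow_add, ← two_mul, ← pow_succ', ← hv, pow_orderOf_eq_one]
      · intro h
        have := Nat.le_of_dvd (by positivity) (hv ▸ orderOf_dvd_of_pow_eq_one h)
        exact absurd this (not_le.2 (Nat.pow_lt_pow_right (by norm_num) (by omega)))
      · rw [pow_succ, pow_mul, map_pow, map_pow, A.eps_sq]
    have ha := hsq a hk
    have hb' := hsq b (by
      rw [← Subgroup.orderOf_coe, hb, ← MulAut.conj_apply, MulEquiv.orderOf_eq, Subgroup.orderOf_coe, hk])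
    rw [SubmonoidClass.coe_pow] at ha hb'
    rw [hb, conj_pow, ha] at hb'
    have hwC : (w : Q3 F) ∈ Cb κ :=
      Subgroup.mem_centralizer_singleton_iff.2 (mul_inv_eq_iff_eq_mul.1 hb')
    have hbe : b = ⟨w, S.Xb_le w.2, hwC⟩ * a * ⟨w, S.Xb_le w.2, hwC⟩⁻¹ := Subtype.ext hb
    rw [hbe, map_mul, map_mul, map_inv, map_mul, map_mul, map_inv, mul_inv_cancel_comm])
  rw [hcomm, Subgroup.top_subgroupOf] at hker
  -- all of the centraliser in the core
  set H := (Cb κ).subgroupOf X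
  let Ψ : H →* Fˣ := ψ.comp ((rG κ M).comp ((X.subtype.comp H.subtype).codRestrict _ fun u =>
    ⟨S.Xb_le u.1.2, Subgroup.mem_subgroupOf.1 u.2⟩))
  have hTH : (T' : Subgroup X) ≤ H := fun u hu => Subgroup.mem_subgroupOf.2 (hT' u hu).2
  have hTk : (T' : Subgroup X).subgroupOf H ≤ Ψ.ker := fun u hu => by
    have := hker (Subgroup.mem_top (⟨u.1, hu⟩ : (T' : Subgroup X)))
    exact this
  set u : H := ⟨⟨x, hx⟩, Subgroup.mem_subgroupOf.2 x.2.2⟩
  have hu : Ψ u = ψ (rG κ M x) := rfl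
  rw [← hu]
  by_contra hne
  have h2 : 2 ∣ Nat.card Ψ.range := by
    have : orderOf (Ψ u) = 2 := orderOf_eq_prime (hψ _) hne
    rw [← this, show orderOf (Ψ u) = orderOf (Ψ.rangeRestrict u) from
      (Subgroup.orderOf_coe (Ψ.rangeRestrict u))]
    exact orderOf_dvd_natCard _
  rw [← Subgroup.index_ker] at h2
  have h3 : Ψ.ker.index ∣ ((T' : Subgroup X).subgroupOf H).index := Subgroup.index_dvd_of_le hTk
  refine T'.not_dvd_index ((h2.trans h3).trans ?_)
  exact Dvd.intro _ (Subgroup.relIndex_mul_index hTH)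

end Cfsg.Agent.SL3Max.C6
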