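/-
The centraliser of `t` in the core satisfies the hypotheses of Brauer, Suzuki and Wall.
Main results: `Core.inv_conj_tb`, `Core.bsw`.
-/
import Cfsg.Agent.Lib.SL3Max.C6.Axis
import Cfsg.Agent.Lib.BSW.Basic

set_option autoImplicit false
set_option linter.unusedSectionVars false

namespace Cfsg.Agent.SL3Max.C6

open Matrix

variable {F : Type*} [Field F] [Fintype F] {κ : Ctx F} {M P : Subgroup (GL (Fin 3) F)}

/-- The part of the overgroup centralising `t` modulo scalars. -/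
abbrev DD (κ : Ctx F) (M : Subgroup (GL (Fin 3) F)) : Subgroup (Q3 F) := M.map qm ⊓ Cb κ

lemma rG_inj : Function.Injective (rG κ M) := fun a b h => by
  have h' := rhob_inj κ (a₁ := ⟨a, a.2.2⟩) (a₂ := ⟨b, b.2.2⟩) (congrArg Subtype.val h)
  exact Subtype.ext (Subtype.mk.inj h')

lemma rG_surj (g : Gpl κ M) : ∃ y, rG κ M y = g := by
  obtain ⟨y, hy, he⟩ := mem_Gpl g.2
  exact ⟨⟨y, hy, y.2⟩, Subtype.ext he⟩

lemma rG_tb (h : tb κ ∈ DD κ M) :
    ((rG κ M ⟨tb κ, h⟩ : GL (Fin 2) F) : Matrix (Fin 2) (Fin 2) F) = -1 := rhob_tb κ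

lemma Core.tb_D (S : Core κ M P) : tb κ ∈ DD κ M := ⟨S.Xb_le S.tb_mem_Xb, tb_mem_Cb κ⟩

lemma tb_ne : tb κ ≠ 1 := by
  intro h
  have h' : (⟨tb κ, tb_mem_Cb κ⟩ : Cb κ) = 1 := Subtype.ext h
  have h2 := rhob_tb κ
  rw [h', map_one, Units.val_one] at h2
  have h00 := congrFun (congrFun h2 0) 0
  simp at h00
  exact κ.two (by linear_combination h00)

variable {z q : GL (Fin 2) F}

lemma Core.chi_core (S : Core κ M P) (A : IsAx κ M z q) (x : DD κ M) (hx : (x : Q3 F) ∈ P.map qm) :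
    A.chi (rG κ M x) = 1 := by
  refine S.kill A A.chi (A.chi_sq S) (fun a b ha _ h => ?_) x hx
  obtain ⟨g, -, hg⟩ := h
  have hb : b * b = 1 := Subtype.ext (by
    show (b : Q3 F) * b = 1
    have ha' : (a : Q3 F) * a = 1 := congrArg Subtype.val ha
    rw [← hg, show g * (a : Q3 F) * g⁻¹ * (g * a * g⁻¹) = g * (a * a) * g⁻¹ by group, ha']
    group)
  rw [A.chi_invol S (by rw [← map_mul, hb, map_one]), A.chi_invol S (by rw [← map_mul, ha, map_one])]

lemma Core.det_core (S : Core κ M P) (A : IsAx κ M z q) (x : DD κ M) (hx : (x : Q3 F) ∈ P.map qm) :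
    (A.eps (rG κ M x) : F) * ((rG κ M x : GL (Fin 2) F) : Matrix (Fin 2) (Fin 2) F).det = 1 := by
  rw [← A.chi_val, S.chi_core A x hx, Units.val_one]

/-- The involutions other than `t` in the centraliser. -/
lemma Core.refl_props (S : Core κ M P) (A : IsAx κ M z q) (w : DD κ M) (h2 : w * w = 1) (h1 : w ≠ 1)
    (ht : (w : Q3 F) ≠ tb κ) :
    (A.eps (rG κ M w) : F) = -1 ∧ ((rG κ M w : GL (Fin 2) F) : Matrix (Fin 2) (Fin 2) F).det = -1 := by
  have hm : ((rG κ M w : GL (Fin 2) F) : Matrix (Fin 2) (Fin 2) F) ≠ -1 := fun h => ht (by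
    have h' : w = ⟨tb κ, S.tb_D⟩ := rG_inj (Subtype.ext (Units.ext (h.trans (rG_tb S.tb_D).symm)))
    exact congrArg Subtype.val h')
  obtain ⟨ha, hd⟩ := A.invol S (rG κ M w).2 (by
    rw [← Subgroup.coe_mul, ← map_mul, h2, map_one, Subgroup.coe_one])
    (fun h => h1 (rG_inj (Subtype.ext (by rw [h, map_one, Subgroup.coe_one])))) hm
  exact ⟨A.eps_anti ha, hd⟩

lemma IsAx.eps_eq_one_iff (A : IsAx κ M z q) (g : Gpl κ M) :
    A.eps g = 1 ↔ (g.1 : Matrix (Fin 2) (Fin 2) F) * z = (z : Matrix (Fin 2) (Fin 2) F) * g.1 := by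
  refine ⟨fun h => (A.sign g.1 g.2).resolve_right fun h' => ?_, fun h => Units.ext (A.eps_comm h)⟩
  have := A.eps_anti h'
  rw [h, Units.val_one] at this
  exact κ.two (by linear_combination this)

/-- An element on the axis commuting with a reflection is `1` or `t`. -/
lemma Core.fix_axis (S : Core κ M P) (A : IsAx κ M z q) (w y : DD κ M)
    (hw : (A.eps (rG κ M w) : F) = -1) (hy : A.eps (rG κ M y) = 1) (hc : y * w = w * y) :
    y = 1 ∨ (y : Q3 F) = tb κ := by
  set W := (rG κ M w : GL (Fin 2) F)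
  set Y := (rG κ M y : GL (Fin 2) F)
  have hYW : (Y : Matrix (Fin 2) (Fin 2) F) * W = (W : Matrix (Fin 2) (Fin 2) F) * Y := by
    rw [← Units.val_mul, ← Units.val_mul, ← Subgroup.coe_mul, ← map_mul, hc, map_mul, Subgroup.coe_mul]
  have hWz : (W : Matrix (Fin 2) (Fin 2) F) * z = -((z : Matrix (Fin 2) (Fin 2) F) * W) :=
    (A.sign W (rG κ M w).2).resolve_left fun h => by
      have := A.eps_comm (g := rG κ M w) h
      rw [hw] at this
      exact κ.two (by linear_combination -this)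
  obtain ⟨a, b, e⟩ := A.comm_form ((A.eps_eq_one_iff _).1 hy)
  change (Y : Matrix (Fin 2) (Fin 2) F) = _ at e
  have hb : b = 0 := by
    rw [e] at hYW
    simp only [add_mul, mul_add, smul_mul_assoc, mul_smul_comm, one_mul, mul_one, hWz, smul_neg] at hYW
    have hz : (b + b) • ((z : Matrix (Fin 2) (Fin 2) F) * W) = 0 := by
      rw [add_smul]
      linear_combination (norm := module) hYW
    rcases smul_eq_zero.1 hz with h | h
    · have := κ.two; grind
    · rw [← Units.val_mul] at h; exact absurd h (Units.ne_zero _)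
  rw [hb, zero_smul, add_zero] at e
  rcases S.scalar_mem_pm (rG κ M y).2 e with h | h
  · exact Or.inl (rG_inj (Subtype.ext (Units.ext (by
      rw [map_one, Subgroup.coe_one, Units.val_one]
      exact e.trans (by rw [h, one_smul])))))
  · refine Or.inr ?_
    have h' : y = ⟨tb κ, S.tb_D⟩ := rG_inj (Subtype.ext (Units.ext
      ((e.trans (by rw [h, neg_smul, one_smul])).trans (rG_tb S.tb_D).symm)))
    exact congrArg Subtype.val h'

/-- Two reflections of the centraliser are conjugate by an element on the axis. -/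
theorem Core.refl_conj (S : Core κ M P) (A : IsAx κ M z q) (v w : DD κ M) (hv2 : v * v = 1)
    (hv1 : v ≠ 1) (hvt : (v : Q3 F) ≠ tb κ) (hw2 : w * w = 1) (hw1 : w ≠ 1)
    (hwt : (w : Q3 F) ≠ tb κ) : ∃ y : DD κ M, A.eps (rG κ M y) = 1 ∧ y * v * y⁻¹ = w := by
  classical
  obtain ⟨hve, hvd⟩ := S.refl_props A v hv2 hv1 hvt
  obtain ⟨hwe, hwd⟩ := S.refl_props A w hw2 hw1 hwt
  set V := rG κ M v
  set Cz : Subgroup (Gpl κ M) := A.eps.ker
  set dt : Gpl κ M →* Fˣ := GeneralLinearGroup.det.comp (Gpl κ M).subtype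
  have hdt : ∀ g, (dt g : F) = (g.1 : Matrix (Fin 2) (Fin 2) F).det := fun g => rfl
  have hcomm : ∀ a ∈ Cz, ∀ b ∈ Cz, a * b = b * a := fun a ha b hb => Subtype.ext
    (A.comm_comm ((A.eps_eq_one_iff a).1 ha) ((A.eps_eq_one_iff b).1 hb))
  have hnorm : ∀ a ∈ Cz, V * a * V⁻¹ ∈ Cz := fun a ha => by
    rw [MonoidHom.mem_ker] at ha ⊢
    rw [map_mul, map_mul, map_inv, ha, mul_one, mul_inv_cancel]
  let f : Cz →* Gpl κ M :=
    { toFun := fun y => y.1 * V * y.1⁻¹ * V⁻¹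
      map_one' := by simp
      map_mul' := fun a b => by
        have h1 : V * b.1⁻¹ * V⁻¹ ∈ Cz := hnorm _ (inv_mem b.2)
        show (a.1 * b.1) * V * (a.1 * b.1)⁻¹ * V⁻¹ = _
        calc a.1 * b.1 * V * (a.1 * b.1)⁻¹ * V⁻¹
            = a.1 * (b.1 * (V * b.1⁻¹ * V⁻¹)) * (V * a.1⁻¹ * V⁻¹) := by group
          _ = a.1 * ((V * a.1⁻¹ * V⁻¹) * (b.1 * (V * b.1⁻¹ * V⁻¹))) := by
            rw [mul_assoc a.1, hcomm _ (mul_mem b.2 h1) _ (hnorm _ (inv_mem a.2))]
          _ = _ := by group }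
  set T : Gpl κ M := rG κ M ⟨tb κ, S.tb_D⟩
  have hker : Nat.card f.ker ≤ 2 := by
    have h : ∀ y : f.ker, (y : Cz).1 = 1 ∨ (y : Cz).1 = T := by
      rintro ⟨⟨y, hy⟩, hk⟩
      have hk' : y * V * y⁻¹ * V⁻¹ = 1 := MonoidHom.mem_ker.1 hk
      obtain ⟨u, rfl⟩ := rG_surj y
      have hc : u * v = v * u := rG_inj (by
        rw [map_mul, map_mul]
        calc rG κ M u * V = (rG κ M u * V * (rG κ M u)⁻¹ * V⁻¹) * (V * rG κ M u) := by group
          _ = V * rG κ M u := by rw [hk', one_mul])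
      rcases S.fix_axis A v u hve hy hc with h | h
      · left; show rG κ M u = 1; rw [h, map_one]
      · right; show rG κ M u = T; rw [show u = ⟨tb κ, S.tb_D⟩ from Subtype.ext h]
    let g : f.ker → Bool := fun y => decide ((y : Cz).1 = 1)
    have hg : Function.Injective g := by
      intro a b hab
      refine Subtype.ext (Subtype.ext ?_)
      simp only [g, decide_eq_decide] at hab
      rcases h a with ha | ha
      · rw [ha, hab.1 ha]
      · rcases h b with hb | hb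
        · rw [hb, hab.2 hb]
        · rw [ha, hb]
    simpa using Nat.card_le_card_of_injective g hg
  set C1 : Subgroup (Gpl κ M) := Cz ⊓ dt.ker
  have hrange : f.range ≤ C1 := by
    rintro _ ⟨y, rfl⟩
    refine ⟨MonoidHom.mem_ker.2 ?_, MonoidHom.mem_ker.2 ?_⟩ <;>
      show (_ : Gpl κ M →* Fˣ) (y.1 * V * y.1⁻¹ * V⁻¹) = 1 <;>
      rw [map_mul, map_mul, map_mul, map_inv, map_inv, mul_inv_cancel_comm, mul_inv_cancel]
  -- an element of determinant `-1` on the axis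
  set c : Gpl κ M := V * ⟨q, A.q_mem⟩ with hc
  have hcC : c ∈ Cz := by
    rw [MonoidHom.mem_ker]
    refine Units.ext ?_
    rw [hc, map_mul, Units.val_mul, hve, A.eps_anti (g := ⟨q, A.q_mem⟩) A.q_anti, Units.val_one]
    ring
  have hcd : (dt c : F) = -1 := by
    rw [hdt, hc, Subgroup.coe_mul, Units.val_mul, det_mul, hvd, A.q_det, mul_one]
  have hidx : (dt.comp Cz.subtype).ker.index = Nat.card (dt.comp Cz.subtype).range := Subgroup.index_ker _
  have h2 : 2 ≤ Nat.card (dt.comp Cz.subtype).range := by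
    haveI : Nontrivial (dt.comp Cz.subtype).range := ⟨⟨⟨dt c, ⟨c, hcC⟩, rfl⟩, 1, fun h => by
      have h' : (dt c : F) = 1 := congrArg (fun u : (dt.comp Cz.subtype).range => ((u : Fˣ) : F)) h
      rw [hcd] at h'
      exact κ.two (by linear_combination -h')⟩⟩
    exact Finite.one_lt_card
  have hk : Nat.card (dt.comp Cz.subtype).ker = Nat.card C1 := by
    have : (dt.comp Cz.subtype).ker = C1.subgroupOf Cz := by
      ext y; simp [C1, Subgroup.mem_subgroupOf]
    rw [this, Nat.card_congr (Subgroup.subgroupOfEquivOfLe (inf_le_left : C1 ≤ Cz)).toEquiv]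
  have e1 := (dt.comp Cz.subtype).ker.card_mul_index
  have e2 := f.ker.card_mul_index
  rw [hidx, hk] at e1
  rw [Subgroup.index_ker] at e2
  have hle : Nat.card C1 ≤ Nat.card f.range := by nlinarith
  have heq : f.range = C1 := Subgroup.eq_of_le_of_card_ge hrange hle
  have hW : rG κ M w * V⁻¹ ∈ C1 := by
    refine ⟨MonoidHom.mem_ker.2 ?_, MonoidHom.mem_ker.2 ?_⟩ <;> refine Units.ext ?_
    · rw [map_mul, map_inv, Units.val_mul, Units.val_inv_eq_inv_val, hwe, hve, Units.val_one]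
      norm_num
    · rw [map_mul, map_inv, Units.val_mul, Units.val_inv_eq_inv_val, hdt, hdt, hwd, hvd, Units.val_one]
      norm_num
  rw [← heq] at hW
  obtain ⟨⟨y, hy⟩, hfy⟩ := hW
  obtain ⟨u, rfl⟩ := rG_surj y
  refine ⟨u, hy, rG_inj ?_⟩
  rw [map_mul, map_mul, map_inv]
  exact mul_right_cancel hfy

lemma Core.exists_sylow (S : Core κ M P) :
    ∃ T : Sylow 2 (P.map (qm (F := F))), ∀ u ∈ (T : Subgroup (P.map (qm (F := F)))), (u : Q3 F) ∈ Cb κ := by
  haveI : Fact (Nat.Prime 2) := ⟨Nat.prime_two⟩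
  set X := P.map (qm (F := F))
  obtain ⟨T⟩ : Nonempty (Sylow 2 X) := inferInstance
  obtain ⟨g, hg, hgT⟩ := S.exists_conj (U := (T : Subgroup X).map X.subtype)
    ((Subgroup.map_subtype_le _).trans S.Xb_le) (T.2.map _)
  let c : X →* X :=
    { toFun := fun u => ⟨g * u * g⁻¹, S.Xb_normal hg u.2⟩
      map_one' := Subtype.ext (by simp)
      map_mul' := fun u v => Subtype.ext (by
        show g * (u * v : Q3 F) * g⁻¹ = (g * u * g⁻¹) * (g * v * g⁻¹); group) }
  have hcs : Function.Surjective c := fun u => ⟨⟨g⁻¹ * u * g, by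
      have := S.Xb_normal (inv_mem hg) u.2; rwa [inv_inv] at this⟩, Subtype.ext (by
      show g * (g⁻¹ * u * g) * g⁻¹ = (u : Q3 F); group)⟩
  refine ⟨T.mapSurjective hcs, fun u hu => ?_⟩
  rw [Sylow.coe_mapSurjective] at hu
  obtain ⟨w, hw, rfl⟩ := hu
  exact hgT _ ⟨w, hw, rfl⟩

/-- A reflection of the core is fused to `t` in the core. -/
theorem Core.refl_fused (S : Core κ M P) (A : IsAx κ M z q) {v : DD κ M} (hvX : (v : Q3 F) ∈ P.map qm)
    (hv2 : v * v = 1) (hv1 : v ≠ 1) (hvt : (v : Q3 F) ≠ tb κ) :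
    ∃ g ∈ P.map qm, g * tb κ * g⁻¹ = (v : Q3 F) := by
  by_contra! hno
  have hall : ∀ w : DD κ M, w * w = 1 → w ≠ 1 → (w : Q3 F) ≠ tb κ →
      ∀ g ∈ P.map qm, g * tb κ * g⁻¹ ≠ (w : Q3 F) := by
    intro w hw2 hw1 hwt g hg he
    obtain ⟨y, -, hy⟩ := S.refl_conj A w v hw2 hw1 hwt hv2 hv1 hvt
    refine hno ((y : Q3 F) * g * (y : Q3 F)⁻¹) (S.Xb_normal y.2.1 hg) ?_
    have hyt : (y : Q3 F) * tb κ = tb κ * y := Subgroup.mem_centralizer_singleton_iff.1 y.2.2
    have hyt' : (y : Q3 F)⁻¹ * tb κ * y = tb κ := by rw [mul_assoc, ← hyt, inv_mul_cancel_left]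
    calc (y : Q3 F) * g * (y : Q3 F)⁻¹ * tb κ * ((y : Q3 F) * g * (y : Q3 F)⁻¹)⁻¹
        = (y : Q3 F) * (g * ((y : Q3 F)⁻¹ * tb κ * y) * g⁻¹) * (y : Q3 F)⁻¹ := by group
      _ = (y : Q3 F) * w * (y : Q3 F)⁻¹ := by rw [hyt', he]
      _ = v := congrArg Subtype.val hy
  have key := S.kill A A.eps A.eps_sq (fun a b ha _ hab => ?_) v hvX
  · have h := (S.refl_props A v hv2 hv1 hvt).1
    rw [key, Units.val_one] at h
    exact κ.two (by linear_combination h)
  obtain ⟨g, hg, hab⟩ := hab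
  have ha' : (a : Q3 F) * a = 1 := congrArg Subtype.val ha
  have hb : b * b = 1 := Subtype.ext (by
    show (b : Q3 F) * b = 1
    rw [← hab, show g * (a : Q3 F) * g⁻¹ * (g * a * g⁻¹) = g * (a * a) * g⁻¹ by group, ha']
    group)
  by_cases ha1 : a = 1
  · subst ha1
    have hb1 : b = 1 := Subtype.ext (by rw [← hab, Subgroup.coe_one]; group)
    rw [hb1]
  have hb1 : b ≠ 1 := fun h => ha1 (Subtype.ext (by
    rw [h, Subgroup.coe_one] at hab
    calc (a : Q3 F) = g⁻¹ * (g * a * g⁻¹) * g := by group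
      _ = 1 := by rw [hab]; group))
  by_cases hat : (a : Q3 F) = tb κ <;> by_cases hbt : (b : Q3 F) = tb κ
  · rw [show a = b from Subtype.ext (hat.trans hbt.symm)]
  · rw [hat] at hab
    exact absurd hab (hall b hb hb1 hbt g hg)
  · rw [hbt] at hab
    refine absurd ?_ (hall a ha ha1 hat g⁻¹ (inv_mem hg))
    rw [← hab]; group
  · exact Units.ext ((S.refl_props A b hb hb1 hbt).1.trans (S.refl_props A a ha ha1 hat).1.symm)

/-- All involutions of the overgroup are conjugate to `t`. -/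
theorem Core.inv_conj_tb (S : Core κ M P) (A : IsAx κ M z q) {u : Q3 F} (hu : u ∈ M.map qm)
    (h2 : u * u = 1) (h1 : u ≠ 1) : ∃ g ∈ M.map qm, g * tb κ * g⁻¹ = u := by
  haveI : Fact (Nat.Prime 2) := ⟨Nat.prime_two⟩
  have hp : IsPGroup 2 (Subgroup.zpowers u) :=
    IsPGroup.of_card (n := 1) (by
      rw [Nat.card_zpowers, pow_one]
      exact orderOf_eq_prime (by rw [pow_two, h2]) h1)
  obtain ⟨g, hg, hgu⟩ := S.exists_conj ((Subgroup.zpowers_le).2 hu) hp
  set w : DD κ M := ⟨g * u * g⁻¹, Subgroup.mem_inf.2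
    ⟨mul_mem (mul_mem hg hu) (inv_mem hg), hgu u (Subgroup.mem_zpowers u)⟩⟩
  have hback : g⁻¹ * (g * u * g⁻¹) * g = u := by group
  by_cases hwt : (w : Q3 F) = tb κ
  · exact ⟨g⁻¹, inv_mem hg, by rw [inv_inv, ← hwt]; exact hback⟩
  have hw2 : w * w = 1 := Subtype.ext (by
    show g * u * g⁻¹ * (g * u * g⁻¹) = 1
    rw [show g * u * g⁻¹ * (g * u * g⁻¹) = g * (u * u) * g⁻¹ by group, h2]; group)
  have hw1 : w ≠ 1 := fun h => h1 (by
    have h' : g * u * g⁻¹ = 1 := congrArg Subtype.val h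
    rw [← hback, h']; group)
  obtain ⟨v, hvX, hvC, hv2, hv1, hvt⟩ := S.exists_v
  set v' : DD κ M := ⟨v, S.Xb_le hvX, hvC⟩
  have hv2' : v' * v' = 1 := Subtype.ext hv2
  have hv1' : v' ≠ 1 := fun h => hv1 (congrArg Subtype.val h)
  obtain ⟨h, hh, hht⟩ := S.refl_fused A (v := v') hvX hv2' hv1' hvt
  obtain ⟨y, -, hy⟩ := S.refl_conj A v' w hv2' hv1' hvt hw2 hw1 hwt
  refine ⟨g⁻¹ * y * h, mul_mem (mul_mem (inv_mem hg) y.2.1) (S.Xb_le hh), ?_⟩
  have hy' : (y : Q3 F) * v * (y : Q3 F)⁻¹ = g * u * g⁻¹ := congrArg Subtype.val hy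
  calc g⁻¹ * y * h * tb κ * (g⁻¹ * y * h)⁻¹ = g⁻¹ * (y * (h * tb κ * h⁻¹) * (y : Q3 F)⁻¹) * g := by group
    _ = u := by rw [hht]; show g⁻¹ * ((y : Q3 F) * v * (y : Q3 F)⁻¹) * g = u; rw [hy']; exact hback

/-- An element on the axis other than `1` has its centraliser inside that of `t`. -/
theorem Core.cent_axis (S : Core κ M P) (A : IsAx κ M z q) (hn : ∀ x : F, x ^ 3 ≠ κ.ω) (x : DD κ M)
    (hx : (x : Q3 F) ∈ P.map qm) (he : A.eps (rG κ M x) = 1) (h1 : x ≠ 1) {g : Q3 F}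
    (hg : g ∈ M.map qm) (hc : g * x = x * g) : g ∈ Cb κ := by
  by_cases hxt : (x : Q3 F) = tb κ
  · rw [Subgroup.mem_centralizer_singleton_iff, ← hxt]; exact hc
  obtain ⟨a, b, e⟩ := A.comm_form ((A.eps_eq_one_iff _).1 he)
  set Y := (rG κ M x : GL (Fin 2) F) with hY
  have hdet : (Y : Matrix (Fin 2) (Fin 2) F).det = 1 := by
    have := S.det_core A x hx
    rw [he, Units.val_one, one_mul] at this
    exact this
  have hb : b ≠ 0 := fun hb => by
    rw [hb, zero_smul, add_zero] at e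
    rcases S.scalar_mem_pm (rG κ M x).2 e with h | h
    · exact h1 (rG_inj (Subtype.ext (Units.ext (by
        rw [map_one, Subgroup.coe_one, Units.val_one]
        exact e.trans (by rw [h, one_smul])))))
    · have h' : x = ⟨tb κ, S.tb_D⟩ := rG_inj (Subtype.ext (Units.ext
        ((e.trans (by rw [h, neg_smul, one_smul])).trans (rG_tb S.tb_D).symm)))
      exact hxt (congrArg Subtype.val h')
  obtain ⟨l, hl, hlx⟩ := S.exists_lift x.2.1
  have hlC : l ∈ κ.Ct := mem_Ct_of_comm κ (by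
    rw [hlx]; exact Subgroup.mem_centralizer_singleton_iff.1 x.2.2)
  have hYl : Y = κ.rho ⟨l, hlC⟩ := by
    rw [hY, ← rhob_apply]
    exact congrArg (rhob κ) (Subtype.ext hlx.symm)
  obtain ⟨a1, a2, a3, a4⟩ := Ctx.Ct_shape hlC
  set s := l 1 1 - l 1 2 with hsdef
  set N : Matrix (Fin 2) (Fin 2) F := !![l 0 0, 2 * l 0 1; l 1 0, l 1 1 + l 1 2]
  have hYN : (Y : Matrix (Fin 2) (Fin 2) F) = s⁻¹ • N := by rw [hYl, κ.rho_val]
  have hdl : (l : Matrix (Fin 3) (Fin 3) F).det = s * N.det := by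
    rw [det_fin_three, det_fin_two, hsdef]
    simp [N, a1, a2, a3, a4]; ring
  rw [Transvect.mem_sl_iff.1 (S.le hl)] at hdl
  have hs0 : s ≠ 0 := fun h => by rw [h, zero_mul] at hdl; exact one_ne_zero hdl
  have hs3 : s ^ 3 = 1 := by
    rw [hYN, det_smul, Fintype.card_fin] at hdet
    field_simp at hdet
    linear_combination -s * hdet - hdl
  -- rescale
  obtain ⟨k, hk⟩ : ∃ k, s⁻¹ = κ.ω ^ k := by
    have h : (s⁻¹ - 1) * (s⁻¹ - κ.ω) * (s⁻¹ - κ.ω ^ 2) = 0 := by
      have h3 : s⁻¹ ^ 3 = 1 := by rw [inv_pow, hs3, inv_one]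
      have := κ.rel; have := κ.cube; grind
    rcases mul_eq_zero.1 h with h | h
    · rcases mul_eq_zero.1 h with h | h
      exacts [⟨0, by rw [pow_zero, sub_eq_zero.1 h]⟩, ⟨1, by rw [pow_one, sub_eq_zero.1 h]⟩]
    · exact ⟨2, sub_eq_zero.1 h⟩
  set l' := κ.el k 0 0 * l
  have hel : (κ.el k 0 0 : Matrix (Fin 3) (Fin 3) F) = s⁻¹ • 1 := by
    rw [Ctx.el, pow_zero, pow_zero, mul_one, mul_one, Units.val_pow_eq_pow_val, κ.Z_val, smul_pow,
      one_pow, hk]
  have hl'x : qm l' = (x : Q3 F) := by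
    rw [map_mul, hlx, qm_eq_one.2 (κ.el_mem_scalars_iff.2 ⟨rfl, rfl⟩), one_mul]
  have hL : (l' : Matrix (Fin 3) (Fin 3) F) = s⁻¹ • (l : Matrix (Fin 3) (Fin 3) F) := by
    rw [Units.val_mul, hel, smul_mul_assoc, one_mul]
  -- entries of the normalised lift
  have n00 : l' 0 0 = Y 0 0 := by rw [hL, hYN]; simp [N]
  have n01 : 2 * l' 0 1 = Y 0 1 := by rw [hL, hYN]; simp [N]; ring
  have n10 : l' 1 0 = Y 1 0 := by rw [hL, hYN]; simp [N]
  have n11 : l' 1 1 + l' 1 2 = Y 1 1 := by rw [hL, hYN]; simp [N]; ring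
  have n12 : l' 1 1 - l' 1 2 = 1 := by
    rw [hL]; simp; rw [← mul_sub, ← hsdef, inv_mul_cancel₀ hs0]
  have m02 : l' 0 2 = l' 0 1 := by rw [hL]; simp [a1]
  have m20 : l' 2 0 = l' 1 0 := by rw [hL]; simp [a2]
  have m22 : l' 2 2 = l' 1 1 := by rw [hL]; simp [a3]
  have m21 : l' 2 1 = l' 1 2 := by rw [hL]; simp [a4]
  have hz := A.ztr
  have hY11 : Y 0 0 + Y 1 1 = 2 * a := by
    rw [e]; simp [hz]; ring
  have hYd : Y 0 0 * Y 1 1 - Y 0 1 * Y 1 0 = 1 := by rw [← det_fin_two, hdet]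
  have h2 := κ.two
  have ha1 : a ≠ 1 := by
    intro ha
    rw [e, det_fin_two] at hdet
    simp [hz, ha] at hdet
    have hzd := A.z_det
    rw [det_fin_two, hz] at hzd
    refine hb ?_
    have : b * b = 0 := by linear_combination hdet - b * b * hzd
    exact mul_self_eq_zero.1 this
  obtain ⟨m, hm, rfl⟩ := S.exists_lift hg
  set sc := m * l' * m⁻¹ * l'⁻¹
  have hscal : sc ∈ Cfsg.Geo.scalars (Fin 3) F := by
    rw [← qm_eq_one, map_mul, map_mul, map_mul, map_inv, map_inv, hl'x, hc]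
    group
  by_cases hsc : sc = 1
  · have hml : m * l' = l' * m := by
      rw [mul_inv_eq_one, mul_inv_eq_iff_eq_mul] at hsc; exact hsc
    set L := (l' : Matrix (Fin 3) (Fin 3) F)
    have hid : (1 - a) • ((κ.t : Matrix (Fin 3) (Fin 3) F) + 1) = L * L - (2 * a) • L + 1 := by
      ext i j
      fin_cases i <;> fin_cases j <;>
        simp [Ctx.t, Matrix.mul_apply, Fin.sum_univ_three, L, m02, m20, m22, m21] <;> grind
    have hmt : (m : Matrix (Fin 3) (Fin 3) F) * κ.t = (κ.t : Matrix (Fin 3) (Fin 3) F) * m := by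
      have hmL : Commute (m : Matrix (Fin 3) (Fin 3) F) L := by
        show (m : Matrix (Fin 3) (Fin 3) F) * L = L * m
        rw [← Units.val_mul, hml, Units.val_mul]
      have h := ((hmL.mul_right hmL).sub_right (hmL.smul_right (2 * a))).add_right
        (Commute.one_right (m : Matrix (Fin 3) (Fin 3) F))
      rw [← hid] at h
      have h' := (h.smul_right (1 - a)⁻¹).eq
      rw [smul_smul, inv_mul_cancel₀ (sub_ne_zero.2 (Ne.symm ha1)), one_smul, mul_add, add_mul,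
        mul_one, one_mul] at h'
      exact add_right_cancel h'
    exact qm_mem_Cb κ (Subgroup.mem_centralizer_singleton_iff.2 (Units.ext hmt))
  exfalso
  obtain ⟨c, hcv⟩ := (Cfsg.Geo.mem_scalars_iff _).1 hscal
  have hc1 : (c : F) ≠ 1 := fun h => hsc (Units.ext (by rw [hcv, h, one_smul, Units.val_one]))
  have htr0 : (l' : Matrix (Fin 3) (Fin 3) F).trace = 0 := by
    have h1 : ((m * l' * m⁻¹ : GL (Fin 3) F) : Matrix (Fin 3) (Fin 3) F) = (c : F) • (l' : Matrix (Fin 3) (Fin 3) F) := by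
      rw [show m * l' * m⁻¹ = sc * l' by simp only [sc]; group, Units.val_mul, hcv, smul_mul_assoc,
        one_mul]
    have h2 := congrArg Matrix.trace h1
    rw [Units.val_mul, Units.val_mul, Matrix.trace_mul_cycle, Units.inv_mul, one_mul,
      Matrix.trace_smul, smul_eq_mul] at h2
    have h3 : ((c : F) - 1) * (l' : Matrix (Fin 3) (Fin 3) F).trace = 0 := by linear_combination -h2
    exact (mul_eq_zero.1 h3).resolve_left (sub_ne_zero.2 hc1)
  rw [trace_fin_three, m22] at htr0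
  have hY3 : Y ^ 3 = 1 := by
    refine Units.ext ?_
    rw [Units.val_pow_eq_pow_val, Units.val_one]
    have ht : Y 1 1 = -1 - Y 0 0 := by linear_combination htr0 - n00 - n11 - n12
    ext i j
    fin_cases i <;> fin_cases j <;>
      simp [pow_succ, Matrix.mul_apply, Fin.sum_univ_two, ht] <;> grind
  have hx3 : x ^ 3 = 1 := rG_inj (Subtype.ext (by
    rw [map_pow, Subgroup.coe_pow, map_one, Subgroup.coe_one]; exact hY3))
  exact h1 (Subtype.ext (S.no_three hn x.2.1 x.2.2 (congrArg Subtype.val hx3)))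

/-- The hypotheses of Brauer, Suzuki and Wall hold in the core. -/
theorem Core.bsw (S : Core κ M P) (A : IsAx κ M z q) (hn : ∀ x : F, x ^ 3 ≠ κ.ω) :
    ∃ (t s : P.map (qm (F := F))) (K : Subgroup (P.map (qm (F := F)))), BSW.Hyp t s K := by
  classical
  haveI : Fact (Nat.Prime 2) := ⟨Nat.prime_two⟩
  set X := P.map (qm (F := F)) with hX
  set H : Subgroup X := (Cb κ).subgroupOf X
  let ι : H →* DD κ M := (X.subtype.comp H.subtype).codRestrict _ fun u =>
    ⟨S.Xb_le u.1.2, Subgroup.mem_subgroupOf.1 u.2⟩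
  have hι : Function.Injective ι := fun a b h =>
    Subtype.ext (Subtype.ext (congrArg (fun y : DD κ M => (y : Q3 F)) h))
  let e : H →* Fˣ := A.eps.comp ((rG κ M).comp ι)
  set K : Subgroup X := e.ker.map H.subtype
  have hK : ∀ x : X, x ∈ K ↔ ∃ h : (x : Q3 F) ∈ Cb κ, e ⟨x, h⟩ = 1 := by
    intro x
    constructor
    · rintro ⟨u, hu, rfl⟩; exact ⟨u.2, hu⟩
    · rintro ⟨h, he⟩; exact ⟨⟨x, h⟩, he, rfl⟩
  obtain ⟨v, hvX, hvC, hv2, hv1, hvt⟩ := S.exists_v
  let t' : X := ⟨tb κ, S.tb_mem_Xb⟩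
  let v' : X := ⟨v, hvX⟩
  set vh : H := ⟨v', hvC⟩
  have hv2' : ι vh * ι vh = 1 := Subtype.ext hv2
  have hv1' : ι vh ≠ 1 := fun h => hv1 (congrArg Subtype.val h)
  obtain ⟨hve, -⟩ := S.refl_props A (ι vh) hv2' hv1' hvt
  have ht : orderOf t' = 2 := orderOf_eq_prime (Subtype.ext (by
    show (t' ^ 2 : X).1 = _
    rw [pow_two]; exact tb_sq κ)) (fun h => tb_ne (congrArg Subtype.val h))
  have hs : orderOf v' = 2 := orderOf_eq_prime (Subtype.ext (by
    show (v' ^ 2 : X).1 = _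
    rw [pow_two]; exact hv2)) (fun h => hv1 (congrArg Subtype.val h))
  have hcent : ∀ y : X, y ∈ Subgroup.centralizer ({t'} : Set X) ↔ (y : Q3 F) ∈ Cb κ := by
    intro y
    rw [Subgroup.mem_centralizer_singleton_iff, Subgroup.mem_centralizer_singleton_iff, Subtype.ext_iff]
    rfl
  have hve' : e vh ≠ 1 := fun h => by
    have : (A.eps (rG κ M (ι vh)) : F) = 1 := by
      rw [show A.eps (rG κ M (ι vh)) = 1 from h, Units.val_one]
    rw [hve] at this
    exact κ.two (by linear_combination -this)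
  have eneg : ∀ u : H, e u ≠ 1 → e u = e vh := by
    intro u hu
    refine Units.ext ?_
    show (A.eps (rG κ M (ι u)) : F) = A.eps (rG κ M (ι vh))
    rw [hve]
    rcases A.sign _ (rG κ M (ι u)).2 with h | h
    · exact absurd (Units.ext (A.eps_comm h)) hu
    · exact A.eps_anti h
  refine ⟨t', v', K, ?_⟩
  refine
    { ht := ht
      hs := hs
      comm := ?_
      le_cent := ?_
      t_mem := ?_
      s_mem := (hcent v').2 hvC
      s_not := ?_
      cent_le := ?_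
      fix := ?_
      inv := ?_
      ti := ?_
      all_conj := ?_ }
  · intro x hx y hy
    obtain ⟨hxC, hxe⟩ := (hK x).1 hx
    obtain ⟨hyC, hye⟩ := (hK y).1 hy
    have h := A.comm_comm ((A.eps_eq_one_iff _).1 hxe) ((A.eps_eq_one_iff _).1 hye)
    have h' : (⟨x, hxC⟩ : H) * ⟨y, hyC⟩ = ⟨y, hyC⟩ * ⟨x, hxC⟩ := hι (rG_inj (Subtype.ext (by
      rw [map_mul, map_mul, map_mul, map_mul, Subgroup.coe_mul, Subgroup.coe_mul]; exact h)))
    exact congrArg Subtype.val h'
  · intro x hx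
    exact (hcent x).2 ((hK x).1 hx).1
  · refine (hK t').2 ⟨tb_mem_Cb κ, Units.ext (A.eps_comm ?_)⟩
    rw [MonoidHom.comp_apply]
    have hval : ((rG κ M (ι ⟨t', tb_mem_Cb κ⟩) : GL (Fin 2) F) : Matrix (Fin 2) (Fin 2) F) = -1 :=
      rG_tb S.tb_D
    change ((rG κ M (ι ⟨t', tb_mem_Cb κ⟩) : GL (Fin 2) F) : Matrix (Fin 2) (Fin 2) F) * z =
      (z : Matrix (Fin 2) (Fin 2) F) * ((rG κ M (ι ⟨t', tb_mem_Cb κ⟩) : GL (Fin 2) F) : Matrix (Fin 2) (Fin 2) F)
    rw [hval, neg_mul, one_mul, mul_neg, mul_one]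
  · intro h
    obtain ⟨hc, he⟩ := (hK v').1 h
    exact hve' he
  · intro y hy
    have hyC := (hcent y).1 hy
    by_cases he : e ⟨y, hyC⟩ = 1
    · exact Subgroup.mem_sup_left ((hK y).2 ⟨hyC, he⟩)
    have hyv : y * v'⁻¹ ∈ K := (hK _).2 ⟨(hcent _).1 (mul_mem hy (inv_mem ((hcent v').2 hvC))), by
      have : e (⟨y, hyC⟩ * vh⁻¹) = 1 := by rw [map_mul, map_inv, eneg _ he, mul_inv_cancel]
      exact this⟩
    rw [show y = y * v'⁻¹ * v' by group]
    exact Subgroup.mul_mem _ (Subgroup.mem_sup_left hyv) (Subgroup.mem_sup_right (Subgroup.mem_zpowers _))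
  · intro x hx hvx
    obtain ⟨hxC, hxe⟩ := (hK x).1 hx
    rcases S.fix_axis A (ι vh) (ι ⟨x, hxC⟩) hve hxe (Subtype.ext (congrArg Subtype.val hvx).symm) with h | h
    · exact Or.inl (congrArg Subtype.val (hι (h.trans (map_one ι).symm)))
    · exact Or.inr (Subtype.ext h)
  · intro x hx
    obtain ⟨hxC, hxe⟩ := (hK x).1 hx
    have hd : A.chi (rG κ M (ι ⟨x, hxC⟩)) = 1 := S.chi_core A _ x.2
    -- `x v` is an involution
    set w := ι ⟨x, hxC⟩ * ι vh with hw
    have hwA : (A.eps (rG κ M w) : F) = -1 := by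
      rw [hw, map_mul, map_mul, Units.val_mul, hve, show A.eps (rG κ M (ι ⟨x, hxC⟩)) = 1 from hxe,
        Units.val_one, one_mul]
    have hwc : A.chi (rG κ M w) = 1 := S.chi_core A _ (mul_mem x.2 hvX)
    set W := (rG κ M w : GL (Fin 2) F)
    have hWz : (W : Matrix (Fin 2) (Fin 2) F) * z = -((z : Matrix (Fin 2) (Fin 2) F) * W) :=
      (A.sign W (rG κ M w).2).resolve_left fun h => by
        have := A.eps_comm (g := rG κ M w) h
        rw [hwA] at this
        exact κ.two (by linear_combination -this)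
    have hdW : (W : Matrix (Fin 2) (Fin 2) F).det = -1 := by
      have h := congrArg Units.val hwc
      rw [A.chi_val, hwA, Units.val_one] at h
      linear_combination -h
    have hW2 : w * w = 1 := rG_inj (Subtype.ext (Units.ext (by
      rw [map_mul, map_one, Subgroup.coe_mul, Subgroup.coe_one, Units.val_mul, Units.val_one]
      show (W : Matrix (Fin 2) (Fin 2) F) * W = 1
      rw [A.anti_sq hWz, hdW, neg_neg, one_smul])))
    have hwv : x * v' * (x * v') = 1 := Subtype.ext (congrArg (fun y : DD κ M => (y : Q3 F)) hW2)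
    have hvv : v' * v' = 1 := Subtype.ext hv2
    have hvinv : v'⁻¹ = v' := inv_eq_of_mul_eq_one_left hvv
    calc v' * x * v'⁻¹ = x⁻¹ * (x * v' * (x * v')) := by rw [hvinv]; group
      _ = x⁻¹ := by rw [hwv, mul_one]
  · intro g x hx hx1 hgx
    obtain ⟨hxC, hxe⟩ := (hK x).1 hx
    obtain ⟨hyC, hye⟩ := (hK _).1 hgx
    set u : Q3 F := (g : Q3 F) * tb κ * (g : Q3 F)⁻¹ with hu
    have huX : u ∈ X := S.Xb_normal (S.Xb_le g.2) S.tb_mem_Xb
    have hcx : u * (g * x * g⁻¹ : X) = (g * x * g⁻¹ : X) * u := by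
      have hxt : (x : Q3 F) * tb κ = tb κ * x := Subgroup.mem_centralizer_singleton_iff.1 hxC
      show u * ((g : Q3 F) * x * (g : Q3 F)⁻¹) = (g : Q3 F) * x * (g : Q3 F)⁻¹ * u
      calc u * ((g : Q3 F) * x * (g : Q3 F)⁻¹) = g * (tb κ * x) * (g : Q3 F)⁻¹ := by rw [hu]; group
        _ = _ := by rw [← hxt, hu]; group
    have hy1 : ι ⟨g * x * g⁻¹, hyC⟩ ≠ 1 := fun h => hx1 (by
      have h' : g * x * g⁻¹ = 1 := congrArg Subtype.val (hι (h.trans (map_one ι).symm))
      calc x = g⁻¹ * (g * x * g⁻¹) * g := by group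
        _ = 1 := by rw [h']; group)
    have huC := S.cent_axis A hn (ι ⟨g * x * g⁻¹, hyC⟩) (g * x * g⁻¹).2 hye hy1 (S.Xb_le huX) hcx
    refine (hcent g).2 ?_
    rw [Subgroup.mem_centralizer_singleton_iff]
    suffices h : u = tb κ from mul_inv_eq_iff_eq_mul.1 h
    by_contra hne
    have hu2 : u * u = 1 := by
      rw [hu, show (g : Q3 F) * tb κ * (g : Q3 F)⁻¹ * (g * tb κ * (g : Q3 F)⁻¹) =
        g * (tb κ * tb κ) * (g : Q3 F)⁻¹ by group, tb_sq]
      group
    have hu1 : u ≠ 1 := fun h => tb_ne (κ := κ) (by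
      calc tb κ = (g : Q3 F)⁻¹ * u * g := by rw [hu]; group
        _ = 1 := by rw [h]; group)
    set u' : DD κ M := ⟨u, S.Xb_le huX, huC⟩
    obtain ⟨hue, -⟩ := S.refl_props A u' (Subtype.ext hu2) (fun h => hu1 (congrArg Subtype.val h)) hne
    rcases S.fix_axis A u' (ι ⟨g * x * g⁻¹, hyC⟩) hue hye (Subtype.ext hcx.symm) with h | h
    · exact hy1 h
    have hxt : ι ⟨x, hxC⟩ * ι ⟨x, hxC⟩ = 1 := Subtype.ext (by
      have hh : (g : Q3 F) * x * (g : Q3 F)⁻¹ = tb κ := h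
      show (x : Q3 F) * x = 1
      calc (x : Q3 F) * x = (g : Q3 F)⁻¹ * ((g * x * (g : Q3 F)⁻¹) * (g * x * (g : Q3 F)⁻¹)) * g := by group
        _ = 1 := by rw [hh, tb_sq]; group)
    have hxtb : (x : Q3 F) = tb κ := A.eq_tb S (ι ⟨x, hxC⟩) hxt
      (fun hh => hx1 (congrArg Subtype.val (hι (hh.trans (map_one ι).symm)))) hxe
    refine hne ?_
    have hh : (g : Q3 F) * x * (g : Q3 F)⁻¹ = tb κ := h
    rw [hxtb] at hh
    rw [hu, hh]
  · have hto : ∀ x : X, orderOf x = 2 → IsConj t' x := by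
      intro x hx
      obtain ⟨T, hT⟩ := S.exists_sylow
      obtain ⟨T', hT'⟩ := (IsPGroup.of_card (n := 1) (by rw [Nat.card_zpowers, hx, pow_one]) :
        IsPGroup 2 (Subgroup.zpowers x)).exists_le_sylow
      obtain ⟨g, hg⟩ := MulAction.exists_smul_eq X T' T
      have hgC : ((g * x * g⁻¹ : X) : Q3 F) ∈ Cb κ := hT _ (by
        rw [← hg]; exact ⟨x, hT' (Subgroup.mem_zpowers x), rfl⟩)
      refine IsConj.trans ?_ (isConj_iff.2 ⟨g, rfl⟩ : IsConj x (g * x * g⁻¹)).symm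
      set w : DD κ M := ι ⟨g * x * g⁻¹, hgC⟩
      by_cases hwt : (w : Q3 F) = tb κ
      · rw [show t' = g * x * g⁻¹ from Subtype.ext hwt.symm]
      have hord : orderOf (g * x * g⁻¹) = 2 := by rw [← MulAut.conj_apply, MulEquiv.orderOf_eq, hx]
      have hsq : (g * x * g⁻¹) * (g * x * g⁻¹) = 1 := by
        rw [← pow_two, ← hord, pow_orderOf_eq_one]
      have hw2 : w * w = 1 := Subtype.ext (congrArg (fun y : X => (y : Q3 F)) hsq)
      have hw1 : w ≠ 1 := fun h => by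
        rw [show g * x * g⁻¹ = 1 from congrArg Subtype.val (hι (h.trans (map_one ι).symm)), orderOf_one] at hord
        norm_num at hord
      obtain ⟨k, hk, hkt⟩ := S.refl_fused A (v := w) (g * x * g⁻¹).2 hw2 hw1 hwt
      exact isConj_iff.2 ⟨⟨k, hk⟩, Subtype.ext hkt⟩
    exact fun x y hx hy => (hto x hx).symm.trans (hto y hy)

end Cfsg.Agent.SL3Max.C6
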