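/-
The core would be `PSL(2,9)`, and an element of order five excludes it.
Main results: `eq_one_of_conj_pow`, `Core.not_noncube`.
-/
import Cfsg.Agent.Lib.SL3Max.C6.Local
import Cfsg.Agent.S0508
import Cfsg.Agent.Lib.PSL2.Existence
import Cfsg.Agent.Lib.PSL2.Centralizers

set_option autoImplicit false
set_option linter.unusedSectionVars false

namespace Cfsg.Agent.SL3Max.C6

open Matrix

variable {F : Type*} [Field F] [Fintype F]

/-- An element of order five of `SL₃` is not conjugate to its square. -/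
lemma eq_one_of_conj_pow (h2 : (2 : F) ≠ 0) (h5 : (5 : F) ≠ 0) {f m : GL (Fin 3) F} (h : f ^ 5 = 1)
    (hd : (f : Matrix (Fin 3) (Fin 3) F).det = 1) {j : ℕ} (hj : j = 2 ∨ j = 3)
    (hm : m * f * m⁻¹ = f ^ j) : f = 1 := by
  set T := (f : Matrix (Fin 3) (Fin 3) F) with hT
  have htr : ∀ (k : GL (Fin 3) F) (x : GL (Fin 3) F),
      ((k * x * k⁻¹ : GL (Fin 3) F) : Matrix (Fin 3) (Fin 3) F).trace = (x : Matrix (Fin 3) (Fin 3) F).trace :=
    fun k x => by rw [Units.val_mul, Units.val_mul, Matrix.trace_mul_cycle, Units.inv_mul, one_mul]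
  have hstep : ∀ n : ℕ, ((f ^ (j * n) : GL (Fin 3) F) : Matrix (Fin 3) (Fin 3) F).trace =
      ((f ^ n : GL (Fin 3) F) : Matrix (Fin 3) (Fin 3) F).trace := fun n => by
    rw [← htr m (f ^ n), ← conj_pow, hm, ← pow_mul]
  have hmod : ∀ a b : ℕ, a % 5 = b % 5 → f ^ a = f ^ b := fun a b hab => by
    rw [← Nat.div_add_mod a 5, ← Nat.div_add_mod b 5, pow_add, pow_add, pow_mul, pow_mul, h, one_pow,
      one_pow, hab]
  obtain ⟨e2, e4⟩ : (T * T).trace = T.trace ∧ (T * T * (T * T)).trace = T.trace := by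
    have c2 : ((f ^ 2 : GL (Fin 3) F) : Matrix (Fin 3) (Fin 3) F) = T * T := by
      rw [Units.val_pow_eq_pow_val, pow_two]
    have c4 : ((f ^ 4 : GL (Fin 3) F) : Matrix (Fin 3) (Fin 3) F) = T * T * (T * T) := by
      rw [Units.val_pow_eq_pow_val, show (4 : ℕ) = 2 * 2 from rfl, pow_mul, pow_two, pow_two]
    rw [← c4, ← c2]
    rcases hj with rfl | rfl
    · have e2 := hstep 1; rw [mul_one, pow_one] at e2
      exact ⟨e2, (hstep 2).trans e2⟩
    · have e3 := hstep 1; rw [mul_one, pow_one] at e3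
      have e4 : ((f ^ 4 : GL (Fin 3) F) : Matrix (Fin 3) (Fin 3) F).trace = T.trace := by
        rw [hmod 4 (3 * 3) rfl]; exact (hstep 3).trans e3
      exact ⟨by rw [hmod 2 (3 * 4) rfl]; exact (hstep 4).trans e4, e4⟩
  set τ := T.trace
  set σ := (2 : F)⁻¹ * (τ * τ - (T * T).trace) with hσ
  have hi := inv_mul_cancel₀ h2
  have hch : T * T * T - τ • (T * T) + σ • T - (1 : Matrix (Fin 3) (Fin 3) F) = 0 := by
    have hd' := hd
    rw [det_fin_three] at hd'
    ext i j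
    fin_cases i <;> fin_cases j <;>
      simp [hσ, τ, trace_fin_three, Matrix.mul_apply, Fin.sum_univ_three] <;> grind
  -- `f⁻¹ = f⁴`
  have hinv : T * T * (T * T) * T = 1 := by
    rw [hT]
    have : ((f ^ 5 : GL (Fin 3) F) : Matrix (Fin 3) (Fin 3) F) = 1 := by rw [h, Units.val_one]
    rw [Units.val_pow_eq_pow_val] at this
    simpa [pow_succ, mul_assoc] using this
  have h4 : T * T * (T * T) = T * T - τ • T + σ • (1 : Matrix (Fin 3) (Fin 3) F) := by
    have e : (T * T - τ • T + σ • (1 : Matrix (Fin 3) (Fin 3) F)) * T = 1 := by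
      rw [add_mul, sub_mul, smul_mul_assoc, smul_mul_assoc, one_mul]
      rw [sub_eq_zero] at hch
      exact hch
    exact (IsUnit.mul_left_inj (Units.isUnit f)).1 (hinv.trans e.symm)
  have hτσ : σ = τ := by
    have := congrArg Matrix.trace h4
    simp [e4, e2, trace_add, trace_sub, trace_smul, Fintype.card_fin] at this
    grind
  have hτ : τ = 0 ∨ τ = 3 := by
    have h0 : τ * (τ - 3) = 0 := by rw [e2] at hσ; grind
    rcases mul_eq_zero.1 h0 with h | h
    exacts [Or.inl h, Or.inr (sub_eq_zero.1 h)]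
  refine Units.ext ?_
  rw [Units.val_one, ← hT]
  rw [hτσ] at hch
  rcases hτ with h0 | h3
  · rw [h0, zero_smul, zero_smul, sub_zero, add_zero, sub_eq_zero] at hch
    have e : T * T * (T * T) * T = T * T * T * (T * T) := by simp only [mul_assoc]
    rw [hinv, hch, one_mul] at e
    rw [← e, one_mul] at hch
    exact hch
  · rw [h3] at hch
    set N := T - 1 with hN
    have hN3 : N * N * N = 0 := by
      rw [hN]
      simp only [sub_mul, mul_sub, one_mul, mul_one]
      linear_combination (norm := module) hch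
    have hTN : T = 1 + N := by rw [hN]; abel
    have h55 : (5 : F) • N + (10 : F) • (N * N) = 0 := by
      have e := hinv
      rw [hTN] at e
      simp only [add_mul, mul_add, one_mul, mul_one, ← mul_assoc] at e
      simp only [hN3, zero_mul, add_zero, zero_add] at e
      linear_combination (norm := module) e
    have hNN : N * N = 0 := by
      have e := congrArg (· * N) h55
      simp only [add_mul, smul_mul_assoc, hN3, smul_zero, add_zero, zero_mul] at e
      exact (smul_eq_zero.1 e).resolve_left h5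
    rw [hNN, smul_zero, add_zero] at h55
    rw [hTN, (smul_eq_zero.1 h55).resolve_left h5, add_zero]

variable {κ : Ctx F} {M P : Subgroup (GL (Fin 3) F)}

lemma card_Rb : Nat.card (κ.R0.map qm) = 9 := by
  have h : Function.Bijective (fun x : Fin 3 × Fin 3 =>
      (⟨qm (κ.el 0 x.1 x.2), ⟨_, κ.el_mem _ _ _, rfl⟩⟩ : κ.R0.map qm)) := by
    constructor
    · intro x y hxy
      have h1 : qm (κ.el 0 x.1 x.2) = qm (κ.el 0 y.1 y.2) := congrArg Subtype.val hxy
      have hsl := fun a b c => κ.R0_le_sl (κ.el_mem a b c)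
      have hs : (κ.el 0 x.1 x.2)⁻¹ * κ.el 0 y.1 y.2 ∈ Cfsg.Geo.scalars (Fin 3) F := by
        rw [← qm_eq_one, map_mul, map_inv, h1, inv_mul_cancel]
      obtain ⟨a, ha⟩ := κ.scal_sl hs (mul_mem (inv_mem (hsl _ _ _)) (hsl _ _ _))
      rw [inv_mul_eq_iff_eq_mul, κ.el_mul, κ.el_eq_iff] at ha
      obtain ⟨-, hb, hc⟩ := ha
      rw [add_zero, Nat.mod_eq_of_lt y.1.isLt, Nat.mod_eq_of_lt x.1.isLt] at hb
      rw [add_zero, Nat.mod_eq_of_lt y.2.isLt, Nat.mod_eq_of_lt x.2.isLt] at hc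
      exact Prod.ext (Fin.ext hb.symm) (Fin.ext hc.symm)
    · rintro ⟨_, _, ⟨a, b, c, rfl⟩, rfl⟩
      refine ⟨(⟨b % 3, Nat.mod_lt _ (by norm_num)⟩, ⟨c % 3, Nat.mod_lt _ (by norm_num)⟩), Subtype.ext ?_⟩
      show qm (κ.el 0 (b % 3) (c % 3)) = qm (κ.el a b c)
      rw [show κ.el a b c = κ.el a 0 0 * κ.el 0 (b % 3) (c % 3) by rw [κ.el_mul, κ.el_eq_iff]; omega,
        map_mul, qm_eq_one.2 ((κ.el_mem_scalars_iff (a := a) (b := 0) (c := 0)).2 ⟨rfl, rfl⟩), one_mul]
  rw [← Nat.card_eq_of_bijective _ h]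
  simp

lemma Rb_cube {x : Q3 F} (hx : x ∈ κ.R0.map qm) : x ^ 3 = 1 := by
  obtain ⟨_, ⟨a, b, c, rfl⟩, rfl⟩ := Subgroup.mem_map.1 hx
  rw [← map_pow, qm_eq_one, pow_succ, pow_two, κ.el_mul, κ.el_mul, κ.el_mem_scalars_iff]
  omega

/-- No core when `ω` is not a cube. -/
theorem Core.not_noncube (S : Core κ M P) (hn : ∀ x : F, x ^ 3 ≠ κ.ω) (h5 : (5 : F) ≠ 0) : False := by
  classical
  obtain ⟨z, q, A⟩ := S.exists_ax hn
  obtain ⟨t₀, s₀, K, hyp⟩ := S.bsw A hn
  obtain ⟨hs, -⟩ := S.Xb_simple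
  haveI := hs
  obtain ⟨E, _, _, hodd, ⟨e⟩⟩ := S0508.equiv_of_conclusion hyp.conclusion
  set X := P.map (qm (F := F)) with hX
  have hRX : κ.R0.map qm ≤ X := Subgroup.map_mono S.R0_le_P
  haveI : Fact (Nat.Prime 3) := ⟨Nat.prime_three⟩
  haveI : Fact (Nat.Prime 2) := ⟨Nat.prime_two⟩
  -- the Sylow 3-subgroup
  set R : Subgroup X := (κ.R0.map qm).subgroupOf X
  have hR : Nat.card R = 9 := by
    rw [Nat.card_congr (Subgroup.subgroupOfEquivOfLe hRX).toEquiv, card_Rb]
  have h27 : ¬ 27 ∣ Nat.card X := by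
    intro h
    obtain ⟨U, hU⟩ := Sylow.exists_subgroup_card_pow_prime (G := X) 3 (n := 3) h
    set W := (U.map X.subtype).comap qm ⊓ M with hW
    have hWp : IsPGroup 3 W := by
      rintro ⟨g, hgU, hgM⟩
      obtain ⟨u, hu, hug⟩ := Subgroup.mem_map.1 hgU
      have hu3 : u ^ (3 ^ 3) = 1 := by
        have := pow_card_eq_one' (x := (⟨u, hu⟩ : U))
        rw [hU] at this
        exact congrArg Subtype.val this
      have hs : g ^ (3 ^ 3) ∈ Cfsg.Geo.scalars (Fin 3) F := by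
        rw [← qm_eq_one, map_pow, ← hug, ← map_pow, hu3, map_one]
      obtain ⟨a, ha⟩ := κ.scal_sl hs (pow_mem (S.le hgM) _)
      refine ⟨4, Subtype.ext ?_⟩
      show g ^ (3 ^ 4) = 1
      rw [show (3 : ℕ) ^ 4 = 3 ^ 3 * 3 from rfl, pow_mul, ha]
      simp only [Ctx.el, pow_zero, mul_one, ← pow_mul]
      rw [mul_comm, pow_mul, κ.Z_cube, one_pow]
    obtain ⟨g, -, hg⟩ := S.conj_into hn hWp inf_le_right
    have hmem : ∀ u : U, qm g * ((u : X) : Q3 F) * (qm g)⁻¹ ∈ κ.R0.map qm := by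
      intro u
      obtain ⟨l, hl, hlu⟩ := S.exists_lift (S.Xb_le (u : X).2)
      refine ⟨g * l * g⁻¹, hg l ⟨⟨u, u.2, hlu.symm⟩, hl⟩, ?_⟩
      rw [map_mul, map_mul, map_inv, hlu]
    have := Nat.card_le_card_of_injective (fun u : U => (⟨_, hmem u⟩ : κ.R0.map qm)) (fun u v huv =>
      Subtype.ext (Subtype.ext (mul_left_cancel (mul_right_cancel (congrArg Subtype.val huv)))))
    rw [hU, card_Rb] at this
    norm_num at this
  -- the field of the core
  obtain ⟨r, hr⟩ := CharP.exists E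
  haveI : Fact r.Prime := ⟨CharP.char_is_prime E r⟩
  set H := R.map e.toMonoidHom
  let eR : R ≃* H := Subgroup.equivMapOfInjective R _ e.injective
  have hH : Nat.card H = 9 := by rw [← Nat.card_congr eR.toEquiv, hR]
  have hH3 : ∀ x : H, x ^ 3 = 1 := by
    intro x
    obtain ⟨y, rfl⟩ := eR.surjective x
    rw [← map_pow, ← map_one eR]
    refine congrArg _ (Subtype.ext (Subtype.ext ?_))
    exact Rb_cube y.2
  have hdvd : r ∣ 9 := by
    rcases PSL2.psl_dickson r H with ⟨h, -⟩ | ⟨-, h, -⟩ | ⟨m, -, -, -, h, -, -⟩ | ⟨-, h⟩ |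
      ⟨-, h, -⟩ | ⟨R', m, -, -, h⟩
    · rwa [hH] at h
    · exfalso
      obtain ⟨g, hg⟩ := IsCyclic.exists_ofOrder_eq_natCard (α := H)
      have := orderOf_dvd_of_pow_eq_one (hH3 g)
      rw [hg, hH] at this
      norm_num at this
    · exfalso; rw [hH] at h; omega
    · exfalso
      rcases h with ⟨⟨f⟩⟩ | ⟨⟨f⟩⟩ | ⟨⟨f⟩⟩ <;> rw [Nat.card_congr f.toEquiv] at hH <;>
        (first | rw [nat_card_alternatingGroup, Nat.card_fin] at hH | rw [Nat.card_perm, Nat.card_fin] at hH) <;>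
        norm_num [Nat.factorial] at hH
    · exfalso; rw [hH] at h; omega
    · haveI := PSL2.charP_subfield r R'
      rcases h with ⟨⟨f⟩⟩ | ⟨-, -, ⟨f⟩⟩ <;> rw [Nat.card_congr f.toEquiv] at hH <;> rw [← hH]
      · exact PSL2.dvd_card_psl r
      · exact (PSL2.dvd_card_psl (F := R') r).trans
          (Subgroup.card_dvd_of_injective _ Matrix.ProjectiveSpecialLinearGroup.toPGL_injective)
  have hr3 : r = 3 := (Nat.prime_dvd_prime_iff_eq (Fact.out : r.Prime) Nat.prime_three).1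
    ((Fact.out : r.Prime).dvd_of_dvd_pow (show r ∣ 3 ^ 2 from hdvd))
  subst hr3
  obtain ⟨k, -, hk⟩ := FiniteField.card E 3
  rw [← Nat.card_eq_fintype_card] at hk
  have hodd' : Odd (Nat.card E) := by rwa [Nat.card_eq_fintype_card]
  have hgcd : Nat.gcd 2 (Nat.card E - 1) = 2 := by
    obtain ⟨a, ha⟩ := hodd'
    exact Nat.gcd_eq_left ⟨a, by omega⟩
  have hc := PSL2.card_psl_mul (F := E)
  rw [hgcd, ← Nat.card_congr e.toEquiv] at hc
  have hk2 : (k : ℕ) ≤ 2 := by
    by_contra hlt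
    refine h27 ((Nat.Coprime.dvd_mul_left (show Nat.Coprime 27 2 by norm_num)).1 ?_)
    rw [hc]
    exact Dvd.dvd.mul_right (hk ▸ pow_dvd_pow 3 (show 3 ≤ (k : ℕ) by omega)) _
  have h9 : 9 ∣ Nat.card X := by rw [← hR]; exact Subgroup.card_subgroup_dvd_card R
  have hq : Nat.card E = 9 := by
    have := k.pos
    obtain hk' | hk' : (k : ℕ) = 1 ∨ (k : ℕ) = 2 := by omega
    · rw [hk, hk', pow_one] at hc; omega
    · rw [hk, hk']; norm_num
  have hX360 : Nat.card X = 360 := by rw [hq] at hc; omega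
  set t' : X := ⟨tb κ, S.tb_mem_Xb⟩
  have ht' : orderOf t' = 2 := orderOf_eq_prime (Subtype.ext (by
    show (t' ^ 2 : X).1 = _
    rw [pow_two]; exact tb_sq κ)) (fun h => tb_ne (congrArg Subtype.val h))
  have hC8 : Nat.card (Subgroup.centralizer ({t'} : Set X)) = 8 := by
    have := (PSL2.card_centralizer_involution hodd' (x := e t')
      (by rw [MulEquiv.orderOf_eq, ht'])).1 (by rw [hq])
    rw [hq] at this
    rw [show (8 : ℕ) = 9 - 1 from rfl, ← this]
    refine Nat.card_congr (Equiv.subtypeEquiv e.toEquiv fun x => ?_)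
    rw [Subgroup.mem_centralizer_singleton_iff, Subgroup.mem_centralizer_singleton_iff,
      MulEquiv.toEquiv_eq_coe, MulEquiv.coe_toEquiv, ← map_mul, ← map_mul, e.injective.eq_iff]
  -- an element of order five
  haveI : Fact (Nat.Prime 5) := ⟨Nat.prime_five⟩
  obtain ⟨f, hf⟩ := exists_prime_orderOf_dvd_card' (G := X) 5 (by rw [hX360]; norm_num)
  have hf1 : (f : Q3 F) ≠ 1 := fun h => by
    rw [show f = 1 from Subtype.ext h, orderOf_one] at hf
    norm_num at hf
  have key : ∀ u ∈ M.map (qm (F := F)), u * u = 1 → u ≠ 1 → u * (f : Q3 F) ≠ (f : Q3 F) * u := by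
    intro u hu h2 h1 hc
    obtain ⟨g, hg, rfl⟩ := S.inv_conj_tb A hu h2 h1
    set f' : X := ⟨g⁻¹ * (f : Q3 F) * g, by
      have := S.Xb_normal (inv_mem hg) f.2; rwa [inv_inv] at this⟩
    have hmem : f' ∈ Subgroup.centralizer ({t'} : Set X) := by
      rw [Subgroup.mem_centralizer_singleton_iff]
      refine Subtype.ext ?_
      show g⁻¹ * (f : Q3 F) * g * tb κ = tb κ * (g⁻¹ * (f : Q3 F) * g)
      calc g⁻¹ * (f : Q3 F) * g * tb κ = g⁻¹ * ((f : Q3 F) * (g * tb κ * g⁻¹)) * g := by group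
        _ = _ := by rw [← hc]; group
    have hord : orderOf f' = 5 := by
      rw [← Subgroup.orderOf_coe]
      show orderOf (g⁻¹ * (f : Q3 F) * g) = 5
      rw [show g⁻¹ * (f : Q3 F) * g = MulAut.conj g⁻¹ (f : Q3 F) by rw [MulAut.conj_apply, inv_inv],
        MulEquiv.orderOf_eq, Subgroup.orderOf_coe, hf]
    have h58 : 5 ∣ 8 := by
      rw [← hord, ← hC8, ← Subgroup.orderOf_mk f' hmem]
      exact orderOf_dvd_natCard _
    norm_num at h58
  -- normalisers of `⟨f⟩` fix or invert it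
  obtain ⟨l0, hl0, hl0f⟩ := S.exists_lift (S.Xb_le f.2)
  have hf5 : (f : Q3 F) ^ 5 = 1 := by
    rw [← Subgroup.coe_pow, ← hf, pow_orderOf_eq_one, Subgroup.coe_one]
  obtain ⟨a, ha⟩ := κ.scal_sl (qm_eq_one.1 (show qm (l0 ^ 5) = 1 by rw [map_pow, hl0f, hf5]))
    (pow_mem (S.le hl0) 5)
  set l := l0 ^ 6
  have hlM : l ∈ M := pow_mem hl0 6
  have hlf : qm l = (f : Q3 F) := by rw [map_pow, hl0f, pow_succ, hf5, one_mul]
  have hl5 : l ^ 5 = 1 := by
    rw [← pow_mul, mul_comm, pow_mul, ha, show (6 : ℕ) = 3 * 2 from rfl, pow_mul]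
    simp only [Ctx.el, pow_zero, mul_one]
    rw [← pow_mul κ.Z, mul_comm a, pow_mul, κ.Z_cube, one_pow, one_pow]
  have hnorm : ∀ m ∈ M.map (qm (F := F)), m * (f : Q3 F) * m⁻¹ ∈ Subgroup.zpowers (f : Q3 F) →
      m * (f : Q3 F) * m⁻¹ = f ∨ m * (f : Q3 F) * m⁻¹ = (f : Q3 F)⁻¹ := by
    intro m hm hmf
    rw [mem_zpowers_iff_mem_range_orderOf] at hmf
    obtain ⟨j, hj, hje⟩ := Finset.mem_image.1 hmf
    rw [Finset.mem_range, Subgroup.orderOf_coe, hf] at hj
    change (f : Q3 F) ^ j = _ at hje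
    obtain ⟨g, hg, rfl⟩ := S.exists_lift hm
    have hbad : ∀ i : ℕ, i = 2 ∨ i = 3 → qm g * (f : Q3 F) * (qm g)⁻¹ ≠ (f : Q3 F) ^ i := by
      intro i hi hie
      set s := g * l * g⁻¹ * (l ^ i)⁻¹ with hs
      have hsc : s ∈ Cfsg.Geo.scalars (Fin 3) F := qm_eq_one.1 (by
        rw [hs, map_mul, map_mul, map_mul, map_inv, map_inv, map_pow qm l i, hlf, hie, mul_inv_cancel])
      have hsl : s ∈ Cfsg.Geo.specialLinear (Fin 3) F :=
        mul_mem (mul_mem (mul_mem (S.le hg) (S.le hlM)) (inv_mem (S.le hg))) (inv_mem (pow_mem (S.le hlM) i))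
      have hgl : g * l * g⁻¹ = s * l ^ i := by rw [hs]; group
      obtain ⟨b, hb⟩ := κ.scal_sl hsc hsl
      have h5' := congrArg (· ^ 5) hgl
      simp only [conj_pow, hl5, mul_one, mul_inv_cancel] at h5'
      rw [(Commute.symm (show Commute (l ^ i) s from scal_comm hsc _)).mul_pow, ← pow_mul l, mul_comm i 5,
        pow_mul l, hl5, one_pow, mul_one, hb] at h5'
      have hb0 : b % 3 = 0 := by
        rw [← κ.el_zero] at h5'
        simp only [pow_succ, pow_zero, one_mul, κ.el_mul, κ.el_eq_iff] at h5'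
        omega
      rw [hb, show κ.el b 0 0 = 1 by rw [κ.el_mod, hb0]; exact κ.el_zero, one_mul] at hgl
      have hl1 := eq_one_of_conj_pow κ.two h5 hl5 (Transvect.mem_sl_iff.1 (S.le hlM)) hi hgl
      exact hf1 (by rw [← hlf, hl1, map_one])
    interval_cases j
    · rw [pow_zero] at hje
      exact absurd (by
        calc (f : Q3 F) = (qm g)⁻¹ * (qm g * f * (qm g)⁻¹) * qm g := by group
          _ = 1 := by rw [← hje]; group) hf1
    · exact Or.inl (by rw [← hje, pow_one])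
    · exact absurd hje.symm (hbad 2 (Or.inl rfl))
    · exact absurd hje.symm (hbad 3 (Or.inr rfl))
    · exact Or.inr (by rw [← hje]; exact eq_inv_of_mul_eq_one_left (by rw [← pow_succ]; exact hf5))
  -- Frattini
  obtain ⟨qd, hqd⟩ := rG_surj (κ := κ) (M := M) ⟨q, A.q_mem⟩
  have hq2 : qd * qd = ⟨tb κ, S.tb_D⟩ := rG_inj (Subtype.ext (Units.ext (by
    rw [map_mul, hqd, rG_tb S.tb_D, Subgroup.coe_mul, Units.val_mul]; exact A.q_sq)))
  have hqX : (qd : Q3 F) ∉ X := fun h => by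
    have hd := S.det_core A qd h
    rw [hqd, A.eps_anti (g := ⟨q, A.q_mem⟩) A.q_anti] at hd
    rw [show ((⟨q, A.q_mem⟩ : Gpl κ M) : GL (Fin 2) F) = q from rfl, A.q_det] at hd
    exact κ.two (by linear_combination -hd)
  set U : Sylow 5 X := Sylow.ofCard (Subgroup.zpowers f) (by
    rw [Nat.card_zpowers, hf, hX360]
    rw [show (360 : ℕ).factorization 5 = 1 by
      rw [show (360 : ℕ) = 5 * 72 from rfl, Nat.factorization_mul (by norm_num) (by norm_num),
        Finsupp.add_apply, Nat.Prime.factorization_self Nat.prime_five,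
        Nat.factorization_eq_zero_of_not_dvd (by norm_num)]]
    norm_num) with hUdef
  let c : X →* X :=
    { toFun := fun u => ⟨(qd : Q3 F) * u * (qd : Q3 F)⁻¹, S.Xb_normal qd.2.1 u.2⟩
      map_one' := Subtype.ext (by simp)
      map_mul' := fun u v => Subtype.ext (by
        show (qd : Q3 F) * (u * v : Q3 F) * (qd : Q3 F)⁻¹ = (qd * u * (qd : Q3 F)⁻¹) * (qd * v * (qd : Q3 F)⁻¹)
        group) }
  have hcs : Function.Surjective c := fun u => ⟨⟨(qd : Q3 F)⁻¹ * u * qd, by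
      have := S.Xb_normal (inv_mem qd.2.1) u.2; rwa [inv_inv] at this⟩, Subtype.ext (by
      show (qd : Q3 F) * ((qd : Q3 F)⁻¹ * u * qd) * (qd : Q3 F)⁻¹ = (u : Q3 F); group)⟩
  obtain ⟨x, hx⟩ := MulAction.exists_smul_eq X (U.mapSurjective hcs) U
  set m : Q3 F := (x : Q3 F) * qd with hm
  have hmM : m ∈ M.map qm := mul_mem (S.Xb_le x.2) qd.2.1
  have hmX : m ∉ X := fun h => hqX (by
    have := mul_mem (inv_mem x.2) h; rwa [hm, inv_mul_cancel_left] at this)
  have hmm : m * m ∈ X := by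
    rw [show m * m = (x : Q3 F) * ((qd : Q3 F) * x * (qd : Q3 F)⁻¹) * ((qd : Q3 F) * qd) by rw [hm]; group]
    refine mul_mem (mul_mem x.2 (S.Xb_normal qd.2.1 x.2)) ?_
    rw [show (qd : Q3 F) * qd = tb κ from congrArg Subtype.val hq2]
    exact S.tb_mem_Xb
  have hmf : m * (f : Q3 F) * m⁻¹ ∈ Subgroup.zpowers (f : Q3 F) := by
    have h1 : x * c f * x⁻¹ ∈ (U : Subgroup X) := by
      rw [← hx]
      refine ⟨c f, ?_, rfl⟩
      show c f ∈ ((U.mapSurjective hcs : Sylow 5 X) : Subgroup X)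
      rw [Sylow.coe_mapSurjective]
      exact ⟨f, Subgroup.mem_zpowers f, rfl⟩
    change x * c f * x⁻¹ ∈ Subgroup.zpowers f at h1
    obtain ⟨i, hi⟩ := Subgroup.mem_zpowers_iff.1 h1
    refine Subgroup.mem_zpowers_iff.2 ⟨i, ?_⟩
    rw [← Subgroup.coe_zpow, hi, hm]
    show (x : Q3 F) * ((qd : Q3 F) * f * (qd : Q3 F)⁻¹) * (x : Q3 F)⁻¹ = _
    group
  -- an involution of the core inverting `f`
  obtain ⟨w, hwX, hwf⟩ : ∃ w ∈ X, w * (f : Q3 F) * w⁻¹ = (f : Q3 F)⁻¹ := by
    set N := Subgroup.normalizer ((U : Subgroup X) : Set X)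
    have hn5 := card_sylow_modEq_one 5 X
    rw [U.card_eq_index_normalizer] at hn5
    have hidx : N.index ∣ 72 := by
      have h1 : (U : Subgroup X).index = 72 := by
        have h := (U : Subgroup X).card_mul_index
        change Nat.card (Subgroup.zpowers f) * _ = _ at h
        rw [Nat.card_zpowers, hf, hX360] at h
        change 5 * (U : Subgroup X).index = 360 at h
        omega
      rw [← h1]
      exact Subgroup.index_dvd_of_le Subgroup.le_normalizer
    have hNc := N.card_mul_index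
    rw [hX360] at hNc
    have heven : 2 ∣ Nat.card N := by
      have hle := Nat.le_of_dvd (by norm_num) hidx
      unfold Nat.ModEq at hn5
      interval_cases h : N.index <;> omega
    obtain ⟨w, hw⟩ := exists_prime_orderOf_dvd_card' (G := N) 2 heven
    refine ⟨((w : X) : Q3 F), (w : X).2, ?_⟩
    have hw2 : ((w : X) : Q3 F) * (w : X) = 1 := by
      have h := pow_orderOf_eq_one w
      rw [hw, pow_two] at h
      exact congrArg (fun v : N => ((v : X) : Q3 F)) h
    have hw1 : ((w : X) : Q3 F) ≠ 1 := fun h => by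
      rw [show w = 1 from Subtype.ext (Subtype.ext h), orderOf_one] at hw
      norm_num at hw
    have h1 : (w : X) * f * (w : X)⁻¹ ∈ Subgroup.zpowers f :=
      (Subgroup.mem_normalizer_iff.1 w.2 f).1 (Subgroup.mem_zpowers f)
    obtain ⟨i, hi⟩ := Subgroup.mem_zpowers_iff.1 h1
    refine (hnorm _ (S.Xb_le (w : X).2) (Subgroup.mem_zpowers_iff.2 ⟨i, ?_⟩)).resolve_left fun h =>
      key _ (S.Xb_le (w : X).2) hw2 hw1 (mul_inv_eq_iff_eq_mul.1 h)
    rw [← Subgroup.coe_zpow, hi]; rfl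
  obtain ⟨m', hm'M, hm'X, hm'2, hm'c⟩ : ∃ m', m' ∈ M.map qm ∧ m' ∉ X ∧ m' * m' ∈ X ∧
      m' * (f : Q3 F) = (f : Q3 F) * m' := by
    rcases hnorm m hmM hmf with h | h
    · exact ⟨m, hmM, hmX, hmm, mul_inv_eq_iff_eq_mul.1 h⟩
    · refine ⟨w * m, mul_mem (S.Xb_le hwX) hmM, fun hh => hmX ?_, ?_, mul_inv_eq_iff_eq_mul.1 ?_⟩
      · have := mul_mem (inv_mem hwX) hh; rwa [inv_mul_cancel_left] at this
      · rw [show w * m * (w * m) = w * (m * w * m⁻¹) * (m * m) by group]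
        exact mul_mem (mul_mem hwX (S.Xb_normal hmM hwX)) hmm
      · calc w * m * (f : Q3 F) * (w * m)⁻¹ = w * (m * f * m⁻¹) * w⁻¹ := by group
          _ = (w * f * w⁻¹)⁻¹ := by rw [h]; group
          _ = f := by rw [hwf, inv_inv]
  -- its power of order two
  rcases Nat.even_or_odd (orderOf m') with ⟨n, hn'⟩ | ⟨n, hn'⟩
  · have hn0 : 0 < orderOf m' := orderOf_pos m'
    refine key (m' ^ n) (pow_mem hm'M n) (by rw [← pow_add, ← hn', pow_orderOf_eq_one]) (fun h => ?_)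
      (Commute.pow_left hm'c n).eq
    have := Nat.le_of_dvd (by omega) (orderOf_dvd_of_pow_eq_one h)
    omega
  · have h1 := pow_orderOf_eq_one m'
    rw [hn', pow_succ, pow_mul, pow_two] at h1
    refine hm'X ?_
    rw [show m' = ((m' * m') ^ n)⁻¹ from eq_inv_of_mul_eq_one_right h1]
    exact inv_mem (pow_mem hm'2 n)

end Cfsg.Agent.SL3Max.C6
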