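/-
The normaliser of an extraspecial subgroup of order 27 of `SL₃(p)`, `p ≡ 1 (mod 3)`, is maximal.
Main results: `exists_conj_model`, `symplectic_maximal`.
-/
import Cfsg.Agent.Lib.SL3Max.C6.Five

set_option autoImplicit false
set_option linter.unusedSectionVars false

namespace Cfsg.Agent.SL3Max.C6

open Matrix Cfsg.Agent.Transvect

variable {F : Type*} [Field F] [Fintype F] (κ : Ctx F)

local notation "SL3" => Cfsg.Geo.specialLinear (Fin 3) F

/-- A group of the given kind is conjugate to the model. -/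
theorem exists_conj_model {R : Subgroup (GL (Fin 3) F)} (hR : IsPGroup 3 R) (hexp : ∀ r ∈ R, r ^ 3 = 1)
    (hirr : Cfsg.Geo.ActsAbsolutelyIrreducibly (Cfsg.Geo.matrixSet R)) :
    ∃ B : GL (Fin 3) F, R = κ.R0.map (MulAut.conj B).toMonoidHom := by
  classical
  haveI : Fact (Nat.Prime 3) := ⟨Nat.prime_three⟩
  have hscal : ∀ x : GL (Fin 3) F, (∀ y ∈ R, x * y = y * x) → x ∈ Cfsg.Geo.scalars (Fin 3) F := fun x hx => by
    obtain ⟨c, hc⟩ := hirr.2 x (by
      rintro _ ⟨y, hy, rfl⟩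
      rw [← Units.val_mul, ← Units.val_mul, hx y hy])
    exact PrimeDim.smul_one_mem_scalars hc
  have hs : ∃ x ∈ R, x ∉ Cfsg.Geo.scalars (Fin 3) F := by
    by_contra! h
    obtain ⟨c, hc⟩ := hirr.2 (!![0, 1, 0; 0, 0, 0; 0, 0, 0]) (by
      rintro _ ⟨y, hy, rfl⟩
      obtain ⟨u, hu⟩ := (Cfsg.Geo.mem_scalars_iff _).1 (h y hy)
      show _ * (y : Matrix (Fin 3) (Fin 3) F) = (y : Matrix (Fin 3) (Fin 3) F) * _
      rw [hu, mul_smul_comm, mul_one, smul_mul_assoc, one_mul])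
    have := congrFun (congrFun hc 0) 1
    simp at this
  obtain ⟨x, hx, hxs, hfix⟩ := exists_fixed_class hR hR hs
    (fun g hg r hr => mul_mem (mul_mem hg hr) (inv_mem hg))
  obtain ⟨y, hy, hxy⟩ : ∃ y ∈ R, x * y ≠ y * x := by
    by_contra! h; exact hxs (hscal x h)
  obtain ⟨c, hc⟩ := (Cfsg.Geo.mem_scalars_iff _).1 (hfix y hy)
  set d : F := (c : F)⁻¹
  have hd0 : d ≠ 0 := inv_ne_zero c.ne_zero
  set X := (x : Matrix (Fin 3) (Fin 3) F) with hX
  set Y := (y : Matrix (Fin 3) (Fin 3) F) with hY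
  have hXY : X * Y = d • (Y * X) := by
    have h1 : (y * x : GL (Fin 3) F) = (y * x * y⁻¹ * x⁻¹) * (x * y) := by group
    have h2 := congrArg (fun g : GL (Fin 3) F => (g : Matrix (Fin 3) (Fin 3) F)) h1
    simp only [Units.val_mul] at h2
    rw [← Units.val_mul y x, ← Units.val_mul (y * x), ← Units.val_mul (y * x * y⁻¹), hc, smul_mul_assoc,
      one_mul] at h2
    rw [Units.val_mul] at h2
    rw [h2, smul_smul, inv_mul_cancel₀ c.ne_zero, one_smul]
  have hd1 : d ≠ 1 := fun h => hxy (Units.ext (by rw [Units.val_mul, Units.val_mul, ← hX, ← hY, hXY, h, one_smul]))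
  have hX3 : X * X * X = 1 := by
    rw [hX, ← Units.val_mul, ← Units.val_mul, ← pow_two, ← pow_succ, hexp x hx, Units.val_one]
  have hY3 : Y * Y * Y = 1 := by
    rw [hY, ← Units.val_mul, ← Units.val_mul, ← pow_two, ← pow_succ, hexp y hy, Units.val_one]
  have hd3 : d ^ 3 = 1 := by
    have e : X * X * X * Y = d ^ 3 • (Y * (X * X * X)) := by
      have e1 : ∀ W, X * (Y * W) = d • (Y * (X * W)) := fun W => by
        rw [← mul_assoc, hXY, smul_mul_assoc, mul_assoc]
      simp only [mul_assoc]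
      rw [hXY, mul_smul_comm, e1, smul_smul, mul_smul_comm, e1, smul_smul]
      congr 1
      ring
    rw [hX3, one_mul, mul_one] at e
    have h0 : (d ^ 3 - 1) • Y = 0 := by rw [sub_smul, one_smul, ← e, sub_self]
    exact sub_eq_zero.1 ((smul_eq_zero.1 h0).resolve_right (by rw [hY]; exact Units.ne_zero _))
  -- a fixed vector of `x`
  have hshift : ∀ (e : F) (v : Fin 3 → F), X *ᵥ v = e • v → X *ᵥ (Y *ᵥ v) = (d * e) • (Y *ᵥ v) := by
    intro e v hv
    rw [Matrix.mulVec_mulVec, hXY, Matrix.smul_mulVec, ← Matrix.mulVec_mulVec, hv, Matrix.mulVec_smul,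
      smul_smul]
  have hYv : ∀ v : Fin 3 → F, v ≠ 0 → Y *ᵥ v ≠ 0 := by
    intro v hv h
    have := congrArg ((Y * Y) *ᵥ ·) h
    simp only [Matrix.mulVec_mulVec, hY3, Matrix.one_mulVec, Matrix.mulVec_zero] at this
    exact hv this
  obtain ⟨v, hv0, hv⟩ : ∃ v : Fin 3 → F, v ≠ 0 ∧ X *ᵥ v = v := by
    obtain ⟨e, w, he, hw0, hw⟩ : ∃ (e : F) (w : Fin 3 → F), e ^ 3 = 1 ∧ w ≠ 0 ∧ X *ᵥ w = e • w := by
      have hfac : (X - (1 : F) • 1) * ((X - κ.ω • 1) * (X - κ.ω ^ 2 • 1)) = 0 := by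
        have h1 := κ.rel
        have h2 := κ.cube
        simp only [sub_mul, mul_sub, smul_mul_assoc, mul_smul_comm, one_mul, mul_one, smul_smul]
        have hX3' : X * (X * X) = 1 := by rw [← mul_assoc, hX3]
        rw [hX3']
        match_scalars <;> grind
      by_contra! hno
      have hinj : ∀ e : F, e ^ 3 = 1 → ∀ w : Fin 3 → F, (X - e • 1) *ᵥ w = 0 → w = 0 := by
        intro e he w hw
        by_contra h0
        rw [Matrix.sub_mulVec, Matrix.smul_mulVec, Matrix.one_mulVec, sub_eq_zero] at hw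
        exact hno e w he h0 hw
      have h0 : ∀ w : Fin 3 → F, w = 0 := fun w => by
        have hw := congrArg (fun Z : Matrix (Fin 3) (Fin 3) F => Z *ᵥ w) hfac
        simp only [← Matrix.mulVec_mulVec, Matrix.zero_mulVec] at hw
        exact hinj _ (by rw [← pow_mul, mul_comm, pow_mul, κ.cube, one_pow]) _
          (hinj _ κ.cube _ (hinj _ (one_pow 3) _ hw))
      have := congrFun (h0 (fun _ => 1)) 0
      simp at this
    by_cases he1 : e = 1
    · exact ⟨w, hw0, by rw [hw, he1, one_smul]⟩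
    have h1 := hshift e w hw
    by_cases he2 : d * e = 1
    · exact ⟨_, hYv w hw0, by rw [h1, he2, one_smul]⟩
    refine ⟨_, hYv _ (hYv w hw0), ?_⟩
    rw [hshift _ _ h1, show d * (d * e) = 1 by grind, one_smul]
  -- the right power of `y`
  obtain ⟨u, hu, hXU⟩ : ∃ u ∈ R, X * (u : Matrix (Fin 3) (Fin 3) F) = κ.ω • ((u : Matrix (Fin 3) (Fin 3) F) * X) := by
    have h : (d - κ.ω) * (d - κ.ω ^ 2) = 0 := by
      have := κ.rel; have := κ.cube; grind
    rcases mul_eq_zero.1 h with h | h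
    · exact ⟨y, hy, by rw [← sub_eq_zero.1 h]; exact hXY⟩
    · refine ⟨y * y, mul_mem hy hy, ?_⟩
      rw [Units.val_mul, ← hY, ← mul_assoc, hXY, smul_mul_assoc, mul_assoc, hXY, mul_smul_comm, smul_smul,
        sub_eq_zero.1 h, show κ.ω ^ 2 * κ.ω ^ 2 = κ.ω by have := κ.cube; grind, mul_assoc]
  set U := (u : Matrix (Fin 3) (Fin 3) F) with hU
  have hU3 : U * U * U = 1 := by
    rw [hU, ← Units.val_mul, ← Units.val_mul, ← pow_two, ← pow_succ, hexp u hu, Units.val_one]
  have hv1 : X *ᵥ (U *ᵥ v) = κ.ω • (U *ᵥ v) := by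
    rw [Matrix.mulVec_mulVec, hXU, Matrix.smul_mulVec, ← Matrix.mulVec_mulVec, hv]
  have hv2 : X *ᵥ (U *ᵥ (U *ᵥ v)) = κ.ω ^ 2 • (U *ᵥ (U *ᵥ v)) := by
    rw [Matrix.mulVec_mulVec, hXU, Matrix.smul_mulVec, ← Matrix.mulVec_mulVec, hv1, Matrix.mulVec_smul,
      smul_smul, pow_two]
  have hUv : ∀ w : Fin 3 → F, U *ᵥ w = 0 → w = 0 := fun w h => by
    have := congrArg ((U * U) *ᵥ ·) h
    simp only [Matrix.mulVec_mulVec, hU3, Matrix.one_mulVec, Matrix.mulVec_zero] at this
    exact this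
  have hw1 : U *ᵥ v ≠ 0 := fun h => hv0 (hUv v h)
  have hw2 : U *ᵥ (U *ᵥ v) ≠ 0 := fun h => hw1 (hUv _ h)
  set B0 : Matrix (Fin 3) (Fin 3) F := Matrix.of fun i j => ![v, U *ᵥ v, U *ᵥ (U *ᵥ v)] j i
  have hunit : IsUnit B0 := by
    rw [← Matrix.mulVec_injective_iff_isUnit]
    rw [← Matrix.coe_mulVecLin, ← LinearMap.ker_eq_bot, LinearMap.ker_eq_bot']
    intro a ha
    have e0 : a 0 • v + a 1 • (U *ᵥ v) + a 2 • (U *ᵥ (U *ᵥ v)) = 0 := by
      rw [← ha]
      ext i
      simp [B0, Matrix.mulVec, dotProduct, Fin.sum_univ_three]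
      ring
    have e1 := congrArg (X *ᵥ ·) e0
    simp only [Matrix.mulVec_add, Matrix.mulVec_smul, hv, hv1, hv2, Matrix.mulVec_zero] at e1
    have e2 := congrArg (X *ᵥ ·) e1
    simp only [Matrix.mulVec_add, Matrix.mulVec_smul, hv, hv1, hv2, Matrix.mulVec_zero] at e2
    have := κ.three
    have := κ.rel
    have := κ.cube
    have h0 : (3 * a 0) • v = 0 := by
      linear_combination (norm := skip) e0 + e1 + e2
      match_scalars <;> grind
    have h1 : (3 * a 1) • (U *ᵥ v) = 0 := by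
      linear_combination (norm := skip) e0 + κ.ω ^ 2 • e1 + κ.ω • e2
      match_scalars <;> grind
    have h2 : (3 * a 2) • (U *ᵥ (U *ᵥ v)) = 0 := by
      linear_combination (norm := skip) e0 + κ.ω • e1 + κ.ω ^ 2 • e2
      match_scalars <;> grind
    have g0 := (mul_eq_zero.1 ((smul_eq_zero.1 h0).resolve_right hv0)).resolve_left κ.three
    have g1 := (mul_eq_zero.1 ((smul_eq_zero.1 h1).resolve_right hw1)).resolve_left κ.three
    have g2 := (mul_eq_zero.1 ((smul_eq_zero.1 h2).resolve_right hw2)).resolve_left κ.three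
    ext i; fin_cases i <;> assumption
  set B : GL (Fin 3) F := hunit.unit with hB
  have hBv : (B : Matrix (Fin 3) (Fin 3) F) = B0 := hunit.unit_spec
  have hcol : ∀ (Z : Matrix (Fin 3) (Fin 3) F) (j : Fin 3),
      (fun i => (Z * B0) i j) = Z *ᵥ ![v, U *ᵥ v, U *ᵥ (U *ᵥ v)] j := fun Z j => by
    ext i; simp [B0, Matrix.mul_apply, Matrix.mulVec, dotProduct]
  have hxB : x * B = B * κ.D := Units.ext (by
    rw [Units.val_mul, Units.val_mul, hBv, ← hX]
    ext i j
    rw [show (X * B0) i j = (fun i => (X * B0) i j) i from rfl, hcol]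
    fin_cases j <;> simp [-Matrix.mulVec_mulVec, hv, hv1, hv2, B0, Ctx.D, Matrix.mul_apply, Fin.sum_univ_three] <;> ring)
  have hUUU : U *ᵥ (U *ᵥ (U *ᵥ v)) = v := by
    rw [Matrix.mulVec_mulVec, Matrix.mulVec_mulVec, hU3, Matrix.one_mulVec]
  have huB : u * B = B * (κ.C * κ.C) := Units.ext (by
    rw [Units.val_mul, Units.val_mul, Units.val_mul, hBv, ← hU]
    ext i j
    rw [show (U * B0) i j = (fun i => (U * B0) i j) i from rfl, hcol]
    fin_cases j <;> simp [-Matrix.mulVec_mulVec, hUUU, B0, Ctx.C, Matrix.mul_apply, Fin.sum_univ_three])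
  -- the model inside the conjugate
  set R' := R.map (MulAut.conj B⁻¹).toMonoidHom
  have hmem : ∀ r ∈ R, B⁻¹ * r * B ∈ R' := fun r hr => ⟨r, hr, by simp⟩
  have hD : κ.D ∈ R' := by
    rw [show κ.D = B⁻¹ * x * B by rw [mul_assoc, hxB, inv_mul_cancel_left]]
    exact hmem x hx
  have hC : κ.C ∈ R' := by
    have h2 : κ.C * κ.C ∈ R' := by
      rw [show κ.C * κ.C = B⁻¹ * u * B by rw [mul_assoc, huB, inv_mul_cancel_left]]
      exact hmem u hu
    rw [show κ.C = (κ.C * κ.C) * (κ.C * κ.C) by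
      calc κ.C = κ.C ^ 3 * κ.C := by rw [κ.C_cube, one_mul]
        _ = _ := by simp only [pow_succ, pow_zero, one_mul, mul_assoc]]
    exact mul_mem h2 h2
  have hsub : κ.R0 ≤ R' := by
    have hZ : κ.Z ∈ R' := by
      rw [show κ.Z = κ.C * κ.D * κ.C⁻¹ * κ.D⁻¹ by rw [κ.C_D]; group]
      exact mul_mem (mul_mem (mul_mem hC hD) (inv_mem hC)) (inv_mem hD)
    rintro _ ⟨a, b, c', rfl⟩
    exact mul_mem (mul_mem (pow_mem hZ a) (pow_mem hD b)) (pow_mem hC c')
  have hexp' : ∀ r ∈ R', r ^ 3 = 1 := by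
    rintro _ ⟨r, hr, rfl⟩
    rw [← map_pow, hexp r hr, map_one]
  have hfix' : ∀ g ∈ R', g * κ.D * g⁻¹ * κ.D⁻¹ ∈ Cfsg.Geo.scalars (Fin 3) F := by
    rintro _ ⟨g, hg, rfl⟩
    have h := hfix g hg
    have e : κ.D = B⁻¹ * x * B := by rw [mul_assoc, hxB, inv_mul_cancel_left]
    rw [MulEquiv.coe_toMonoidHom, MulAut.conj_apply, e, inv_inv]
    rw [show B⁻¹ * g * B * (B⁻¹ * x * B) * (B⁻¹ * g * B)⁻¹ * (B⁻¹ * x * B)⁻¹ =
      B⁻¹ * (g * x * g⁻¹ * x⁻¹) * B by group, scal_comm h B⁻¹]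
    simpa using h
  have hsup : R' ≤ κ.R0 := by
    intro g hg
    obtain ⟨k, hk⟩ := (Cfsg.Geo.mem_scalars_iff _).1 (hfix' g hg)
    set s := g * κ.D * g⁻¹ * κ.D⁻¹
    have hgD : g * κ.D = s * κ.D * g := by simp only [s]; group
    have hk3 : (k : F) ^ 3 = 1 := by
      have h := hexp' s (mul_mem (mul_mem (mul_mem hg hD) (inv_mem hg)) (inv_mem hD))
      have := congrArg (fun m : GL (Fin 3) F => (m : Matrix (Fin 3) (Fin 3) F) 0 0) h
      simpa [hk, smul_pow] using this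
    obtain ⟨i, hi⟩ : ∃ i : ℕ, (k : F) = κ.ω ^ i := by
      have h : ((k : F) - 1) * ((k : F) - κ.ω) * ((k : F) - κ.ω ^ 2) = 0 := by
        have := κ.rel; have := κ.cube; grind
      rcases mul_eq_zero.1 h with h | h
      · rcases mul_eq_zero.1 h with h | h
        exacts [⟨0, by rw [pow_zero, sub_eq_zero.1 h]⟩, ⟨1, by rw [pow_one, sub_eq_zero.1 h]⟩]
      · exact ⟨2, sub_eq_zero.1 h⟩
    have hs : s = κ.el i 0 0 := Units.ext (by
      rw [hk, Ctx.el, pow_zero, pow_zero, mul_one, mul_one, Units.val_pow_eq_pow_val, κ.Z_val, smul_pow,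
        one_pow, hi])
    set j := 2 * i
    set g' := κ.el 0 0 j * g with hg'
    have hg'R : g' ∈ R' := mul_mem (hsub (κ.el_mem _ _ _)) hg
    have hcomm : g' * κ.D = κ.D * g' := by
      rw [hg', mul_assoc, hgD, hs, show κ.D = κ.el 0 1 0 by simp [Ctx.el], κ.el_mul, ← mul_assoc,
        κ.el_mul, ← mul_assoc, κ.el_mul]
      congr 1
      rw [κ.el_eq_iff]
      omega
    have hdiag : ∀ a b : Fin 3, a ≠ b → g' a b = 0 := by
      intro a b hab
      have h := congrArg (fun m : GL (Fin 3) F => (m : Matrix (Fin 3) (Fin 3) F) a b) hcomm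
      have := κ.ne
      have := κ.cube
      have := κ.ω_ne
      fin_cases a <;> fin_cases b <;>
        simp [Ctx.D, Matrix.mul_apply, Matrix.vecMul, dotProduct, Fin.sum_univ_three] at hab h ⊢ <;> grind
    have hcube : ∀ a, g' a a ^ 3 = 1 := by
      intro a
      have h := congrArg (fun m : GL (Fin 3) F => (m : Matrix (Fin 3) (Fin 3) F) a a) (hexp' g' hg'R)
      rw [Units.val_pow_eq_pow_val] at h
      fin_cases a <;>
        simp [pow_succ, Matrix.mul_apply, Fin.sum_univ_three, hdiag] at h ⊢ <;> linear_combination h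
    have hprod : g' 0 0 * g' 1 1 * g' 2 2 = 1 := by
      have h := congrArg (fun m : GL (Fin 3) F => (m : Matrix (Fin 3) (Fin 3) F) 0 0)
        (hexp' (g' * κ.C) (mul_mem hg'R hC))
      rw [Units.val_pow_eq_pow_val] at h
      simp [pow_succ, Ctx.C, Matrix.mul_apply, Matrix.vecMul, dotProduct, Fin.sum_univ_three, hdiag] at h
      linear_combination h
    have hval : ∀ a, ∃ n : ℕ, g' a a = κ.ω ^ n := by
      intro a
      have h : (g' a a - 1) * (g' a a - κ.ω) * (g' a a - κ.ω ^ 2) = 0 := by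
        have := κ.rel; have := κ.cube; have := hcube a; grind
      rcases mul_eq_zero.1 h with h | h
      · rcases mul_eq_zero.1 h with h | h
        exacts [⟨0, by rw [pow_zero, sub_eq_zero.1 h]⟩, ⟨1, by rw [pow_one, sub_eq_zero.1 h]⟩]
      · exact ⟨2, sub_eq_zero.1 h⟩
    obtain ⟨n0, h0⟩ := hval 0
    obtain ⟨n1, h1⟩ := hval 1
    obtain ⟨n2, h2⟩ := hval 2
    rw [h0, h1, h2, ← pow_add, ← pow_add, ← pow_zero κ.ω, κ.pow_eq_pow_iff] at hprod
    have hg'e : g' = κ.el n0 (n1 + 2 * n0) 0 := by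
      refine Units.ext ?_
      ext a b
      rw [κ.el_apply]
      have e1 : κ.ω ^ n1 = κ.ω ^ (n0 + (n1 + 2 * n0)) := by rw [κ.pow_eq_pow_iff]; omega
      have e2 : κ.ω ^ n2 = κ.ω ^ (n0 + (n1 + 2 * n0) * 2) := by rw [κ.pow_eq_pow_iff]; omega
      fin_cases a <;> fin_cases b <;> simp [hdiag, h0, h1, h2, e1, e2]
    rw [show g = (κ.el 0 0 j)⁻¹ * g' by rw [hg']; group, hg'e]
    exact mul_mem (inv_mem (κ.el_mem _ _ _)) (κ.el_mem _ _ _)
  refine ⟨B, ?_⟩
  rw [← le_antisymm hsup hsub, Subgroup.map_map]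
  conv_lhs => rw [← Subgroup.map_id R]
  congr 1
  ext r
  simp [mul_assoc]

variable {κ}

lemma normalizer_of_conj {g : GL (Fin 3) F} (h : ∀ r ∈ κ.R0, g * r * g⁻¹ ∈ κ.R0) :
    g ∈ Cfsg.Geo.subgroupNormalizer κ.R0 := by
  show g ∈ Subgroup.normalizer (κ.R0 : Set (GL (Fin 3) F))
  rw [Subgroup.mem_normalizer_iff_map_conj_eq]
  exact Subgroup.eq_of_le_of_card_ge (by rintro _ ⟨r, hr, rfl⟩; exact h r hr)
    (le_of_eq (Nat.card_congr (Subgroup.equivMapOfInjective _ _ (MulEquiv.injective _)).toEquiv))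

/-- The normaliser of the model is maximal. -/
theorem model_maximal (hp : (Fintype.card F).Prime) (h5 : (5 : F) ≠ 0) :
    Cfsg.Geo.IsMaximalIn SL3 (Cfsg.Geo.subgroupNormalizer κ.R0 ⊓ SL3) := by
  classical
  constructor
  · refine lt_of_le_of_ne inf_le_right fun heq => ?_
    let T : GL (Fin 3) F :=
      { val := !![1, 1, 0; 0, 1, 0; 0, 0, 1]
        inv := !![1, -1, 0; 0, 1, 0; 0, 0, 1]
        val_inv := by ext i j; fin_cases i <;> fin_cases j <;> simp
        inv_val := by ext i j; fin_cases i <;> fin_cases j <;> simp }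
    have hT : T ∈ SL3 := Transvect.mem_sl_iff.2 (by rw [det_fin_three]; simp [T])
    rw [← heq] at hT
    obtain ⟨a, b, c, hc⟩ := (Subgroup.mem_normalizer_iff.1 hT.1 κ.D).1 κ.D_mem
    have e0 := congrArg (fun m : GL (Fin 3) F => (m : Matrix (Fin 3) (Fin 3) F) 0 0) hc
    have e1 := congrArg (fun m : GL (Fin 3) F => (m : Matrix (Fin 3) (Fin 3) F) 0 1) hc
    simp only [Units.val_mul, κ.el_apply] at e0 e1
    rw [show ((T⁻¹ : GL (Fin 3) F) : Matrix (Fin 3) (Fin 3) F) = !![1, -1, 0; 0, 1, 0; 0, 0, 1] from rfl]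
      at e0 e1
    simp [T, Ctx.D, Matrix.mul_apply, Fin.sum_univ_three] at e0 e1
    have := κ.ne
    split_ifs at e1 e0 <;> first | omega | grind
  intro M hHM hMS
  by_cases hns : SL3 ≤ M
  · exact Or.inr (le_antisymm hMS hns)
  refine Or.inl (le_antisymm (le_inf ?_ hMS) hHM)
  have S : Over κ M :=
    { le := hMS
      R0_le := fun r hr => hHM ⟨Subgroup.le_normalizer hr, κ.R0_le_sl hr⟩
      Fm_mem := hHM ⟨normalizer_of_conj fun r hr => κ.Fm_norm hr, Transvect.mem_sl_iff.2 κ.det_Fm⟩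
      Fm'_mem := hHM ⟨normalizer_of_conj fun r hr => κ.Fm'_norm hr, Transvect.mem_sl_iff.2 κ.det_Fm'⟩ }
  rcases S.cases with h | ⟨P, hP, hR, ht⟩
  · exact h
  exfalso
  have hirr : Cfsg.Geo.ActsIrreducibly (Cfsg.Geo.matrixSet M) := fun W hW =>
    κ.R0_irr W fun s hs => hW s (Set.image_mono S.R0_le hs)
  have C : Core κ M P :=
    { S with cen := no_cen hp hirr hns, core := hP, R0_le_P := hR, t_mem := ht }
  by_cases hν : ∃ ν : F, ν ^ 3 = κ.ω
  · obtain ⟨ν, hν⟩ := hν
    refine C.not_cube ν hν (hHM ⟨normalizer_of_conj ?_, Transvect.mem_sl_iff.2 ?_⟩)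
    · have hν0 : ν ≠ 0 := fun h => κ.ω_ne (by rw [← hν, h]; simp)
      set z := κ.z3 ν hν
      have hDz : z * κ.D = κ.D * z := by
        refine Units.ext ?_
        ext i j
        fin_cases i <;> fin_cases j <;> simp [z, Ctx.z3, Ctx.D, Matrix.mul_apply, Fin.sum_univ_three, mul_comm]
      have hCz : z * κ.C = κ.el 2 1 1 * z := by
        refine Units.ext ?_
        have := κ.cube
        ext i j
        rw [Units.val_mul, Units.val_mul, Matrix.mul_apply, Matrix.mul_apply, Fin.sum_univ_three,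
          Fin.sum_univ_three]
        simp only [κ.el_apply]
        fin_cases i <;> fin_cases j <;> simp [z, Ctx.z3, Ctx.C] <;> grind
      rintro _ ⟨a, b, c, rfl⟩
      rw [← MulAut.conj_apply, Ctx.el, map_mul, map_mul, map_pow, map_pow, map_pow]
      refine mul_mem (mul_mem (pow_mem ?_ a) (pow_mem ?_ b)) (pow_mem ?_ c)
      · rw [MulAut.conj_apply, ← κ.Z_comm, mul_inv_cancel_right]; exact κ.Z_mem_R0
      · rw [MulAut.conj_apply, hDz, mul_inv_cancel_right]; exact κ.D_mem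
      · rw [MulAut.conj_apply, hCz, mul_inv_cancel_right]; exact κ.el_mem _ _ _
    · rw [det_fin_three]
      simp [Ctx.z3]
      have := κ.cube
      linear_combination κ.ω ^ 2 * hν + κ.cube
  · push Not at hν
    exact C.not_noncube hν h5

lemma isMaximalIn_conj {K H : Subgroup (GL (Fin 3) F)} (hK : K.Normal) (h : Cfsg.Geo.IsMaximalIn K H)
    (B : GL (Fin 3) F) : Cfsg.Geo.IsMaximalIn K (H.map (MulAut.conj B).toMonoidHom) := by
  set f := (MulAut.conj B).toMonoidHom
  have hf : Function.Injective f := (MulAut.conj B).injective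
  have hKf : K.map f = K := by
    ext k
    constructor
    · rintro ⟨a, ha, rfl⟩; exact hK.conj_mem a ha B
    · intro hk
      exact ⟨B⁻¹ * k * B, by have := hK.conj_mem k hk B⁻¹; rwa [inv_inv] at this, by
        show B * (B⁻¹ * k * B) * B⁻¹ = k; group⟩
  constructor
  · rw [← hKf]
    exact (Subgroup.map_lt_map_iff_of_injective hf).2 h.1
  · intro M h1 h2
    have hs : Function.Surjective f := (MulAut.conj B).surjective
    obtain ⟨M0, rfl⟩ : ∃ M0, M0.map f = M := ⟨M.comap f, Subgroup.map_comap_eq_self_of_surjective hs M⟩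
    rw [Subgroup.map_le_map_iff_of_injective hf] at h1
    rw [← hKf, Subgroup.map_le_map_iff_of_injective hf] at h2
    rcases h.2 M0 h1 h2 with e | e
    · exact Or.inl (by rw [e])
    · exact Or.inr (by rw [e, hKf])

end Cfsg.Agent.SL3Max.C6

namespace Cfsg.Agent.SL3Max.C6

open Matrix

variable {F : Type*} [Field F] [Fintype F]

/-- The normaliser of an extraspecial group of order 27 is maximal. -/
theorem symplectic_maximal (p : ℕ) (R : Subgroup (GL (Fin 3) F)) (hp : p.Prime) (hcard : Fintype.card F = p)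
    (hp3 : p % 3 = 1) (h : Cfsg.Geo.IsLinearSymplecticTypeData 3 R) :
    Cfsg.Geo.IsMaximalIn (Cfsg.Geo.specialLinear (Fin 3) F)
      (Cfsg.Geo.subgroupNormalizer R ⊓ Cfsg.Geo.specialLinear (Fin 3) F) := by
  subst hcard
  haveI : Fact (Fintype.card F).Prime := ⟨hp⟩
  haveI : Fact (Nat.Prime 3) := ⟨Nat.prime_three⟩
  haveI : CharP F (Fintype.card F) := charP_of_card_eq_prime rfl
  have hne : ∀ k : ℕ, k.Prime → k % 3 ≠ 1 → (k : F) ≠ 0 := fun k hk hk3 h0 => by
    rw [CharP.cast_eq_zero_iff F (Fintype.card F) k, Nat.prime_dvd_prime_iff_eq hp hk] at h0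
    exact hk3 (h0 ▸ hp3)
  have h3 : 3 ∣ Nat.card Fˣ := by
    rw [Nat.card_units, Nat.card_eq_fintype_card]; omega
  obtain ⟨w, hw⟩ := exists_prime_orderOf_dvd_card' (G := Fˣ) 3 h3
  let κ : Ctx F :=
    { ω := w
      cube := by rw [← Units.val_pow_eq_pow_val, ← hw, pow_orderOf_eq_one, Units.val_one]
      ne := fun h1 => by rw [Units.val_eq_one.1 h1, orderOf_one] at hw; norm_num at hw
      two := by exact_mod_cast hne 2 Nat.prime_two (by norm_num) }
  have hexp : ∀ r ∈ R, r ^ 3 = 1 := fun r hr => by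
    have h1 := Monoid.pow_exponent_eq_one (⟨r, hr⟩ : R)
    rw [h.symplecticType.exponent_eq] at h1
    norm_num at h1
    exact h1
  obtain ⟨B, rfl⟩ := exists_conj_model κ h.symplecticType.pGroup hexp h.absIrred
  have h5 : (5 : F) ≠ 0 := by exact_mod_cast hne 5 Nat.prime_five (by norm_num)
  have hK : (Cfsg.Geo.specialLinear (Fin 3) F).Normal := MonoidHom.normal_ker _
  have := isMaximalIn_conj hK (model_maximal (κ := κ) hp h5) B
  convert this using 1
  set f := (MulAut.conj B).toMonoidHom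
  have hsl : (Cfsg.Geo.specialLinear (Fin 3) F).map f = Cfsg.Geo.specialLinear (Fin 3) F := by
    ext k
    constructor
    · rintro ⟨a, ha, rfl⟩; exact hK.conj_mem a ha B
    · intro hk
      exact ⟨B⁻¹ * k * B, by have := hK.conj_mem k hk B⁻¹; rwa [inv_inv] at this, by
        show B * (B⁻¹ * k * B) * B⁻¹ = k; group⟩
  rw [Subgroup.map_inf _ _ f (MulAut.conj B).injective, hsl]
  congr 1
  exact (Subgroup.map_equiv_normalizer_eq κ.R0 (MulAut.conj B)).symm

end Cfsg.Agent.SL3Max.C6
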